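import Groth.Agent.Lib.ImgMT.Sub

/-!
# The image of a homomorphism as a subfunctor
-/

set_option autoImplicit false
universe u

open CategoryTheory CategoryTheory.Limits MonoidalCategory CartesianMonoidalCategory MonObj GrpObj
open AlgebraicGeometry
open Groth.Agent.Lib.RedPts Groth.Agent.Lib.Tori

namespace Groth.Agent.Lib.ImgMT

set_option linter.style.haveILetI false

variable {S : Scheme.{u}}

/-- Flat, surjective and quasi-compact. -/
def IsCov {Y' Y : Over S} (a : Y' ⟶ Y) : Prop := Flat a.left ∧ Surjective a.left ∧ QuasiCompact a.left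

theorem isCov_id (Y : Over S) : IsCov (𝟙 Y) := ⟨inferInstanceAs (Flat (𝟙 Y.left)),
  inferInstanceAs (Surjective (𝟙 Y.left)), inferInstanceAs (QuasiCompact (𝟙 Y.left))⟩

theorem IsCov.comp {Y'' Y' Y : Over S} {b : Y'' ⟶ Y'} {a : Y' ⟶ Y} (hb : IsCov b) (ha : IsCov a) :
    IsCov (b ≫ a) := by
  obtain ⟨h1, h2, h3⟩ := hb
  obtain ⟨g1, g2, g3⟩ := ha
  exact ⟨inferInstanceAs (Flat (b.left ≫ a.left)), inferInstanceAs (Surjective (b.left ≫ a.left)),
    inferInstanceAs (QuasiCompact (b.left ≫ a.left))⟩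

theorem exists_pullback {Y' Y X : Over S} {a : Y' ⟶ Y} (ha : IsCov a) (r : X ⟶ Y) :
    ∃ (X' : Over S) (b : X' ⟶ X) (r' : X' ⟶ Y'), IsCov b ∧ r' ≫ a = b ≫ r := by
  obtain ⟨g1, g2, g3⟩ := ha
  let X' : Over S := Over.mk (pullback.fst r.left a.left ≫ X.hom)
  let r' : X' ⟶ Y' := Over.homMk (pullback.snd r.left a.left) (by
    show pullback.snd r.left a.left ≫ Y'.hom = pullback.fst r.left a.left ≫ X.hom
    rw [← Over.w a, ← pullback.condition_assoc, Over.w r])
  refine ⟨X', Over.homMk (pullback.fst r.left a.left), r', ⟨?_, ?_, ?_⟩, Over.OverMorphism.ext pullback.condition.symm⟩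
  · exact inferInstanceAs (Flat (pullback.fst r.left a.left))
  · exact inferInstanceAs (Surjective (pullback.fst r.left a.left))
  · exact inferInstanceAs (QuasiCompact (pullback.fst r.left a.left))

/-- Morphisms to a subobject descend along covers. -/
theorem exists_desc {Y' Y Z G : Over S} {a : Y' ⟶ Y} (ha : IsCov a) (j : Z ⟶ G) [Mono j] (h' : Y' ⟶ Z)
    (y : Y ⟶ G) (e : h' ≫ j = a ≫ y) : ∃ h : Y ⟶ Z, h ≫ j = y ∧ a ≫ h = h' := by
  obtain ⟨g1, g2, g3⟩ := ha
  haveI : EffectiveEpi a.left := inferInstance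
  have hkey : ∀ {W : Scheme.{u}} (g₁ g₂ : W ⟶ Y'.left), g₁ ≫ a.left = g₂ ≫ a.left →
      g₁ ≫ h'.left = g₂ ≫ h'.left := by
    intro W g₁ g₂ hg
    let W' : Over S := Over.mk (g₁ ≫ Y'.hom)
    let b₁ : W' ⟶ Y' := Over.homMk g₁
    let b₂ : W' ⟶ Y' := Over.homMk g₂ (by
      show g₂ ≫ Y'.hom = g₁ ≫ Y'.hom
      rw [← Over.w a, ← Category.assoc, ← hg, Category.assoc])
    have hb : b₁ ≫ a = b₂ ≫ a := Over.OverMorphism.ext hg
    have : b₁ ≫ h' = b₂ ≫ h' := by
      rw [← cancel_mono j, Category.assoc, Category.assoc, e, ← Category.assoc, hb, Category.assoc]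
    exact congr(($this).left)
  let hl := EffectiveEpi.desc a.left h'.left hkey
  have hhl : a.left ≫ hl = h'.left := EffectiveEpi.fac a.left h'.left hkey
  haveI : Epi a.left := inferInstance
  haveI : Epi a := Over.epi_of_epi_left _
  let h : Y ⟶ Z := Over.homMk hl (by rw [← cancel_epi a.left, ← Category.assoc, hhl, Over.w h', Over.w a])
  have hh : a ≫ h = h' := Over.OverMorphism.ext hhl
  exact ⟨h, by rw [← cancel_epi a, ← Category.assoc, hh, e], hh⟩

variable {E G : Over S}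

/-- The points which are locally in the image of `f`. -/
def imgSub (f : E ⟶ G) : Sub G where
  P {Y} y := ∃ (Y' : Over S) (a : Y' ⟶ Y) (x : Y' ⟶ E), IsCov a ∧ x ≫ f = a ≫ y
  comp {Y Y'} r y := by
    rintro ⟨W, a, x, ha, hx⟩
    obtain ⟨W', b, r', hb, hr⟩ := exists_pullback ha r
    exact ⟨W', b, r' ≫ x, hb, by rw [Category.assoc, hx, ← Category.assoc, hr, Category.assoc]⟩

theorem imgSub_self (f : E ⟶ G) {Y : Over S} (x : Y ⟶ E) : (imgSub f).P (x ≫ f) :=
  ⟨Y, 𝟙 Y, x, isCov_id Y, (Category.id_comp _).symm⟩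

section Grp

variable [GrpObj E] [GrpObj G] (f : E ⟶ G) [IsMonHom f]

theorem imgSub_one (Y : Over S) : (imgSub f).P (1 : Y ⟶ G) := by
  simpa [MonObj.one_comp] using imgSub_self f (1 : Y ⟶ E)

theorem imgSub_mul (Y : Over S) (a b : Y ⟶ G) (ha : (imgSub f).P a) (hb : (imgSub f).P b) :
    (imgSub f).P (a * b) := by
  obtain ⟨Ya, p, x, hp, hx⟩ := ha
  obtain ⟨Yb, q, y, hq, hy⟩ := hb
  obtain ⟨W, p', q', hp', hw⟩ := exists_pullback hq p
  refine ⟨W, p' ≫ p, (p' ≫ x) * (q' ≫ y), hp'.comp hp, ?_⟩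
  rw [MonObj.mul_comp, Category.assoc, Category.assoc, hx, hy, ← Category.assoc, ← Category.assoc, hw, comp_mul]

theorem imgSub_inv (Y : Over S) (a : Y ⟶ G) (ha : (imgSub f).P a) : (imgSub f).P a⁻¹ := by
  obtain ⟨Ya, p, x, hp, hx⟩ := ha
  exact ⟨Ya, p, x⁻¹, hp, by rw [GrpObj.inv_comp, hx, GrpObj.comp_inv]⟩

end Grp

set_option backward.isDefEq.respectTransparency false in
/-- A factorisation by a cover followed by a monomorphism represents the image. -/
theorem rep_of_fac (f : E ⟶ G) {T : Scheme.{u}} (t : T ⟶ S) {Z' : Over T} (j : Z' ⟶ Red.bc t G) [Mono j]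
    (q : Red.bc t E ⟶ Z') (hq : IsCov q) (hqj : q ≫ j = (Over.pullback t).map f) (Y : Over T)
    (y : Y ⟶ Red.bc t G) : (∃ h, h ≫ j = y) ↔ (imgSub f).P (BC.down t y) := by
  constructor
  · rintro ⟨h, rfl⟩
    obtain ⟨Y', a, x, ha, hx⟩ := exists_pullback hq h
    refine ⟨(Over.map t).obj Y', (Over.map t).map a, BC.down t x, ha, ?_⟩
    rw [← BC.down_map, ← hqj, ← Category.assoc, hx, Category.assoc, BC.down_comp]
  · rintro ⟨Y', a, x, ha, hx⟩
    let Y'T : Over T := Over.mk (a.left ≫ Y.hom)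
    let aT : Y'T ⟶ Y := Over.homMk a.left
    let ε : (Over.map t).obj Y'T ⟶ Y' := Over.homMk (U := (Over.map t).obj Y'T) (𝟙 Y'.left) (by
      show 𝟙 _ ≫ Y'.hom = (a.left ≫ Y.hom) ≫ t
      rw [Category.id_comp, ← Over.w a, Category.assoc]
      rfl)
    have hεa : ε ≫ a = (Over.map t).map aT := Over.OverMorphism.ext (Category.id_comp a.left)
    have e : (BC.up t (ε ≫ x) ≫ q) ≫ j = aT ≫ y := by
      apply BC.down_injective
      rw [Category.assoc, hqj, BC.down_map, BC.down_up, BC.down_comp, Category.assoc, hx, ← Category.assoc, hεa]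
    obtain ⟨h, hh, -⟩ := exists_desc (a := aT) ⟨ha.1, ha.2.1, ha.2.2⟩ j _ y e
    exact ⟨h, hh⟩

end Groth.Agent.Lib.ImgMT
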