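import Groth.Agent.Lib.ImgMT.Sub
import Groth.Agent.Lib.ImgMT.Image
import Groth.Agent.S0083
import Groth.Agent.H87.MultTorsion

/-!
# The image of a homomorphism which is diagonalisable on the members of an fpqc family
-/

set_option autoImplicit false
set_option linter.unusedSectionVars false
universe u

open CategoryTheory MonoidalCategory CartesianMonoidalCategory MonObj GrpObj AlgebraicGeometry
open CategoryTheory.Limits
open Groth.Agent.Lib.RedPts Groth.Agent.Lib.Tori Groth.Agent.H87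

namespace Groth.Agent.Lib.ImgMT

set_option linter.style.haveILetI false

variable {S : Scheme.{u}} {κ : Type u} {X : κ → Scheme.{u}} {c : ∀ k, X k ⟶ S}

set_option backward.isDefEq.respectTransparency false in
/-- A property of a morphism which holds on the members of an fpqc family holds. -/
theorem fib_descend_family (hmem : Presieve.ofArrows X c ∈ Scheme.fpqcPrecoverage S)
    (P : MorphismProperty Scheme.{u}) [IsZariskiLocalAtTarget P]
    [hP : P.DescendsAlong (@Surjective ⊓ @Flat ⊓ @QuasiCompact)] {A B : Over S} (u : A ⟶ B)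
    (h : ∀ k, Charts.Fib P (c k) u) : P u.left := by
  let pr : ∀ k, pullback B.hom (c k) ⟶ B.left := fun k => pullback.fst B.hom (c k)
  have hmem' : Presieve.ofArrows (fun k => pullback B.hom (c k)) pr ∈ Scheme.fpqcPrecoverage B.left :=
    Precoverage.mem_coverings_of_isPullback _ hmem B.hom pr (fun k => pullback.snd B.hom (c k))
      fun k => IsPullback.of_hasPullback _ _
  refine HomFam.prop_of_pieces pr hmem' P hP (Over.mk u.left) (fun k => Over.mk ((Over.pullback (c k)).map u).left)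
    (fun k => ⟨Over.isoMk (Charts.isPullback_map (c k) u).flip.isoPullback.symm ?_⟩) h
  exact (Charts.isPullback_map (c k) u).flip.isoPullback_inv_fst

variable {E G : Over S} [GrpObj E] [GrpObj G] [IsAffineHom E.hom] [IsSeparated G.hom]

set_option backward.isDefEq.respectTransparency false in
/-- **Gluing of images.** -/
theorem exists_image_glue (f : E ⟶ G) [IsMonHom f] (hmem : Presieve.ofArrows X c ∈ Scheme.fpqcPrecoverage S)
    {Z' : ∀ k, Over (X k)} [∀ k, GrpObj (Z' k)] [∀ k, IsAffineHom (Z' k).hom] (z' : ∀ k, Z' k ⟶ Red.bc (c k) G)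
    [∀ k, IsMonHom (z' k)] [∀ k, Mono (z' k)] (hcl : ∀ k, IsClosedImmersion (z' k).left)
    (q : ∀ k, Red.bc (c k) E ⟶ Z' k) (hq : ∀ k, IsCov (q k))
    (hqz : ∀ k, q k ≫ z' k = (Over.pullback (c k)).map f) :
    ∃ (Q : Over S) (_ : GrpObj Q) (j : Q ⟶ G) (_ : IsMonHom j) (f' : E ⟶ Q) (_ : IsMonHom f'),
      Mono j ∧ IsClosedImmersion j.left ∧ IsCov f' ∧ f' ≫ j = f ∧
      (∀ k, Nonempty (Grp.mk (Red.bc (c k) Q) ≅ Grp.mk (Z' k))) ∧
      ∀ {Y : Over S} (g : Y ⟶ G), (imgSub f).P g → ∃ r, r ≫ j = g := by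
  obtain ⟨Q, gQ, j, hjm, hj, hchart, hcrit⟩ := exists_subgroup (Φ := imgSub f) (z' := z') hmem
    (fun k Y y => rep_of_fac f (c k) (z' k) (q k) (hq k) (hqz k) Y y)
    (imgSub_one f) (imgSub_mul f) (imgSub_inv f)
  letI := gQ
  haveI := hjm
  haveI := hj
  obtain ⟨f', hf'⟩ := (hcrit f).2 (crit_of_P (by simpa using imgSub_self f (𝟙 E)))
  haveI hf'm : IsMonHom f' := HomDS.isMonHom_of_points f' fun W a b => by
    rw [← cancel_mono j, MonObj.mul_comp _ _ j, Category.assoc, Category.assoc, Category.assoc, hf',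
      MonObj.mul_comp _ _ f]
  choose φ hφ using hchart
  haveI hcli : IsClosedImmersion j.left := by
    refine fib_descend_family hmem (@IsClosedImmersion) j fun k => ?_
    show IsClosedImmersion ((Over.pullback (c k)).map j).left
    rw [← hφ k, Over.comp_left]
    haveI : IsIso (BaseChange.overIso (φ k)).hom.left :=
      inferInstanceAs (IsIso ((Over.forget _).map (BaseChange.overIso (φ k)).hom))
    haveI := hcl k
    infer_instance
  have hff : ∀ k, Flat ((Over.pullback (c k)).map f').left ∧ Surjective ((Over.pullback (c k)).map f').left := fun k => by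
    have h1 : (Over.pullback (c k)).map f' = q k ≫ (BaseChange.overIso (φ k)).inv := by
      rw [Iso.eq_comp_inv, ← cancel_mono (z' k), Category.assoc, hφ k, hqz k, ← Functor.map_comp, hf']
    haveI : IsIso (BaseChange.overIso (φ k)).inv.left :=
      inferInstanceAs (IsIso ((Over.forget _).map (BaseChange.overIso (φ k)).inv))
    obtain ⟨h2, h3, -⟩ := hq k
    rw [h1, Over.comp_left]
    exact ⟨inferInstance, inferInstance⟩
  have hqc : QuasiCompact f'.left := by
    haveI : IsSeparated Q.hom := by rw [← Over.w j]; infer_instance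
    haveI : QuasiCompact (f'.left ≫ Q.hom) := by rw [Over.w f']; infer_instance
    exact QuasiCompact.of_comp f'.left Q.hom
  refine ⟨Q, gQ, j, hjm, f', hf'm, hj, hcli, ⟨fib_descend_family hmem (@Flat) f' fun k => (hff k).1,
    fib_descend_family hmem (@Surjective) f' fun k => (hff k).2, hqc⟩, hf', fun k => ⟨φ k⟩,
    fun g hg => (hcrit g).2 (crit_of_P hg)⟩

/-- Two factorisations by covers followed by monomorphisms agree. -/
theorem exists_iso_of_fac {E G Q₁ Q₂ : Over S} (j₁ : Q₁ ⟶ G) [Mono j₁] (j₂ : Q₂ ⟶ G) [Mono j₂]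
    (f₁ : E ⟶ Q₁) (f₂ : E ⟶ Q₂) (h₁ : IsCov f₁) (h₂ : IsCov f₂) (e : f₁ ≫ j₁ = f₂ ≫ j₂) :
    ∃ i : Q₁ ≅ Q₂, i.hom ≫ j₂ = j₁ ∧ f₁ ≫ i.hom = f₂ := by
  obtain ⟨a, ha, ha'⟩ := exists_desc h₁ j₂ f₂ j₁ e.symm
  obtain ⟨b, hb, hb'⟩ := exists_desc h₂ j₁ f₁ j₂ e
  exact ⟨⟨a, b, by rw [← cancel_mono j₁, Category.assoc, hb, ha, Category.id_comp],
    by rw [← cancel_mono j₂, Category.assoc, ha, hb, Category.id_comp]⟩, ha, ha'⟩

end Groth.Agent.Lib.ImgMT
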