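import Groth.Agent.Lib.ImgMT.Decomp
import Groth.Agent.Lib.ImgMT.Glue

/-!
# `fT` against base change
-/

set_option autoImplicit false
set_option linter.unusedSectionVars false
universe u

open CategoryTheory MonoidalCategory CartesianMonoidalCategory MonObj GrpObj AlgebraicGeometry
open CategoryTheory.Limits
open Groth.Agent.Lib.RedPts Groth.Agent.Lib.Tori Groth.Agent.H87
open Groth.Agent.H87.CentralEq (lo)

namespace Groth.Agent.Lib.ImgMT

variable {S T : Scheme.{u}} {M N : Type} [AddCommGroup M] [AddCommGroup N]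

theorem bcCongr_fst {f f' : T ⟶ S} (h : f = f') (X : Over S) [GrpObj X] :
  (BaseChange.overIso (BaseChange.bcCongr h X)).hom.left ≫ pullback.fst X.hom f' = pullback.fst X.hom f := by
  subst h
  simp [BaseChange.bcCongr, BaseChange.overIso]
  exact Category.id_comp _

set_option backward.isDefEq.respectTransparency false in
theorem dsBC_fst (g : T ⟶ S) : (BaseChange.overIso (DS.dsBC M g)).hom.left ≫ pullback.fst _ _ =
    pullback.fst _ g ≫ pullback.fst _ _ := by
  have h := bcCongr_fst (Limits.IsTerminal.hom_ext specULiftZIsTerminal (g ≫ specULiftZIsTerminal.from S)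
    (specULiftZIsTerminal.from T)) (Red.diag (ULift.{u} ℤ) M)
  simp only [DS.dsBC, BaseChange.overIso, Functor.mapIso_trans, Iso.trans_hom, Over.comp_left, Category.assoc] at h ⊢
  rw [h]
  simp [BaseChange.bcComp, Over.pullbackComp]
  exact Category.id_comp _

set_option backward.isDefEq.respectTransparency false in
theorem dsFn_down {g : T ⟶ S} {Y : Over T} (y : Y ⟶ Red.bc g (Red.DS S M)) (m : M) :
    Gm.dsFn (BC.down g y) m = Gm.dsFn (y ≫ (BaseChange.overIso (DS.dsBC M g)).hom) m := by
  rw [Gm.dsFn, Gm.dsFn, Affine.diagFn, Affine.diagFn, Points.algHomOf_apply, Points.algHomOf_apply]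
  refine congrArg (fun h => Points.ringHomOf h _) ?_
  rw [BC.down_left, BC.down_left, BC.down_left, Over.comp_left]
  exact (Category.assoc _ _ _).trans ((congrArg (y.left ≫ ·) (dsBC_fst g).symm).trans (Category.assoc _ _ _).symm)

theorem down_eq_lo (g : T ⟶ S) {Y : Over T} (y : Y ⟶ Red.bc g (Red.DS S M)) :
    BC.down g y = lo g (y ≫ (BaseChange.overIso (DS.dsBC M g)).hom) :=
  Gm.dsFn_ext fun m => (dsFn_down y m).trans (CentralEq.dsFn_lo g _ m).symm

/-- Base change of a homomorphism from a diagonalisable group. -/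
theorem map_eq_fT {G : Over S} [GrpObj G] (g : T ⟶ S) (f : Red.DS S M ⟶ G) :
    (Over.pullback g).map f = (BaseChange.overIso (DS.dsBC M g)).hom ≫ fT g f := by
  apply BC.down_injective
  rw [down_comp_fT, ← Category.id_comp ((Over.pullback g).map f), BC.down_map, down_eq_lo, Category.id_comp]

theorem map_DSmap (g : T ⟶ S) (φ : N →+ M) :
    (Over.pullback g).map (Red.DSmap S φ) ≫ (BaseChange.overIso (DS.dsBC N g)).hom =
      (BaseChange.overIso (DS.dsBC M g)).hom ≫ Red.DSmap T φ := by
  apply Gm.dsFn_ext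
  intro m
  rw [Gm.dsFn_DSmap, ← Category.id_comp ((Over.pullback g).map (Red.DSmap S φ)), ← dsFn_down, BC.down_map,
    Gm.dsFn_DSmap, dsFn_down, Category.id_comp]

end Groth.Agent.Lib.ImgMT
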