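import Groth.Agent.Lib.ImgMT.ImageMT
import Groth.Agent.H87.Normal

/-!
# Products and directedness of locally split subtori
-/

set_option autoImplicit false
set_option linter.unusedSectionVars false
universe u

open CategoryTheory MonoidalCategory CartesianMonoidalCategory MonObj GrpObj AlgebraicGeometry
open CategoryTheory.Limits
open Groth.Agent.Lib.RedPts Groth.Agent.Lib.Tori Groth.Agent.H87

namespace Groth.Agent.Lib.ImgMT

set_option linter.style.haveILetI false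

variable {S : Scheme.{u}}

/-- A point of `D(M)` with given characters. -/
theorem exists_pt_prod {M₁ M₂ : Type} [AddCommGroup M₁] [AddCommGroup M₂] {X : Over S} (a : X ⟶ Red.DS S M₁)
    (b : X ⟶ Red.DS S M₂) : ∃! x : X ⟶ Red.DS S (M₁ × M₂),
      x ≫ Red.DSmap S (AddMonoidHom.inl M₁ M₂) = a ∧ x ≫ Red.DSmap S (AddMonoidHom.inr M₁ M₂) = b := by
  let χ : Multiplicative (M₁ × M₂) →* Γ(X.left, ⊤) :=
    { toFun := fun m => Gm.dsFn a m.toAdd.1 * Gm.dsFn b m.toAdd.2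
      map_one' := by
        show Gm.dsFn a 0 * Gm.dsFn b 0 = 1
        rw [Gm.dsFn_zero, Gm.dsFn_zero, _root_.one_mul]
      map_mul' := fun p q => by
        show Gm.dsFn a (p.toAdd.1 + q.toAdd.1) * Gm.dsFn b (p.toAdd.2 + q.toAdd.2) = _
        rw [Gm.dsFn_add, Gm.dsFn_add]
        exact mul_mul_mul_comm _ _ _ _ }
  have h1 : Gm.dsPt χ ≫ Red.DSmap S (AddMonoidHom.inl M₁ M₂) = a := Gm.dsFn_ext fun m => by
    rw [Gm.dsFn_DSmap, Gm.dsFn_dsPt]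
    show Gm.dsFn a m * Gm.dsFn b 0 = _
    rw [Gm.dsFn_zero, _root_.mul_one]
  have h2 : Gm.dsPt χ ≫ Red.DSmap S (AddMonoidHom.inr M₁ M₂) = b := Gm.dsFn_ext fun m => by
    rw [Gm.dsFn_DSmap, Gm.dsFn_dsPt]
    show Gm.dsFn a 0 * Gm.dsFn b m = _
    rw [Gm.dsFn_zero, _root_.one_mul]
  refine ⟨_, ⟨h1, h2⟩, fun y ⟨hy1, hy2⟩ => Gm.dsFn_ext fun m => ?_⟩
  rw [Gm.dsFn_dsPt]
  show _ = Gm.dsFn a m.1 * Gm.dsFn b m.2
  rw [← hy1, ← hy2, Gm.dsFn_DSmap, Gm.dsFn_DSmap, ← Gm.dsFn_add]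
  simp

set_option backward.isDefEq.respectTransparency false in
/-- The product of two diagonalised groups is diagonalised. -/
theorem exists_prod_chart {E₁ E₂ : Over S} [GrpObj E₁] [GrpObj E₂] {T : Scheme.{u}} (c : T ⟶ S)
    {M₁ M₂ : Type} [AddCommGroup M₁] [AddCommGroup M₂]
    (e₁ : Grp.mk (Red.bc c E₁) ≅ Grp.mk (Red.DS T M₁)) (e₂ : Grp.mk (Red.bc c E₂) ≅ Grp.mk (Red.DS T M₂)) :
    Nonempty (Grp.mk (Red.bc c (E₁ ⊗ E₂)) ≅ Grp.mk (Red.DS T (M₁ × M₂))) := by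
  let a := (Over.pullback c).map (fst E₁ E₂) ≫ (BaseChange.overIso e₁).hom
  let b := (Over.pullback c).map (snd E₁ E₂) ≫ (BaseChange.overIso e₂).hom
  obtain ⟨x, ⟨hxa, hxb⟩, -⟩ := exists_pt_prod a b
  let i₁ := Red.DSmap T (AddMonoidHom.inl M₁ M₂)
  let i₂ := Red.DSmap T (AddMonoidHom.inr M₁ M₂)
  haveI : IsMonHom i₁ := Gm.isMonHom_DSmap _
  haveI : IsMonHom i₂ := Gm.isMonHom_DSmap _
  haveI : IsMonHom (fst E₁ E₂) := inferInstance
  haveI : IsMonHom (snd E₁ E₂) := inferInstance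
  let y : Red.DS T (M₁ × M₂) ⟶ Red.bc c (E₁ ⊗ E₂) :=
    BC.up c (lift (BC.down c (i₁ ≫ (BaseChange.overIso e₁).inv)) (BC.down c (i₂ ≫ (BaseChange.overIso e₂).inv)))
  haveI : Mono (BaseChange.overIso e₁).inv := @IsIso.mono_of_iso _ _ _ _ _ (Iso.isIso_inv _)
  haveI : Mono (BaseChange.overIso e₂).inv := @IsIso.mono_of_iso _ _ _ _ _ (Iso.isIso_inv _)
  haveI : Mono (BaseChange.overIso e₁).hom := @IsIso.mono_of_iso _ _ _ _ _ (Iso.isIso_hom _)
  haveI : Mono (BaseChange.overIso e₂).hom := @IsIso.mono_of_iso _ _ _ _ _ (Iso.isIso_hom _)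
  have hy : ∀ (X : Over T) (z : X ⟶ Red.DS T (M₁ × M₂)),
      (z ≫ y) ≫ a = z ≫ i₁ ∧ (z ≫ y) ≫ b = z ≫ i₂ := by
    intro X z
    constructor
    · rw [← cancel_mono (BaseChange.overIso e₁).inv]
      simp only [a, Category.assoc, Iso.hom_inv_id, Category.comp_id]
      refine congrArg (z ≫ ·) (BC.down_injective ?_)
      rw [BC.down_map, BC.down_up, lift_fst]
    · rw [← cancel_mono (BaseChange.overIso e₂).inv]
      simp only [b, Category.assoc, Iso.hom_inv_id, Category.comp_id]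
      refine congrArg (z ≫ ·) (BC.down_injective ?_)
      rw [BC.down_map, BC.down_up, lift_snd]
  have hab : ∀ (X : Over T) (p q : X ⟶ Red.bc c (E₁ ⊗ E₂)), p ≫ a = q ≫ a → p ≫ b = q ≫ b → p = q := by
    intro X p q h1 h2
    simp only [a, b, ← Category.assoc] at h1 h2
    replace h1 := (cancel_mono _).1 h1
    replace h2 := (cancel_mono _).1 h2
    apply BC.down_injective
    refine CartesianMonoidalCategory.hom_ext _ _ ?_ ?_
    · rw [← BC.down_map, ← BC.down_map, h1]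
    · rw [← BC.down_map, ← BC.down_map, h2]
  let φ : Red.bc c (E₁ ⊗ E₂) ≅ Red.DS T (M₁ × M₂) :=
    { hom := x
      inv := y
      hom_inv_id := hab _ _ _ (((hy _ x).1.trans hxa).trans (Category.id_comp a).symm)
        (((hy _ x).2.trans hxb).trans (Category.id_comp b).symm)
      inv_hom_id := by
        obtain ⟨w, -, hu⟩ := exists_pt_prod (i₁) (i₂)
        have h1 := hy _ (𝟙 _)
        rw [Category.id_comp, Category.id_comp, Category.id_comp] at h1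
        exact (hu _ ⟨by rw [Category.assoc, hxa]; exact h1.1, by rw [Category.assoc, hxb]; exact h1.2⟩).trans
          (hu _ ⟨Category.id_comp _, Category.id_comp _⟩).symm }
  haveI : IsMonHom φ.hom := HomDS.isMonHom_of_points x fun X p q => by
    obtain ⟨w, -, hu⟩ := exists_pt_prod ((p * q) ≫ a) ((p * q) ≫ b)
    refine (hu _ ⟨?_, ?_⟩).trans (hu _ ⟨?_, ?_⟩).symm
    · rw [Category.assoc, hxa]
    · rw [Category.assoc, hxb]
    · rw [MonObj.mul_comp _ _ i₁, Category.assoc, Category.assoc, hxa, MonObj.mul_comp p q a]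
    · rw [MonObj.mul_comp _ _ i₂, Category.assoc, Category.assoc, hxb, MonObj.mul_comp p q b]
  exact ⟨BaseChange.grpIso φ⟩

/-- Zariski-locally a split torus. -/
abbrev LocSplitTorus (E : Over S) [GrpObj E] : Prop :=
  ∀ s : ↥S, ∃ U : S.Opens, s ∈ U ∧ ∃ r : ℕ, Red.IsSplitTorusWith (Fin r → ℤ) (Red.bc U.ι E)

theorem isAffineHom_of_locSplit {E : Over S} [GrpObj E] (h : LocSplitTorus E) : IsAffineHom E.hom :=
  isAffineHom_of_zariski_DS fun s => by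
    obtain ⟨U, hU, r, e⟩ := h s
    exact ⟨U, hU, _, inferInstance, e⟩

/-- **Locally split subtori of a group of multiplicative type form a directed family.** -/
theorem exists_ge_of_two {G : Over S} [GrpObj G] (hG : SGA3x.IsMultTypeFT G) {E₁ E₂ : Over S} [GrpObj E₁] [GrpObj E₂]
    (j₁ : E₁ ⟶ G) [IsMonHom j₁] (j₂ : E₂ ⟶ G) [IsMonHom j₂] (h₁ : LocSplitTorus E₁) (h₂ : LocSplitTorus E₂) :
    ∃ (E₃ : Over S) (_ : GrpObj E₃) (j₃ : E₃ ⟶ G) (g₁ : E₁ ⟶ E₃) (g₂ : E₂ ⟶ E₃), IsMonHom j₃ ∧ Mono j₃ ∧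
      LocSplitTorus E₃ ∧ g₁ ≫ j₃ = j₁ ∧ g₂ ≫ j₃ = j₂ := by
  haveI := MT.isAffineHom hG
  haveI := MT.locallyOfFinitePresentation hG
  let E := E₁ ⊗ E₂
  let f : E ⟶ G := (fst E₁ E₂ ≫ j₁) * (snd E₁ E₂ ≫ j₂)
  haveI : IsMonHom f := HomDS.isMonHom_of_points f fun X p q => by
    haveI : IsMonHom (fst E₁ E₂) := inferInstance
    haveI : IsMonHom (snd E₁ E₂) := inferInstance
    simp only [f, comp_mul]
    rw [MonObj.mul_comp p q (fst E₁ E₂ ≫ j₁), MonObj.mul_comp p q (snd E₁ E₂ ≫ j₂)]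
    have h4 := Normal.comm hG (q ≫ fst E₁ E₂ ≫ j₁) (p ≫ snd E₁ E₂ ≫ j₂)
    rw [_root_.mul_assoc, ← _root_.mul_assoc (q ≫ fst E₁ E₂ ≫ j₁), h4]
    simp only [_root_.mul_assoc]
  choose U₁ hU₁ r₁ he₁ using h₁
  choose U₂ hU₂ r₂ he₂ using h₂
  let U : ↥S → S.Opens := fun s => U₁ s ⊓ U₂ s
  have he : ∀ s, Nonempty (Grp.mk (Red.bc ((U s).ι ≫ 𝟙 S) E) ≅
      Grp.mk (Red.DS (U s : Scheme.{u}) ((Fin (r₁ s) → ℤ) × (Fin (r₂ s) → ℤ)))) := fun s => by
    obtain ⟨e₁⟩ := he₁ s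
    obtain ⟨e₂⟩ := he₂ s
    exact exists_prod_chart _ (BaseChange.bcCongr (by simp [U]) E₁ ≪≫ Charts.resChart e₁ (S.homOfLE inf_le_left))
      (BaseChange.bcCongr (by simp [U]) E₂ ≪≫ Charts.resChart e₂ (S.homOfLE inf_le_right))
  haveI : IsAffineHom E.hom := isAffineHom_of_zariski_DS fun s =>
    ⟨U s, ⟨hU₁ s, hU₂ s⟩, _, inferInstance,
      (he s).map fun e => BaseChange.bcCongr (Category.comp_id _).symm E ≪≫ e⟩
  obtain ⟨Q, gQ, j, hjm, f', hf', hjmono, -, -, -, hQ, hrep⟩ := exists_image_charts (𝟙 S)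
    (fun O hO => ⟨O, hO.isCompact, Set.image_id _⟩) U (fun s => ⟨hU₁ s, hU₂ s⟩)
    (fun s => (Fin (r₁ s) → ℤ) × (Fin (r₂ s) → ℤ)) he f
  obtain ⟨g₁, hg₁⟩ := hrep j₁ (by
    have := imgSub_self f (lift (𝟙 E₁) (1 : E₁ ⟶ E₂))
    simpa [f, comp_mul] using this)
  obtain ⟨g₂, hg₂⟩ := hrep j₂ (by
    have := imgSub_self f (lift (1 : E₂ ⟶ E₁) (𝟙 E₂))
    simpa [f, comp_mul] using this)
  refine ⟨Q, gQ, j, g₁, g₂, hjm, hjmono, fun s => ?_, hg₁, hg₂⟩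
  obtain ⟨V, hV, Λ, hΛ, ⟨e⟩⟩ := hQ s
  haveI : AddGroup.FG Λ := (AddGroup.fg_iff_addSubgroup_fg Λ).mpr hΛ
  haveI : Module.Finite ℤ Λ := Module.Finite.iff_addGroup_fg.mpr inferInstance
  haveI : IsAddTorsionFree Λ := Function.Injective.isAddTorsionFree Λ.subtype Λ.subtype_injective
  haveI : Module.Free ℤ Λ := inferInstance
  exact ⟨V, hV, Module.finrank ℤ Λ, ⟨BaseChange.bcCongr (Category.comp_id _).symm Q ≪≫ e ≪≫
    DS.dsIso _ (Module.finBasis ℤ Λ).equivFun.toAddEquiv.symm⟩⟩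

end Groth.Agent.Lib.ImgMT
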