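import Groth.Agent.Lib.ImgMT.ImageMT
import Groth.Agent.Lib.ImgMT.Subtori
import Groth.Agent.H87.GmFibre
import Mathlib.GroupTheory.Torsion

/-!
# The maximal torus of a group of multiplicative type: the infinitely divisible points
-/

set_option autoImplicit false
set_option linter.unusedSectionVars false
universe u

open CategoryTheory MonoidalCategory CartesianMonoidalCategory MonObj GrpObj AlgebraicGeometry
open CategoryTheory.Limits
open Groth.Agent.Lib.RedPts Groth.Agent.Lib.Tori Groth.Agent.H87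

namespace Groth.Agent.Lib.ImgMT

set_option linter.style.haveILetI false

variable {S : Scheme.{u}}

/-- The `n`-th power. -/
noncomputable def powN (G : Over S) [GrpObj G] (n : ℕ) : G ⟶ G := (𝟙 G) ^ n

theorem comp_powN {G : Over S} [GrpObj G] {Y : Over S} (x : Y ⟶ G) (n : ℕ) : x ≫ powN G n = x ^ n := by
  rw [powN, MonObj.comp_pow, Category.comp_id]

theorem isMonHom_powN {G : Over S} [GrpObj G] (hc : ∀ (X : Over S) (a b : X ⟶ G), a * b = b * a) (n : ℕ) :
    IsMonHom (powN G n) :=
  HomDS.isMonHom_of_points _ fun X a b => by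
    rw [comp_powN, comp_powN, comp_powN]
    exact Commute.mul_pow (hc X a b) n

theorem map_powN {T : Scheme.{u}} (t : T ⟶ S) (G : Over S) [GrpObj G] (n : ℕ) :
    (Over.pullback t).map (powN G n) = powN (Red.bc t G) n := by
  apply BC.down_injective
  rw [← Category.id_comp ((Over.pullback t).map (powN G n)), BC.down_map, comp_powN, powN]
  exact (map_pow (BC.downMulEquiv t (Red.bc t G) G) (𝟙 (Red.bc t G)) n).symm

/-- The infinitely divisible points. -/
def divSub (G : Over S) [GrpObj G] : Sub G where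
  P {Y} y := ∀ n : ℕ, 0 < n → (imgSub (powN G n)).P y
  comp r y h n hn := (imgSub (powN G n)).comp r y (h n hn)

theorem powN_conj {G G' : Over S} [GrpObj G] [GrpObj G'] (E : G ≅ G') [IsMonHom E.hom] (n : ℕ) :
    powN G n = E.hom ≫ powN G' n ≫ E.inv := by
  rw [← Category.assoc, Iso.eq_comp_inv, comp_powN, powN, MonObj.pow_comp, Category.id_comp]

theorem powN_DS (M : Type) [AddCommGroup M] (n : ℕ) :
    powN (Red.DS S M) n = Red.DSmap S (nsmulAddMonoidHom (α := M) n) := by
  refine Gm.dsFn_ext fun m => ?_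
  rw [powN, Gm.dsFn_pow, ← Gm.dsFn_nsmul, DS.dsFn_DSmap_self]; rfl

set_option backward.isDefEq.respectTransparency false in
theorem imgSub_bc {E G : Over S} (f : E ⟶ G) {T : Scheme.{u}} (t : T ⟶ S) {Y : Over T}
    (y : Y ⟶ Red.bc t G) : (imgSub f).P (BC.down t y) ↔ (imgSub ((Over.pullback t).map f)).P y := by
  constructor
  · rintro ⟨Y', a, x, ha, hx⟩
    let Y'T : Over T := Over.mk (a.left ≫ Y.hom)
    let aT : Y'T ⟶ Y := Over.homMk a.left
    let ε : (Over.map t).obj Y'T ⟶ Y' := Over.homMk (U := (Over.map t).obj Y'T) (𝟙 Y'.left) (by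
      show 𝟙 _ ≫ Y'.hom = (a.left ≫ Y.hom) ≫ t
      rw [Category.id_comp, ← Over.w a, Category.assoc]
      rfl)
    have hεa : ε ≫ a = (Over.map t).map aT := Over.OverMorphism.ext (Category.id_comp a.left)
    refine ⟨Y'T, aT, BC.up t (ε ≫ x), ⟨ha.1, ha.2.1, ha.2.2⟩, BC.down_injective ?_⟩
    rw [BC.down_map, BC.down_up, BC.down_comp, Category.assoc, hx, ← Category.assoc, hεa]
  · rintro ⟨Y', a, x, ha, hx⟩
    refine ⟨(Over.map t).obj Y', (Over.map t).map a, BC.down t x, ha, ?_⟩
    rw [← BC.down_map, hx, BC.down_comp]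

/-- Transport of divisibility along an isomorphism of groups. -/
theorem imgSub_powN_iso {G G' : Over S} [GrpObj G] [GrpObj G'] (e : G ⟶ G') [IsMonHom e] (n : ℕ) {Y : Over S}
    {y : Y ⟶ G} (h : (imgSub (powN G n)).P y) : (imgSub (powN G' n)).P (y ≫ e) := by
  obtain ⟨Y', a, x, ha, hx⟩ := h
  exact ⟨Y', a, x ≫ e, ha, by rw [comp_powN, ← MonObj.pow_comp, ← comp_powN, hx, Category.assoc]⟩

/-- The divisible points of `D(N)` are those which kill the torsion. -/
theorem divSub_DS {N : Type} [AddCommGroup N] [AddGroup.FG N] {Y : Over S} (y : Y ⟶ Red.DS S N) :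
    (divSub (Red.DS S N)).P y ↔ ∀ m ∈ AddCommGroup.torsion N, Gm.dsFn y m = 1 := by
  constructor
  · intro h m hm
    have hfin : IsOfFinAddOrder m := hm
    obtain ⟨Y', a, x, ha, hx⟩ := h (addOrderOf m) hfin.addOrderOf_pos
    refine ha.dsFn_eq_one y m ?_
    rw [← hx, comp_powN, Gm.dsFn_pow, ← Gm.dsFn_nsmul, addOrderOf_nsmul_eq_zero, Gm.dsFn_zero]
  · intro h n hn
    obtain ⟨z, hz⟩ := exists_fac_quot (AddCommGroup.torsion N) y h
    let φ : N ⧸ AddCommGroup.torsion N →+ N ⧸ AddCommGroup.torsion N := nsmulAddMonoidHom n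
    have hφ : Function.Injective φ := by
      rw [injective_iff_map_eq_zero]
      intro q hq
      obtain ⟨m, rfl⟩ := QuotientAddGroup.mk_surjective q
      have h1 : n • m ∈ AddCommGroup.torsion N := (QuotientAddGroup.eq_zero_iff _).1 hq
      refine (QuotientAddGroup.eq_zero_iff _).2 ?_
      obtain ⟨k, hk, hk'⟩ := (isOfFinAddOrder_iff_nsmul_eq_zero).1 (show IsOfFinAddOrder (n • m) from h1)
      exact (isOfFinAddOrder_iff_nsmul_eq_zero).2 ⟨k * n, Nat.mul_pos hk hn, by rw [mul_nsmul', hk']⟩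
    obtain ⟨Y', a, x, ha, hx⟩ := exists_pullback (isCov_DSmap (S := S) hφ) z
    haveI : IsMonHom (Red.DSmap S (QuotientAddGroup.mk' (AddCommGroup.torsion N))) := Gm.isMonHom_DSmap _
    refine ⟨Y', a, x ≫ Red.DSmap S (QuotientAddGroup.mk' (AddCommGroup.torsion N)), ha, ?_⟩
    rw [comp_powN, ← hz, ← Category.assoc, ← hx]
    rw [← @MonObj.pow_comp _ _ _ _ _ _ _ _ x n (Red.DSmap S (QuotientAddGroup.mk' (AddCommGroup.torsion N))) this]
    refine congrArg (· ≫ _) (Gm.dsFn_ext fun m => ?_)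
    rw [Gm.dsFn_pow, Gm.dsFn_DSmap, ← Gm.dsFn_nsmul]
    rfl

set_option backward.isDefEq.respectTransparency false in
/-- The divisible points in a chart. -/
theorem divSub_chart {G : Over S} [GrpObj G] {T : Scheme.{u}} (c : T ⟶ S) {N : Type} [AddCommGroup N]
    [AddGroup.FG N] (e : Red.bc c G ⟶ Red.DS T N) (e' : Red.DS T N ⟶ Red.bc c G) [IsMonHom e] [IsMonHom e']
    (he : e ≫ e' = 𝟙 _) {Y : Over T} (y : Y ⟶ Red.bc c G) :
    (divSub G).P (BC.down c y) ↔ (divSub (Red.DS T N)).P (y ≫ e) := by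
  refine forall₂_congr fun n _ => ?_
  rw [imgSub_bc, map_powN]
  refine ⟨fun h => imgSub_powN_iso e n h, fun h => ?_⟩
  have := imgSub_powN_iso e' n h
  rwa [Category.assoc, he, Category.comp_id] at this

set_option backward.isDefEq.respectTransparency false in
/-- The `n`-th power of a torus is a cover. -/
theorem isCov_powN_torus {R : Over S} [GrpObj R] (hR : Red.IsTorus R) {n : ℕ} (hn : 0 < n) : IsCov (powN R n) := by
  haveI : IsAffineHom R.hom := Basic.isAffineHom_of_isTorus hR
  have hqc : QuasiCompact (powN R n).left := by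
    haveI : QuasiCompact ((powN R n).left ≫ R.hom) := by rw [Over.w (powN R n)]; infer_instance
    exact QuasiCompact.of_comp (powN R n).left R.hom
  obtain ⟨S', f₀, hf, hs, hc, hloc⟩ := hR
  choose U hU r he using hloc
  have hmem := HomFam.mem_fpqc f₀ hc U fun x => ⟨x, hU x⟩
  have key : ∀ s', Flat ((Over.pullback ((U s').ι ≫ f₀)).map (powN R n)).left ∧
      Surjective ((Over.pullback ((U s').ι ≫ f₀)).map (powN R n)).left := by
    intro s'
    obtain ⟨e⟩ := he s'
    let E := BaseChange.overIso e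
    haveI : IsMonHom E.inv := inferInstanceAs (IsMonHom (BaseChange.overIso e.symm).hom)
    let φ : (Fin (r s') → ℤ) →+ (Fin (r s') → ℤ) := nsmulAddMonoidHom n
    have hφ : Function.Injective φ := fun a b h => (nsmul_right_injective hn.ne') h
    obtain ⟨h1, h2⟩ := Loci.ff_DSmap (U s' : Scheme.{u}) hφ
    have h3 : (Over.pullback ((U s').ι ≫ f₀)).map (powN R n) = E.hom ≫ Red.DSmap _ φ ≫ E.inv := by
      rw [map_powN, powN_conj E n, powN_DS]
    haveI : IsIso E.hom.left := inferInstanceAs (IsIso ((Over.forget _).map E.hom))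
    haveI : IsIso E.inv.left := inferInstanceAs (IsIso ((Over.forget _).map E.inv))
    rw [h3, Over.comp_left, Over.comp_left]
    exact ⟨inferInstance, inferInstance⟩
  exact ⟨fib_descend_family hmem (@Flat) _ fun k => (key k).1,
    fib_descend_family hmem (@Surjective) _ fun k => (key k).2, hqc⟩

/-- Points coming from tori are divisible. -/
theorem divSub_of_torus {G : Over S} [GrpObj G] {T : Scheme.{u}} (t : T ⟶ S) {R : Over T} [GrpObj R]
    (hR : Red.IsTorus R) (j : R ⟶ Red.bc t G) [IsMonHom j] : (divSub G).P (BC.down t j) := by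
  intro n hn
  rw [imgSub_bc, map_powN]
  refine ⟨R, powN R n, j, isCov_powN_torus hR hn, ?_⟩
  rw [comp_powN, powN, MonObj.pow_comp, Category.id_comp]

/-- **The maximal torus of a group of multiplicative type.** -/
theorem exists_maxTorus (G : Over S) [GrpObj G] (hG : SGA3x.IsMultTypeFT G) :
    ∃ (T : Over S) (_ : GrpObj T) (i : T ⟶ G), Red.IsMaximalTorus i ∧
      ∀ (R : Over S) [GrpObj R] (j : R ⟶ G) [IsMonHom j] [Mono j], Red.IsTorus R → ∃ f : R ⟶ T, f ≫ i = j := by
  have hcomm : ∀ (X : Over S) (a b : X ⟶ G), a * b = b * a := fun X a b => Normal.comm hG a b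
  haveI := fun n => isMonHom_powN hcomm n
  obtain ⟨S', f₀, hfl, hsj, hc, hloc⟩ := hG
  choose U hU N iN hN he using hloc
  letI := iN
  haveI := hN
  let c : ∀ s', ((U s' : S'.Opens) : Scheme.{u}) ⟶ S := fun s' => (U s').ι ≫ f₀
  let E : ∀ s', Red.bc (c s') G ≅ Red.DS (U s' : Scheme.{u}) (N s') := fun s' => BaseChange.overIso (he s').some
  haveI : ∀ s', IsMonHom (E s').inv := fun s' =>
    inferInstanceAs (IsMonHom (BaseChange.overIso (he s').some.symm).hom)
  haveI : ∀ s', IsMonHom (E s').hom := fun s' => BaseChange.isMonHom_overIso _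
  let z : ∀ s', Red.DS (U s' : Scheme.{u}) (N s' ⧸ AddCommGroup.torsion (N s')) ⟶ Red.bc (c s') G := fun s' =>
    Red.DSmap _ (QuotientAddGroup.mk' _) ≫ (E s').inv
  haveI : ∀ s', IsMonHom (z s') := fun s' => by
    haveI : IsMonHom (Red.DSmap (U s' : Scheme.{u}) (QuotientAddGroup.mk' (AddCommGroup.torsion (N s')))) :=
      Gm.isMonHom_DSmap _
    exact inferInstanceAs (IsMonHom (_ ≫ (E s').inv))
  haveI : ∀ s', Mono (z s') := fun s' => by
    haveI := Loci.mono_DSmap_of_surjective (U s' : Scheme.{u})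
      (QuotientAddGroup.mk'_surjective (AddCommGroup.torsion (N s')))
    haveI : Mono (E s').inv := @IsIso.mono_of_iso _ _ _ _ _ (Iso.isIso_inv _)
    exact mono_comp _ _
  haveI : ∀ s', IsAffineHom (Red.DS (U s' : Scheme.{u}) (N s' ⧸ AddCommGroup.torsion (N s'))).hom :=
    fun s' => DS.isAffineHom _ _
  have hmem := HomFam.mem_fpqc f₀ hc U fun x => ⟨x, hU x⟩
  have hr : Reps (divSub G) c z := fun s' Y y => by
    rw [divSub_chart (c s') (E s').hom (E s').inv (E s').hom_inv_id, divSub_DS]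
    constructor
    · rintro ⟨h, rfl⟩ m hm
      simp only [z, Category.assoc, Iso.inv_hom_id, Category.comp_id]
      rw [Gm.dsFn_DSmap, show QuotientAddGroup.mk' (AddCommGroup.torsion (N s')) m = 0 from
        (QuotientAddGroup.eq_zero_iff _).2 hm, Gm.dsFn_zero]
    · intro h
      obtain ⟨w, hw⟩ := exists_fac_quot _ (y ≫ (E s').hom) h
      exact ⟨w, by simp only [z, ← Category.assoc, hw]; rw [Category.assoc, Iso.hom_inv_id, Category.comp_id]⟩
  obtain ⟨T, gT, i, him, hi, hchart, hcrit⟩ := exists_subgroup (Φ := divSub G) (z' := z) hmem hr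
    (fun Y n _ => imgSub_one (powN G n) Y) (fun Y a b ha hb n hn => imgSub_mul _ Y a b (ha n hn) (hb n hn))
    (fun Y a ha n hn => imgSub_inv _ Y a (ha n hn))
  letI := gT
  haveI := him
  haveI := hi
  have hT : Red.IsTorus T := by
    refine ⟨S', f₀, hfl, hsj, hc, fun s' => ?_⟩
    obtain ⟨φ, -⟩ := hchart s'
    let M := N s' ⧸ AddCommGroup.torsion (N s')
    haveI : IsAddTorsionFree M := ⟨fun n hn a b h => by
      refine sub_eq_zero.1 ?_
      obtain ⟨m, hm⟩ := QuotientAddGroup.mk_surjective (a - b)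
      have h0 : n • (QuotientAddGroup.mk m : M) = 0 := by rw [hm, nsmul_sub, sub_eq_zero]; exact h
      rw [← hm]
      refine (QuotientAddGroup.eq_zero_iff _).2 ?_
      obtain ⟨k, hk, hk'⟩ := (isOfFinAddOrder_iff_nsmul_eq_zero).1
        (show IsOfFinAddOrder (n • m) from (QuotientAddGroup.eq_zero_iff (n • m)).1 h0)
      exact (isOfFinAddOrder_iff_nsmul_eq_zero).2 ⟨k * n, Nat.mul_pos hk (Nat.pos_of_ne_zero hn), by rw [mul_nsmul', hk']⟩⟩
    haveI : AddGroup.FG M := AddGroup.fg_of_surjective (QuotientAddGroup.mk'_surjective _)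
    haveI : Module.Finite ℤ M := Module.Finite.iff_addGroup_fg.mpr inferInstance
    haveI : Module.Free ℤ M := inferInstance
    exact ⟨U s', hU s', Module.finrank ℤ M,
      ⟨φ ≪≫ DS.dsIso _ (Module.finBasis ℤ M).equivFun.toAddEquiv.symm⟩⟩
  refine ⟨T, gT, i, ⟨him, hi, hT, ?_⟩, fun R _ j _ _ hR => ?_⟩
  · intro s T' _ j _ _ g hT' hg
    obtain ⟨r, hr'⟩ := (hcrit (BC.down (Red.geomPt s) j)).2 (crit_of_P (divSub_of_torus (Red.geomPt s) hT' j))
    have hr'' : BC.up (Red.geomPt s) r ≫ (Over.pullback (Red.geomPt s)).map i = j := by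
      apply BC.down_injective
      rw [BC.down_map, BC.down_up, hr']
    refine ⟨⟨BC.up (Red.geomPt s) r, ?_, ?_⟩⟩
    · rw [← cancel_mono ((Over.pullback (Red.geomPt s)).map i), Category.assoc, hr'', Category.id_comp]
      exact hg
    · rw [← cancel_mono j, Category.assoc, hg, hr'', Category.id_comp]
  · refine (hcrit j).2 (crit_of_P fun n hn => ⟨R, powN R n, j, isCov_powN_torus hR hn, ?_⟩)
    rw [comp_powN, powN, MonObj.pow_comp, Category.id_comp]

end Groth.Agent.Lib.ImgMT
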