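import Groth.Agent.Lib.ImgMT.EtTorus
import Groth.Agent.Lib.ImgMT.MaxTorus

/-!
# The maximal torus of a commutative smooth affine group
-/

set_option autoImplicit false
set_option linter.unusedSectionVars false
universe u

open CategoryTheory MonoidalCategory CartesianMonoidalCategory MonObj GrpObj AlgebraicGeometry
open CategoryTheory.Limits
open Groth.Agent.Lib.RedPts Groth.Agent.Lib.Tori Groth.Agent.H87
open Groth.Agent.Lib.ImgMT.RedRank

namespace Groth.Agent.Lib.ImgMT.CommTorus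

set_option linter.style.haveILetI false

variable {S : Scheme.{u}}

/-- An open surjective morphism is a quasi-compact cover. -/
theorem isQCCover_of_isOpenMap {S S' : Scheme.{u}} (f : S' ⟶ S) (hf : IsOpenMap f) [Surjective f] :
    Basic.IsQCCover f := by
  intro V hV
  have hex : ∀ x : V, ∃ W : S'.Opens, IsCompact (W : Set S') ∧ W ≤ f ⁻¹ᵁ V ∧ (x : S) ∈ f '' (W : Set S') := by
    rintro ⟨x, hx⟩
    obtain ⟨y, rfl⟩ := f.surjective x
    obtain ⟨W, hW, hyW, hle⟩ := exists_isAffineOpen_mem_and_subset (U := f ⁻¹ᵁ V) (x := y) hx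
    exact ⟨W, hW.isCompact, hle, y, hyW, rfl⟩
  choose W hW hle hmem using hex
  obtain ⟨t, ht⟩ := hV.isCompact.elim_finite_subcover (fun x => f '' (W x : Set S'))
    (fun x => hf _ (W x).isOpen) fun x hx => Set.mem_iUnion.2 ⟨⟨x, hx⟩, hmem _⟩
  refine ⟨⨆ x ∈ t, W x, ?_, ?_⟩
  · simp only [TopologicalSpace.Opens.coe_iSup]
    exact t.isCompact_biUnion fun x _ => hW x
  · simp only [TopologicalSpace.Opens.coe_iSup, Set.image_iUnion]
    refine le_antisymm (Set.iUnion₂_subset fun x _ => ?_) ?_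
    · rintro _ ⟨y, hy, rfl⟩
      exact hle x hy
    · exact ht


/-- **In a commutative group every subtorus lies in every maximal torus.** -/
theorem exists_fac {G T R : Over S} [GrpObj G] [GrpObj T] [GrpObj R] [IsAffineHom G.hom] [Smooth G.hom]
    (hcomm : ∀ (X : Over S) (a b : X ⟶ G), a * b = b * a) (i : T ⟶ G) (hi : Red.IsMaximalTorus i) (j : R ⟶ G)
    [IsMonHom j] [Mono j] (hR : Red.IsTorus R) : ∃ f : R ⟶ T, f ≫ i = j := by
  haveI := hi.1
  haveI := hi.2.1
  have hT := hi.2.2.1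
  let E := T ⊗ R
  let F : E ⟶ G := (fst T R ≫ i) * (snd T R ≫ j)
  haveI : IsMonHom F := HomDS.isMonHom_of_points F fun X p q => by
    haveI : IsMonHom (fst T R) := inferInstance
    haveI : IsMonHom (snd T R) := inferInstance
    simp only [F, comp_mul]
    rw [MonObj.mul_comp p q (fst T R ≫ i), MonObj.mul_comp p q (snd T R ≫ j)]
    have h4 := hcomm X (q ≫ fst T R ≫ i) (p ≫ snd T R ≫ j)
    rw [_root_.mul_assoc, ← _root_.mul_assoc (q ≫ fst T R ≫ i), h4]
    simp only [_root_.mul_assoc]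
  obtain ⟨S₁, f₁, hf₁, hs₁, hc₁, hl₁⟩ :=
    Charts.exists_common_charts (GmFibre.isMultTypeFT_of_isTorus hT) (GmFibre.isMultTypeFT_of_isTorus hR)
  have hE : TwC.Locally S TwC.Topology.fpqc (fun S' g => ∃ (M : Type) (_ : AddCommGroup M),
      Nonempty (Grp.mk (Red.bc g E) ≅ Grp.mk (Red.DS S' M))) := by
    refine ⟨S₁, f₁, hf₁, hs₁, hc₁, fun s' => ?_⟩
    obtain ⟨U, hU, M, N, iM, iN, -, -, ⟨e₁⟩, ⟨e₂⟩⟩ := hl₁ s'
    exact ⟨U, hU, M × N, inferInstance, exists_prod_chart _ e₁ e₂⟩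
  haveI : LocallyOfFinitePresentation G.hom := inferInstance
  obtain ⟨Q, gQ, q, hqm, F', hF', hqmono, hqc, -, hFq, hQ, -⟩ := exists_image_MT hE F
  haveI := hqm
  haveI := hqmono
  haveI := hF'
  obtain ⟨Z, gZ, z, ⟨hzm, hzmono, hZ, -⟩, hZall⟩ := exists_maxTorus Q hQ
  haveI := hzm
  haveI := hzmono
  let a : T ⟶ Q := lift (𝟙 T) (1 : T ⟶ R) ≫ F'
  let b : R ⟶ Q := lift (1 : R ⟶ T) (𝟙 R) ≫ F'
  have ha : a ≫ q = i := by
    simp [a, Category.assoc, hFq, F, comp_mul]
  have hb : b ≫ q = j := by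
    simp [b, Category.assoc, hFq, F, comp_mul]
  haveI : IsMonHom a := SplitMax.isMonHom_of_comp a i q ha
  haveI : IsMonHom b := SplitMax.isMonHom_of_comp b j q hb
  haveI : Mono (a ≫ q) := by rw [ha]; infer_instance
  haveI : Mono (b ≫ q) := by rw [hb]; infer_instance
  haveI : Mono a := mono_of_mono a q
  haveI : Mono b := mono_of_mono b q
  obtain ⟨α, hα⟩ := hZall T a hT
  obtain ⟨β, hβ⟩ := hZall R b hR
  haveI : IsMonHom α := SplitMax.isMonHom_of_comp α a z hα
  haveI : Mono (α ≫ z) := by rw [hα]; infer_instance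
  haveI : Mono α := mono_of_mono α z
  haveI := Basic.isAffineHom_of_isTorus hZ
  haveI := Basic.smooth_of_isTorus hZ
  haveI := Basic.isAffineHom_of_isTorus hT
  haveI := Basic.smooth_of_isTorus hT
  haveI : IsIso α := S16611.result hT hZ α fun s => by
    obtain ⟨r, hr⟩ := exists_isRk T (Red.geomPt s)
    obtain ⟨n, hn⟩ := exists_isRk Z (Red.geomPt s)
    have h1 : r ≤ n := hn.2 r (subAt_mono_hom α hr.1)
    have h2 : n ≤ r := ((isMaximalTorus_iff i hT).1 hi s r hr).2 n (subAt_mono_hom q (subAt_mono_hom z hn.1))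
    exact ⟨r, isSplit_of_isRk hT _ hr, (le_antisymm h1 h2).symm ▸ isSplit_of_isRk hZ _ hn⟩
  refine ⟨β ≫ inv α, ?_⟩
  calc (β ≫ inv α) ≫ i = (β ≫ inv α) ≫ (α ≫ z) ≫ q := by rw [hα, ha]
    _ = j := by simp only [Category.assoc, IsIso.inv_hom_id_assoc]; rw [← Category.assoc, hβ, hb]

section Descent

variable {G : Over S} [GrpObj G] {S' : Scheme.{u}} (f : S' ⟶ S) {T' : Over S'} [GrpObj T']
  (i : T' ⟶ Red.bc f G)

/-- The points which lie in the given subgroup after every base change to the cover. -/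
def descSub : Sub G where
  P {W} y := ∀ (Y : Over S') (m : (Over.map f).obj Y ⟶ W), ∃ h, h ≫ i = BC.up f (m ≫ y)
  comp q y h Y m := by
    obtain ⟨h', hh⟩ := h Y (m ≫ q)
    exact ⟨h', hh.trans (by rw [Category.assoc])⟩

theorem reps_desc [IsMonHom i] [IsAffineHom G.hom] [Smooth G.hom]
    (hcomm : ∀ (X : Over S) (a b : X ⟶ G), a * b = b * a) (hi : Red.IsMaximalTorus i) :
    Reps (descSub f i) (fun _ : PUnit.{u + 1} => f) (fun _ => i) := by
  intro _ Y y
  refine ⟨?_, fun h => ?_⟩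
  swap
  · obtain ⟨h', hh⟩ := h Y (𝟙 _)
    exact ⟨h', by rw [hh, Category.id_comp, BC.up_down]⟩
  rintro ⟨h, rfl⟩ Y' m
  haveI := hi.2.1
  let W := Y'.left
  let a : W ⟶ S' := m.left ≫ Y.hom
  let b : W ⟶ S' := Y'.hom
  have hab : a ≫ f = b ≫ f := (Category.assoc _ _ _).trans (Over.w m)
  haveI : Smooth (Red.bc f G).hom := inferInstanceAs (Smooth (pullback.snd G.hom f))
  haveI : IsAffineHom (Red.bc f G).hom :=
    isAffineHom_isStableUnderBaseChange.of_isPullback (IsPullback.of_hasPullback G.hom f) inferInstance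
  haveI : Smooth (Red.bc b (Red.bc f G)).hom := inferInstanceAs (Smooth (pullback.snd (Red.bc f G).hom b))
  haveI : IsAffineHom (Red.bc b (Red.bc f G)).hom :=
    isAffineHom_isStableUnderBaseChange.of_isPullback (IsPullback.of_hasPullback (Red.bc f G).hom b) inferInstance
  have hG' : ∀ (X : Over W) (p q : X ⟶ (Red.bc b (Red.bc f G))), p * q = q * p := fun X p q => BC.down_injective (BC.down_injective (by
    rw [BC.down_mul, BC.down_mul, BC.down_mul, BC.down_mul]; exact hcomm _ _ _))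
  let ε : ∀ X : Over W, (Over.map f).obj ((Over.map b).obj X) ≅ (Over.map f).obj ((Over.map a).obj X) := fun X =>
    Over.isoMk (Iso.refl _) (by
      show 𝟙 _ ≫ (X.hom ≫ a) ≫ f = (X.hom ≫ b) ≫ f
      rw [Category.id_comp, Category.assoc, hab, Category.assoc])
  let ψ : (Red.bc a T') ⟶ (Red.bc b (Red.bc f G)) := BC.up b (BC.up f ((ε (Red.bc a T')).hom ≫ BC.down f (BC.down a (𝟙 (Red.bc a T')) ≫ i)))
  have hψ : ∀ {X : Over W} (x : X ⟶ (Red.bc a T')),
      BC.down f (BC.down b (x ≫ ψ)) = (ε X).hom ≫ BC.down f (BC.down a x ≫ i) := by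
    intro X x
    rw [BC.down_comp, BC.down_up, BC.down_comp, BC.down_up]
    have h1 : BC.down a x = (Over.map a).map x ≫ BC.down a (𝟙 (Red.bc a T')) := by
      rw [← BC.down_comp, Category.comp_id]
    have hsq : (Over.map f).map ((Over.map b).map x) ≫ (ε (Red.bc a T')).hom =
        (ε X).hom ≫ (Over.map f).map ((Over.map a).map x) := by
      apply Over.OverMorphism.ext
      show x.left ≫ 𝟙 (Red.bc a T').left = 𝟙 X.left ≫ x.left
      exact (Category.comp_id _).trans (Category.id_comp _).symm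
    rw [h1, Category.assoc, BC.down_comp, reassoc_of% hsq]
    simp only [BC.down_comp, Category.assoc]
  haveI : IsMonHom ψ := HomDS.isMonHom_of_points ψ fun X p q => BC.down_injective (BC.down_injective (by
    rw [BC.down_mul, BC.down_mul, hψ, hψ, hψ, BC.down_mul, MonObj.mul_comp, BC.down_mul, MonObj.comp_mul]))
  haveI : Mono ψ := (MonoHomLocus.mono_iff ψ).2 fun X x hx => by
    have h1 := hψ x
    rw [hx, BC.down_one, BC.down_one, ← MonObj.comp_one (M := G) (ε X).hom, cancel_epi] at h1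
    have h2 : BC.down a x ≫ i = 1 := BC.down_injective (h1.symm.trans BC.down_one.symm)
    exact BC.down_injective (((MonoHomLocus.mono_iff i).1 inferInstance _ _ h2).trans BC.down_one.symm)
  have hB : Red.IsMaximalTorus ((Over.pullback b).map i) := by
    haveI : IsMonHom ((Over.pullback b).map i) := inferInstance
    refine (isMaximalTorus_iff_all _ (Basic.isTorus_bc hi.2.2.1 b)).2 fun L _ _ k r hr => ?_
    exact (isRk_comp_iff b (Red.bc f G) k r).2
      ((isMaximalTorus_iff_all i hi.2.2.1).1 hi L (k ≫ b) r ((isRk_comp_iff b T' k r).1 hr))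
  obtain ⟨φ, hφ⟩ := exists_fac hG' _ hB ψ (Basic.isTorus_bc hi.2.2.1 a)
  let I : Over W := Over.mk (𝟙 W)
  let α : (Over.map a).obj I ⟶ Y := Over.homMk m.left (by
    show m.left ≫ Y.hom = 𝟙 _ ≫ a
    rw [Category.id_comp])
  let β : Y' ≅ (Over.map b).obj I := Over.isoMk (Iso.refl _) (by
    show 𝟙 _ ≫ 𝟙 _ ≫ b = Y'.hom
    rw [Category.id_comp, Category.id_comp])
  let x : I ⟶ (Red.bc a T') := BC.up a (α ≫ h)
  refine ⟨β.hom ≫ BC.down b (x ≫ φ), BC.down_injective ?_⟩
  rw [BC.down_up, Category.assoc, ← BC.down_map, Category.assoc, hφ, BC.down_comp, hψ, BC.down_up,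
    Category.assoc, BC.down_comp, ← Category.assoc, ← Category.assoc]
  refine congrArg (· ≫ BC.down f (h ≫ i)) (Over.OverMorphism.ext ?_)
  show (𝟙 _ ≫ 𝟙 _) ≫ m.left = m.left
  rw [Category.id_comp, Category.id_comp]

end Descent

set_option backward.isDefEq.respectTransparency false in
/-- **A commutative group with locally constant reductive rank has a maximal torus.** -/
theorem exists_maxTorus_comm (G : Over S) [GrpObj G] [IsAffineHom G.hom] [Smooth G.hom]
    (hcomm : ∀ (X : Over S) (a b : X ⟶ G), a * b = b * a) (hr : SGA3x.RedRankLocallyConstant G) :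
    ∃ (T : Over S) (_ : GrpObj T) (i : T ⟶ G), Red.IsMaximalTorus i ∧
      ∀ (R : Over S) [GrpObj R] (j : R ⟶ G) [IsMonHom j] [Mono j], Red.IsTorus R → ∃ f : R ⟶ T, f ≫ i = j := by
  obtain ⟨S', f, hf, hfs, T', gT', i', hi'⟩ := EtTorus.etLocal_of_rankConst G hr
  letI := gT'
  haveI := hf
  haveI := hi'.1
  haveI := hi'.2.1
  haveI := Basic.isAffineHom_of_isTorus hi'.2.2.1
  haveI := Basic.smooth_of_isTorus hi'.2.2.1
  have hmem := HomFam.mem_fpqc_of_etale (fun _ : PUnit.{u + 1} => f) (fun s => ⟨⟨⟩, hfs.surj s⟩)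
  obtain ⟨T, gT, i, him, hi, hch, -⟩ := exists_subgroup (Φ := descSub f i') (z' := fun _ : PUnit.{u + 1} => i') hmem
    (reps_desc f i' hcomm hi')
    (fun W Y m => ⟨1, BC.down_injective (by rw [MonObj.one_comp, BC.down_up, BC.down_one, MonObj.comp_one])⟩)
    (fun W a b ha hb Y m => by
      obtain ⟨p, hp⟩ := ha Y m
      obtain ⟨q, hq⟩ := hb Y m
      exact ⟨p * q, by rw [MonObj.mul_comp, hp, hq, ← BC.up_mul, MonObj.comp_mul]⟩)
    (fun W a ha Y m => by
      obtain ⟨p, hp⟩ := ha Y m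
      refine ⟨p⁻¹, BC.down_injective ?_⟩
      rw [GrpObj.inv_comp, BC.down_inv, hp, BC.down_up, BC.down_up, GrpObj.comp_inv])
  letI := gT
  haveI := him
  haveI := hi
  obtain ⟨φ, -⟩ := hch ⟨⟩
  have hT : Red.IsTorus T := by
    obtain ⟨S₂, f₂, h1, h2, h3, h4⟩ := hi'.2.2.1
    have hqc : Basic.IsQCCover f := fun V hV => by
      obtain ⟨W, hW, e⟩ := (isQCCover_of_isOpenMap f f.isOpenMap) V hV
      exact ⟨W, hW, e⟩
    refine ⟨S₂, f₂ ≫ f, inferInstance, inferInstance, Charts.isQCCover_comp h3 hqc, fun s => ?_⟩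
    obtain ⟨U, hU, n, hn⟩ := h4 s
    exact ⟨U, hU, n, Basic.isSplit_congr (BaseChange.bcCongr (Category.assoc _ _ _).symm T ≪≫
      BaseChange.bcComp (U.ι ≫ f₂) f T ≪≫ BaseChange.bcMapIso _ φ) hn⟩
  haveI := Basic.isAffineHom_of_isTorus hT
  haveI := Basic.smooth_of_isTorus hT
  haveI : Smooth (Red.bc f G).hom := inferInstanceAs (Smooth (pullback.snd G.hom f))
  haveI : IsAffineHom (Red.bc f G).hom :=
    isAffineHom_isStableUnderBaseChange.of_isPullback (IsPullback.of_hasPullback G.hom f) inferInstance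
  have hmax : Red.IsMaximalTorus i := by
    refine (isMaximalTorus_iff i hT).2 fun s r hr => ?_
    obtain ⟨s', rfl⟩ := hfs.surj s
    rw [← EtTorus.isRk_bc_iff] at hr ⊢
    refine (isMaximalTorus_iff i' hi'.2.2.1).1 hi' s' r ?_
    exact ⟨subAt_of_iso (BaseChange.bcMapIso _ φ) hr.1,
      fun n hn => hr.2 n (subAt_of_iso (BaseChange.bcMapIso _ φ).symm hn)⟩
  exact ⟨T, gT, i, hmax, fun R _ j _ _ hR => exists_fac hcomm i hmax j hR⟩

end Groth.Agent.Lib.ImgMT.CommTorus
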