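import Groth.Agent.Lib.ImgMT.ImageDS

/-!
# The image of a homomorphism from a group of multiplicative type
-/

set_option autoImplicit false
set_option linter.unusedSectionVars false
universe u

open CategoryTheory MonoidalCategory CartesianMonoidalCategory MonObj GrpObj AlgebraicGeometry
open CategoryTheory.Limits
open Groth.Agent.Lib.RedPts Groth.Agent.Lib.Tori Groth.Agent.H87

namespace Groth.Agent.Lib.ImgMT

set_option linter.style.haveILetI false

variable {S : Scheme.{u}}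

set_option backward.isDefEq.respectTransparency false in
theorem isAffineHom_of_zariski_DS {Q : Over S} [GrpObj Q]
    (h : ∀ s : S, ∃ U : S.Opens, s ∈ U ∧ ∃ (M : Type) (_ : AddCommGroup M),
      Nonempty (Grp.mk (Red.bc U.ι Q) ≅ Grp.mk (Red.DS (U : Scheme.{u}) M))) : IsAffineHom Q.hom := by
  have := AffineDescent.descendsAlong_isAffineHom.{u}
  refine MT.prop_of_locally_DS @IsAffineHom Q (fun _ _ => True) (𝟙 S) (fun O hO => ⟨O, hO.isCompact, Set.image_id _⟩)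
    (fun s => ?_) fun X M _ _ => DS.isAffineHom X M
  obtain ⟨U, hU, M, iM, ⟨e⟩⟩ := h s
  exact ⟨U, hU, M, iM, trivial, ⟨BaseChange.bcCongr (Category.comp_id _) Q ≪≫ e⟩⟩

variable {H G : Over S} [GrpObj H] [GrpObj G] [IsSeparated G.hom] [QuasiCompact G.hom]
  [LocallyOfFinitePresentation G.hom]

set_option backward.isDefEq.respectTransparency false in
theorem isAffineHom_of_locally {H : Over S} [GrpObj H]
    (hH : TwC.Locally S TwC.Topology.fpqc (fun S' g => ∃ (M : Type) (_ : AddCommGroup M), Nonempty (Grp.mk (Red.bc g H) ≅ Grp.mk (Red.DS S' M)))) :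
    IsAffineHom H.hom := by
  obtain ⟨S', f₀, hfl, hsj, hc, hloc⟩ := hH
  have := AffineDescent.descendsAlong_isAffineHom.{u}
  refine MT.prop_of_locally_DS @IsAffineHom H (fun _ _ => True) f₀ hc (fun s' => ?_) fun X M _ _ => DS.isAffineHom X M
  obtain ⟨U, hU, M, iM, e⟩ := hloc s'
  exact ⟨U, hU, M, iM, trivial, e⟩

/-- The image, with charts on a given cover. -/
theorem exists_image_charts [IsAffineHom H.hom] {S' : Scheme.{u}} (f₀ : S' ⟶ S) [Flat f₀] [Surjective f₀]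
    (hc : ∀ V : S.Opens, IsAffineOpen V → ∃ W : S'.Opens, IsCompact (W : Set S') ∧ f₀.base '' (W : Set S') = (V : Set S))
    (U : ↥S' → S'.Opens) (hU : ∀ s', s' ∈ U s') (M : ↥S' → Type) [iM : ∀ s', AddCommGroup (M s')]
    (he : ∀ s', Nonempty (Grp.mk (Red.bc ((U s').ι ≫ f₀) H) ≅ Grp.mk (Red.DS (U s' : Scheme.{u}) (M s'))))
    (f : H ⟶ G) [IsMonHom f] :
    ∃ (Q : Over S) (_ : GrpObj Q) (j : Q ⟶ G) (_ : IsMonHom j) (f' : H ⟶ Q) (_ : IsMonHom f'),
      Mono j ∧ IsClosedImmersion j.left ∧ IsCov f' ∧ f' ≫ j = f ∧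
      (∀ s' : S', ∃ V : S'.Opens, s' ∈ V ∧ ∃ Λ : AddSubgroup (M s'), Λ.FG ∧
        Nonempty (Grp.mk (Red.bc (V.ι ≫ f₀) Q) ≅ Grp.mk (Red.DS (V : Scheme.{u}) Λ))) ∧
      ∀ {Y : Over S} (g : Y ⟶ G), (imgSub f).P g → ∃ r, r ≫ j = g := by
  let c : ∀ s', ((U s' : S'.Opens) : Scheme.{u}) ⟶ S := fun s' => (U s').ι ≫ f₀
  haveI : ∀ s', IsSeparated (Red.bc (c s') G).hom := fun s' =>
    inferInstanceAs (IsSeparated (pullback.snd G.hom (c s')))
  haveI : ∀ s', QuasiCompact (Red.bc (c s') G).hom := fun s' =>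
    inferInstanceAs (QuasiCompact (pullback.snd G.hom (c s')))
  haveI : ∀ s', LocallyOfFinitePresentation (Red.bc (c s') G).hom := fun s' =>
    inferInstanceAs (LocallyOfFinitePresentation (pullback.snd G.hom (c s')))
  let e : ∀ s', Grp.mk (Red.bc (c s') H) ≅ Grp.mk (Red.DS (U s' : Scheme.{u}) (M s')) := fun s' => (he s').some
  haveI : ∀ s', IsMonHom (BaseChange.overIso (e s')).inv := fun s' =>
    inferInstanceAs (IsMonHom (BaseChange.overIso (e s').symm).hom)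
  have hex := fun s' => exists_image_DS ((BaseChange.overIso (e s')).inv ≫ (Over.pullback (c s')).map f)
  choose Z gZ z hzm q hqm hzmono hzc hq hqz hZloc _ using hex
  letI := gZ
  haveI := hzm
  haveI := hzmono
  haveI : ∀ s', IsAffineHom (Z s').hom := fun s' => isAffineHom_of_zariski_DS fun x => by
    obtain ⟨V, hV, -, Λ, -, e'⟩ := hZloc s' x
    exact ⟨V, hV, Λ, inferInstance, e'⟩
  obtain ⟨Q, gQ, j, hjm, f', hf', hjmono, hjc, hfc, hfac, hchart, hrep⟩ := exists_image_glue f (c := c)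
    (HomFam.mem_fpqc f₀ hc U fun x => ⟨x, hU x⟩) z hzc (fun s' => (BaseChange.overIso (e s')).hom ≫ q s')
    (fun s' => by
      haveI : IsIso (BaseChange.overIso (e s')).hom.left :=
        inferInstanceAs (IsIso ((Over.forget _).map (BaseChange.overIso (e s')).hom))
      exact IsCov.comp ⟨inferInstance, inferInstance, inferInstance⟩ (hq s'))
    (fun s' => by rw [Category.assoc, hqz, Iso.hom_inv_id_assoc])
  refine ⟨Q, gQ, j, hjm, f', hf', hjmono, hjc, hfc, hfac, fun s' => ?_, hrep⟩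
  obtain ⟨V, hV, -, Λ, hΛ, ⟨e'⟩⟩ := hZloc s' ⟨s', hU s'⟩
  obtain ⟨φ⟩ := hchart s'
  let eV : Grp.mk (Red.bc (V.ι ≫ c s') Q) ≅ Grp.mk (Red.DS (V : Scheme.{u}) Λ) :=
    BaseChange.bcComp V.ι (c s') Q ≪≫ BaseChange.bcMapIso V.ι φ ≪≫ e'
  let h : (((U s').ι ''ᵁ V : S'.Opens) : Scheme.{u}) ⟶ V := ((U s').ι.isoImage V).inv
  refine ⟨(U s').ι ''ᵁ V, ⟨⟨s', hU s'⟩, hV, rfl⟩, Λ, hΛ, ⟨BaseChange.bcCongr ?_ Q ≪≫ Charts.resChart eV h⟩⟩
  simp [h, c]

/-- **The image of a homomorphism from a group of multiplicative type.** -/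
theorem exists_image_MT
    (hH : TwC.Locally S TwC.Topology.fpqc (fun S' g => ∃ (M : Type) (_ : AddCommGroup M), Nonempty (Grp.mk (Red.bc g H) ≅ Grp.mk (Red.DS S' M))))
    (f : H ⟶ G) [IsMonHom f] :
    ∃ (Q : Over S) (_ : GrpObj Q) (j : Q ⟶ G) (_ : IsMonHom j) (f' : H ⟶ Q) (_ : IsMonHom f'),
      Mono j ∧ IsClosedImmersion j.left ∧ IsCov f' ∧ f' ≫ j = f ∧ SGA3x.IsMultTypeFT Q ∧
      ∀ {Y : Over S} (g : Y ⟶ G), (imgSub f).P g → ∃ r, r ≫ j = g := by
  haveI : IsAffineHom H.hom := isAffineHom_of_locally hH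
  obtain ⟨S', f₀, hfl, hsj, hc, hloc⟩ := hH
  choose U hU M iM he using hloc
  letI := iM
  obtain ⟨Q, gQ, j, hjm, f', hf', hjmono, hjc, hfc, hfac, hQ, hrep⟩ := exists_image_charts f₀ hc U hU M he f
  refine ⟨Q, gQ, j, hjm, f', hf', hjmono, hjc, hfc, hfac, ⟨S', f₀, hfl, hsj, hc, fun s' => ?_⟩, hrep⟩
  obtain ⟨V, hV, Λ, hΛ, e⟩ := hQ s'
  exact ⟨V, hV, Λ, inferInstance, (AddGroup.fg_iff_addSubgroup_fg Λ).mpr hΛ, e⟩

end Groth.Agent.Lib.ImgMT
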