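import Groth.Agent.H87.SubgroupDescent

/-!
# Subfunctors of a group scheme which are representable on the members of an fpqc covering family
-/

set_option autoImplicit false
universe u

open CategoryTheory CategoryTheory.Limits MonoidalCategory CartesianMonoidalCategory MonObj GrpObj
open AlgebraicGeometry Desc
open Groth.Agent.Lib.RedPts Groth.Agent.Lib.Tori
open Groth.Agent.H87.SubgroupDescent (toG toG_hom toG_ext exists_grpObj)

namespace Groth.Agent.Lib.ImgMT

set_option linter.style.haveILetI false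

variable {S : Scheme.{u}} {G : Over S}

/-- A property of the points of `G`, stable under change of the source. -/
structure Sub (G : Over S) where
  /-- membership -/
  P : ∀ {Y : Over S}, (Y ⟶ G) → Prop
  comp : ∀ {Y Y' : Over S} (r : Y' ⟶ Y) (y : Y ⟶ G), P y → P (r ≫ y)

variable (Φ : Sub G) {κ : Type u} {X : κ → Scheme.{u}} (f : ∀ k, X k ⟶ S) {Z' : ∀ k, Over (X k)}
  (z' : ∀ k, Z' k ⟶ Red.bc (f k) G)

/-- `z'` represents `Φ` on the members of the family. -/
def Reps : Prop :=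
  ∀ (k : κ) (Y : Over (X k)) (y : Y ⟶ Red.bc (f k) G), (∃ h, h ≫ z' k = y) ↔ Φ.P (BC.down (f k) y)

variable {Φ f z'}

set_option backward.isDefEq.respectTransparency false in
theorem Reps.invariant (hr : Reps Φ f z') {k l : κ} {T : Scheme.{u}} (v : T ⟶ (Z' k).left) (x : T ⟶ X l)
    (e : x ≫ f l = v ≫ (Z' k).hom ≫ f k) :
    ∃ w : T ⟶ (Z' l).left, w ≫ (Z' l).hom = x ∧ w ≫ toG (z' l) = v ≫ toG (z' k) := by
  let Yk : Over (X k) := Over.mk (v ≫ (Z' k).hom)
  let Yl : Over (X l) := Over.mk x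
  let vv : Yk ⟶ Z' k := Over.homMk v
  let c : (Over.map (f l)).obj Yl ⟶ (Over.map (f k)).obj Yk :=
    Over.homMk (U := (Over.map (f l)).obj Yl) (V := (Over.map (f k)).obj Yk) (𝟙 T) (by
      show 𝟙 T ≫ (v ≫ (Z' k).hom) ≫ f k = x ≫ f l
      rw [Category.id_comp, e, Category.assoc])
  have h1 : Φ.P (BC.down (f l) (BC.up (f l) (c ≫ BC.down (f k) (vv ≫ z' k)))) := by
    rw [BC.down_up]
    exact Φ.comp _ _ ((hr k _ _).1 ⟨vv, rfl⟩)
  obtain ⟨h, hh⟩ := (hr l _ _).2 h1
  refine ⟨h.left, Over.w h, ?_⟩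
  have h2 := congr((BC.down (f l) $hh).left)
  rw [BC.down_up, BC.down_left, Over.comp_left, Category.assoc] at h2
  refine h2.trans ?_
  show 𝟙 T ≫ ((v ≫ (z' k).left) ≫ pullback.fst G.hom (f k)) = v ≫ toG (z' k)
  rw [Category.id_comp, Category.assoc]
  rfl

/-- Transport of a point. -/
noncomputable def move (hr : Reps Φ f z') {T : Scheme.{u}} {k l : κ} {x₀ : T ⟶ X k} {x₁ : T ⟶ X l}
    (h : x₀ ≫ f k = x₁ ≫ f l) (v : Lifts (Z' k) x₀) : Lifts (Z' l) x₁ :=
  ⟨(hr.invariant v.1 x₁ (h.symm.trans ((congrArg (· ≫ f k) v.2.symm).trans (Category.assoc _ _ _)))).choose,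
    (hr.invariant v.1 x₁ (h.symm.trans ((congrArg (· ≫ f k) v.2.symm).trans (Category.assoc _ _ _)))).choose_spec.1⟩

theorem move_toG (hr : Reps Φ f z') {T : Scheme.{u}} {k l : κ} {x₀ : T ⟶ X k} {x₁ : T ⟶ X l}
    (h : x₀ ≫ f k = x₁ ≫ f l) (v : Lifts (Z' k) x₀) :
    (move hr h v).1 ≫ toG (z' l) = v.1 ≫ toG (z' k) :=
  (hr.invariant v.1 x₁ (h.symm.trans ((congrArg (· ≫ f k) v.2.symm).trans (Category.assoc _ _ _)))).choose_spec.2

theorem lifts_ext {T : Scheme.{u}} {k : κ} [Mono (z' k)] {x : T ⟶ X k} {v w : Lifts (Z' k) x}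
    (h : v.1 ≫ toG (z' k) = w.1 ≫ toG (z' k)) : v = w :=
  Subtype.ext (toG_ext (z' k) (v.2.trans w.2.symm) h)

/-- The descent datum. -/
noncomputable def datum [∀ k, Mono (z' k)] (hr : Reps Φ f z') : SchDDFam f where
  obj := Z'
  φ T i j x₀ x₁ h :=
    { toFun := move hr h
      invFun := move hr h.symm
      left_inv := fun v => lifts_ext (z' := z') (by rw [move_toG, move_toG])
      right_inv := fun v => lifts_ext (z' := z') (by rw [move_toG, move_toG]) }
  φ_natural T T' g i j x₀ x₁ h y₀ y₁ hy₀ hy₁ h' v v' hv' := by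
    refine toG_ext (z' j) ?_ ?_
    · exact (move hr h' v').2.trans (hy₁.symm.trans ((congrArg (g ≫ ·) (move hr h v).2.symm).trans
        (Category.assoc _ _ _).symm))
    · show (move hr h' v').1 ≫ toG (z' j) = (g ≫ (move hr h v).1) ≫ toG (z' j)
      rw [move_toG, Category.assoc, move_toG, hv', Category.assoc]
  φ_self T i x v := lifts_ext (z' := z') (move_toG hr rfl v)
  φ_comp T i j k x₀ x₁ x₂ h₀₁ h₁₂ v := lifts_ext (z' := z') (by
    show (move hr h₁₂ (move hr h₀₁ v)).1 ≫ _ = (move hr (h₀₁.trans h₁₂) v).1 ≫ _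
    rw [move_toG, move_toG, move_toG])

/-- A point is in the subfunctor on all the members of the family. -/
def Crit (Φ : Sub G) (f : ∀ k, X k ⟶ S) {W : Over S} (g : W ⟶ G) : Prop :=
  ∀ (k : κ) (Y : Over (X k)) (y : (Over.map (f k)).obj Y ⟶ W), Φ.P (y ≫ g)

theorem crit_of_P {W : Over S} {g : W ⟶ G} (h : Φ.P g) : Crit Φ f g := fun _ _ y => Φ.comp y g h

set_option backward.isDefEq.respectTransparency false in
/-- The subfunctor is representable. -/
theorem exists_obj (hmem : Presieve.ofArrows X f ∈ Scheme.fpqcPrecoverage S) [∀ k, Mono (z' k)]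
    [∀ k, IsAffineHom (Z' k).hom] (hr : Reps Φ f z') :
    ∃ (Z : Over S) (z : Z ⟶ G), Mono z ∧
      (∀ k, ∃ φ : Red.bc (f k) Z ≅ Z' k, φ.hom ≫ z' k = (Over.pullback (f k)).map z) ∧
      ∀ {W : Over S} (g : W ⟶ G), (∃ r, r ≫ z = g) ↔ Crit Φ f g := by
  obtain ⟨R, ⟨θ⟩⟩ := Groth.Agent.Lib.DescAlg.IndQA.Effective.effective hmem (datum hr) fun k =>
    Groth.Agent.H87.HomSch.indQA_of_isAffineHom (Z' k).hom
  let P : κ → Scheme.{u} := fun k => pullback (f k) R.hom
  let toA : ∀ k, P k ⟶ (Z' k).left := fun k => (θ.hom.hom k).left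
  have toA_hom : ∀ k, toA k ≫ (Z' k).hom = pullback.fst (f k) R.hom := fun k => Over.w (θ.hom.hom k)
  haveI hθ : ∀ k, IsIso (θ.hom.hom k) := fun k =>
    ⟨θ.inv.hom _, congr(($(θ.hom_inv_id)).hom _), congr(($(θ.inv_hom_id)).hom _)⟩
  haveI : ∀ k, IsIso (toA k) := fun k => inferInstanceAs (IsIso ((Over.forget _).map (θ.hom.hom k)))
  let q : ∀ k, P k ⟶ G.left := fun k => toA k ≫ toG (z' k)
  have hsh : ∀ {W : Scheme.{u}} (a : W ⟶ S) (Y : Scheme.{u}),
      (Presieve.ofArrows (fun k => pullback (f k) a) (fun k => pullback.snd (f k) a)).IsSheafFor (yoneda.obj Y) :=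
    fun {W} a Y => Groth.Agent.Lib.DescAlg.DDFam.Cover.isSheafFor_yoneda
      (Precoverage.mem_coverings_of_isPullback _ hmem a _ (fun k ↦ pullback.fst (f k) a)
        fun k ↦ (IsPullback.of_hasPullback _ _).flip) Y
  -- points with the same image in `R` have the same image in `G`
  have hq : ∀ {i j : κ} {W : Scheme.{u}} (b : W ⟶ P i) (c : W ⟶ P j),
      b ≫ pullback.snd (f i) R.hom = c ≫ pullback.snd (f j) R.hom → b ≫ q i = c ≫ q j := by
    intro i j W b c hbc
    let x₀ := b ≫ pullback.fst (f i) R.hom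
    let x₁ := c ≫ pullback.fst (f j) R.hom
    have hx : x₀ ≫ f i = x₁ ≫ f j := by
      simp only [x₀, x₁, Category.assoc, pullback.condition]
      exact (Category.assoc _ _ _).symm.trans ((congrArg (· ≫ R.hom) hbc).trans (Category.assoc _ _ _))
    let w : Lifts ((toDDFam f).obj R |>.obj i) x₀ := ⟨b, rfl⟩
    let wA : Lifts (Z' i) x₀ := ⟨b ≫ toA i, by rw [Category.assoc, toA_hom]⟩
    have hc := θ.hom.comm (i := i) (j := j) x₀ x₁ hx w wA rfl
    have hcan : (((toDDFam f).obj R).φ (i := i) (j := j) x₀ x₁ hx w).1 = c :=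
      pullback.hom_ext (pullback.lift_fst _ _ _) ((pullback.lift_snd _ _ _).trans hbc)
    rw [hcan] at hc
    have hm := move_toG hr hx wA
    have hc' : (move hr hx wA).1 = c ≫ toA j := hc
    rw [hc'] at hm
    simpa [q, wA, Category.assoc] using hm.symm
  obtain ⟨zl, hzl, -⟩ := (Presieve.isSheafFor_arrows_iff _ _).1 (hsh R.hom G.left) q
    (fun i j W b c hbc => hq b c hbc)
  have hzl' : ∀ k, pullback.snd (f k) R.hom ≫ zl = q k := hzl
  have hzw : zl ≫ G.hom = R.hom := (hsh R.hom S).isSeparatedFor.ext fun W b hb => by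
    obtain ⟨i⟩ := hb
    show pullback.snd (f i) R.hom ≫ zl ≫ G.hom = pullback.snd (f i) R.hom ≫ R.hom
    rw [← Category.assoc, hzl', Category.assoc, toG_hom, ← Category.assoc, toA_hom, pullback.condition]
  let z : R ⟶ G := Over.homMk zl hzw
  haveI hz : Mono z := ⟨fun {W'} a b hab => Over.OverMorphism.ext ((hsh W'.hom R.left).isSeparatedFor.ext fun W k hk => by
    obtain ⟨i⟩ := hk
    show pullback.snd (f i) W'.hom ≫ a.left = pullback.snd (f i) W'.hom ≫ b.left
    let a' : pullback (f i) W'.hom ⟶ P i := pullback.lift (pullback.fst (f i) W'.hom) (pullback.snd (f i) W'.hom ≫ a.left)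
      (by rw [Category.assoc, Over.w a, pullback.condition])
    let b' : pullback (f i) W'.hom ⟶ P i := pullback.lift (pullback.fst (f i) W'.hom) (pullback.snd (f i) W'.hom ≫ b.left)
      (by rw [Category.assoc, Over.w b, pullback.condition])
    have hab' : a' ≫ q i = b' ≫ q i := by
      rw [← hzl', pullback.lift_snd_assoc, pullback.lift_snd_assoc, Category.assoc, Category.assoc]
      exact congrArg (fun e : W' ⟶ G => pullback.snd (f i) W'.hom ≫ e.left) hab
    have : a' ≫ toA i = b' ≫ toA i := toG_ext (z' i)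
      (by simp only [Category.assoc, toA_hom, a', b', pullback.lift_fst])
      (by simpa only [Category.assoc] using hab')
    rw [cancel_mono (toA i)] at this
    exact (pullback.lift_snd _ _ _).symm.trans
      ((congrArg (· ≫ pullback.snd (f i) R.hom) this).trans (pullback.lift_snd _ _ _)))⟩
  have hex : ∀ k, ∃ φ : Red.bc (f k) R ≅ Z' k, φ.hom ≫ z' k = (Over.pullback (f k)).map z := by
    intro k
    let φl : pullback R.hom (f k) ⟶ (Z' k).left := (pullbackSymmetry R.hom (f k)).hom ≫ toA k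
    have hφl : φl ≫ (Z' k).hom = pullback.snd R.hom (f k) := by
      rw [Category.assoc, toA_hom]; exact pullbackSymmetry_hom_comp_fst _ _
    refine ⟨Over.isoMk (asIso φl) hφl, ?_⟩
    apply BC.down_injective
    rw [← Category.id_comp ((Over.pullback (f k)).map z), BC.down_map]
    refine Over.OverMorphism.ext ?_
    rw [BC.down_left, Over.comp_left, Category.assoc, Over.comp_left, BC.down_left]
    show φl ≫ toG (z' k) = (𝟙 (pullback R.hom (f k)) ≫ pullback.fst R.hom (f k)) ≫ zl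
    rw [Category.id_comp, Category.assoc]
    show _ ≫ q k = _
    rw [← hzl', ← Category.assoc, pullbackSymmetry_hom_comp_snd]
  refine ⟨R, z, hz, hex, fun {W'} g => ⟨?_, fun hg => ?_⟩⟩
  · rintro ⟨r, rfl⟩ k Y y
    obtain ⟨φ, hφ⟩ := hex k
    have hd : BC.down (f k) ((BC.up (f k) (y ≫ r) ≫ φ.hom) ≫ z' k) = y ≫ r ≫ z := by
      rw [Category.assoc, hφ, BC.down_map, BC.down_up, Category.assoc]
    exact hd ▸ (hr k _ _).1 ⟨_, rfl⟩
  · let Y : ∀ k, Over (X k) := fun k => Over.mk (pullback.fst (f k) W'.hom)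
    let y : ∀ k, (Over.map (f k)).obj (Y k) ⟶ W' := fun k =>
      Over.homMk (U := (Over.map (f k)).obj (Y k)) (pullback.snd (f k) W'.hom) pullback.condition.symm
    have hlift : ∀ k, ∃ h : Y k ⟶ Z' k, h.left ≫ toG (z' k) = pullback.snd (f k) W'.hom ≫ g.left := by
      intro k
      obtain ⟨h, hh⟩ := (hr k (Y k) (BC.up (f k) (y k ≫ g))).2 (by rw [BC.down_up]; exact hg k _ _)
      refine ⟨h, ?_⟩
      have := congr((BC.down (f k) $hh).left)
      rw [BC.down_up, BC.down_left, Over.comp_left, Category.assoc] at this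
      exact this
    choose h hhG using hlift
    let c : ∀ k, pullback (f k) W'.hom ⟶ P k := fun k => (h k).left ≫ inv (toA k)
    have hc1 : ∀ k, c k ≫ pullback.fst (f k) R.hom = pullback.fst (f k) W'.hom := fun k => by
      rw [← toA_hom, Category.assoc, IsIso.inv_hom_id_assoc]
      exact Over.w (h k)
    have hcS : ∀ k, c k ≫ pullback.snd (f k) R.hom ≫ R.hom = pullback.snd (f k) W'.hom ≫ W'.hom := fun k => by
      rw [← pullback.condition, ← pullback.condition, ← Category.assoc, hc1]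
    have hcG : ∀ k, (c k ≫ pullback.snd (f k) R.hom) ≫ zl = pullback.snd (f k) W'.hom ≫ g.left := fun k => by
      rw [Category.assoc, hzl', ← hhG, Category.assoc, IsIso.inv_hom_id_assoc]
    obtain ⟨rl, hrl, -⟩ := (Presieve.isSheafFor_arrows_iff _ _).1 (hsh W'.hom R.left)
      (fun k => c k ≫ pullback.snd (f k) R.hom) (fun i j W b d hbd => by
        show b ≫ c i ≫ pullback.snd (f i) R.hom = d ≫ c j ≫ pullback.snd (f j) R.hom
        have hbd' : b ≫ pullback.snd (f i) W'.hom = d ≫ pullback.snd (f j) W'.hom := hbd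
        let b' : Over.mk (b ≫ pullback.snd (f i) W'.hom ≫ W'.hom) ⟶ R :=
          Over.homMk (b ≫ c i ≫ pullback.snd (f i) R.hom) (by simp only [Category.assoc, hcS]; rfl)
        let d' : Over.mk (b ≫ pullback.snd (f i) W'.hom ≫ W'.hom) ⟶ R :=
          Over.homMk (d ≫ c j ≫ pullback.snd (f j) R.hom) (by
            simp only [Category.assoc, hcS]
            exact (Category.assoc _ _ _).symm.trans ((congrArg (· ≫ W'.hom) hbd'.symm).trans (Category.assoc _ _ _)))
        refine congrArg CommaMorphism.left (show b' = d' from ?_)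
        rw [← cancel_mono z]
        refine Over.OverMorphism.ext ?_
        show (b ≫ c i ≫ pullback.snd (f i) R.hom) ≫ zl = (d ≫ c j ≫ pullback.snd (f j) R.hom) ≫ zl
        refine (Category.assoc _ _ _).trans (Eq.trans ?_ (Category.assoc _ _ _).symm)
        rw [hcG, hcG, ← Category.assoc, hbd', Category.assoc])
    have hrl' : ∀ k, pullback.snd (f k) W'.hom ≫ rl = c k ≫ pullback.snd (f k) R.hom := hrl
    have hrw : rl ≫ R.hom = W'.hom := (hsh W'.hom S).isSeparatedFor.ext fun W b hb => by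
      obtain ⟨i⟩ := hb
      show pullback.snd (f i) W'.hom ≫ rl ≫ R.hom = pullback.snd (f i) W'.hom ≫ W'.hom
      rw [← Category.assoc, hrl', Category.assoc, hcS]
    refine ⟨Over.homMk rl hrw, Over.OverMorphism.ext ((hsh W'.hom G.left).isSeparatedFor.ext fun W b hb => ?_)⟩
    obtain ⟨i⟩ := hb
    show pullback.snd (f i) W'.hom ≫ rl ≫ zl = pullback.snd (f i) W'.hom ≫ g.left
    rw [← Category.assoc, hrl', hcG]

/-- The subfunctor is a representable subgroup. -/
theorem exists_subgroup [GrpObj G] [∀ k, GrpObj (Z' k)] (hmem : Presieve.ofArrows X f ∈ Scheme.fpqcPrecoverage S)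
    [∀ k, IsMonHom (z' k)] [∀ k, Mono (z' k)] [∀ k, IsAffineHom (Z' k).hom] (hr : Reps Φ f z')
    (h1 : ∀ Y : Over S, Φ.P (1 : Y ⟶ G))
    (hmul : ∀ (Y : Over S) (a b : Y ⟶ G), Φ.P a → Φ.P b → Φ.P (a * b))
    (hinv : ∀ (Y : Over S) (a : Y ⟶ G), Φ.P a → Φ.P a⁻¹) :
    ∃ (Z : Over S) (_ : GrpObj Z) (z : Z ⟶ G), IsMonHom z ∧ Mono z ∧
      (∀ k, ∃ φ : Grp.mk (Red.bc (f k) Z) ≅ Grp.mk (Z' k),
        (BaseChange.overIso φ).hom ≫ z' k = (Over.pullback (f k)).map z) ∧
      ∀ {W : Over S} (g : W ⟶ G), (∃ r, r ≫ z = g) ↔ Crit Φ f g := by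
  obtain ⟨Z, z, hz, hex, hcrit⟩ := exists_obj hmem hr
  have hP : ∀ {W : Over S} (a : W ⟶ Z), Crit Φ f (a ≫ z) := fun a => (hcrit _).1 ⟨a, rfl⟩
  obtain ⟨gz, hzm⟩ := exists_grpObj z (fun W => (hcrit 1).2 fun k Y y => by rw [MonObj.comp_one]; exact h1 _)
    (fun W a b => (hcrit _).2 fun k Y y => by rw [comp_mul]; exact hmul _ _ _ (hP a k Y y) (hP b k Y y))
    (fun W a => (hcrit _).2 fun k Y y => by rw [GrpObj.comp_inv]; exact hinv _ _ (hP a k Y y))
  refine ⟨Z, gz, z, hzm, hz, fun k => ?_, hcrit⟩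
  obtain ⟨φ, hφ⟩ := hex k
  have : IsMonHom φ.hom := Groth.Agent.H87.HomDS.isMonHom_of_points φ.hom fun W a b => by
    rw [← cancel_mono (z' k), Category.assoc, hφ, MonObj.mul_comp, MonObj.mul_comp, Category.assoc, Category.assoc, hφ]
  exact ⟨Grp.mkIso' φ, hφ⟩

end Groth.Agent.Lib.ImgMT
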