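import Groth.Agent.Lib.ImgMT.RedRank
import Groth.Agent.Lib.ImgMT.Sub
import Groth.Agent.Lib.EtaleSection.Sections
import Groth.Agent.H87.SplitHom

/-!
# Maximal tori exist étale locally when the reductive rank is locally constant
-/

set_option autoImplicit false
set_option linter.unusedSectionVars false
universe u

open CategoryTheory MonoidalCategory CartesianMonoidalCategory MonObj GrpObj AlgebraicGeometry
open CategoryTheory.Limits
open Groth.Agent.Lib.RedPts Groth.Agent.Lib.Tori Groth.Agent.H87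
open Groth.Agent.Lib.ImgMT.RedRank

namespace Groth.Agent.Lib.ImgMT.EtTorus

set_option linter.style.haveILetI false

variable {S : Scheme.{u}}

/-- The rank on a piece over which the torus is split. -/
theorem isRk_split_geom {T : Over S} [GrpObj T] [Smooth T.hom] [IsAffineHom T.hom] {X : Scheme.{u}} (c : X ⟶ S)
    {n : ℕ} (h : Red.IsSplitTorusWith (Fin n → ℤ) (Red.bc c T)) (p : X) : IsRk T (Red.geomPt (c p)) n := by
  haveI : Nonempty ↥(Spec (CommRingCat.of (AlgebraicClosure (X.residueField p)))) := ⟨IsLocalRing.closedPoint _⟩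
  have h := isRk_of_isSplit _ (Basic.isSplit_bc h (Red.geomPt p))
  rw [isRk_comp_iff, isRk_iff_geom] at h
  have e : ptOf (Red.geomPt p ≫ c) = c p := congrArg c.base (ptOf_geomPt (S := X) p)
  rwa [e] at h

theorem isRk_bc_iff (G : Over S) [GrpObj G] [Smooth G.hom] [IsAffineHom G.hom] {X : Scheme.{u}} (f : X ⟶ S) (t : X)
    (r : ℕ) : IsRk (Red.bc f G) (Red.geomPt t) r ↔ IsRk G (Red.geomPt (f t)) r := by
  rw [isRk_comp_iff, isRk_iff_geom]
  rw [show ptOf (Red.geomPt t ≫ f) = f t from congrArg f.base (ptOf_geomPt (S := X) t)]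

/-- The rank of a torus is locally constant. -/
theorem isOpen_rank_torus {T : Over S} [GrpObj T] (hT : Red.IsTorus T) (r : ℕ) :
    IsOpen {s : S | IsRk T (Red.geomPt s) r} := by
  haveI := Basic.isAffineHom_of_isTorus hT
  haveI := Basic.smooth_of_isTorus hT
  obtain ⟨S', f, hf, hs, hc, hloc⟩ := id hT
  haveI := hf
  choose U hU n hn using hloc
  refine isOpen_of_preimage f hc ?_
  rw [isOpen_iff_forall_mem_open]
  intro x hx
  refine ⟨U x, fun y hy => ?_, (U x).2, hU x⟩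
  have key : ∀ y : (U x : Scheme.{u}), IsRk T (Red.geomPt (f ((U x).ι y))) (n x) := fun y =>
    isRk_split_geom ((U x).ι ≫ f) (hn x) y
  have h1 : n x = r := (key ⟨x, hU x⟩).unique hx
  exact h1 ▸ key ⟨y, hy⟩

/-- A maximal torus after a submersive base change makes the rank locally constant. -/
theorem rankConst_of_cover (G : Over S) [GrpObj G] [Smooth G.hom] [IsAffineHom G.hom] {S' : Scheme.{u}}
    (f : S' ⟶ S) (hq : ∀ Z : Set S, IsOpen (f.base ⁻¹' Z) → IsOpen Z) {T : Over S'} [GrpObj T]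
    (i : T ⟶ Red.bc f G) (hi : Red.IsMaximalTorus i) : SGA3x.RedRankLocallyConstant G := by
  haveI := hi.1
  haveI := hi.2.1
  haveI : Smooth (Red.bc f G).hom := inferInstanceAs (Smooth (pullback.snd G.hom f))
  haveI : IsAffineHom (Red.bc f G).hom := isAffineHom_isStableUnderBaseChange.of_isPullback (IsPullback.of_hasPullback G.hom f) inferInstance
  haveI := Basic.isAffineHom_of_isTorus hi.2.2.1
  haveI := Basic.smooth_of_isTorus hi.2.2.1
  have key : ∀ (s' : S') (r : ℕ), IsRk G (Red.geomPt (f s')) r ↔ IsRk T (Red.geomPt s') r := by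
    intro s' r
    obtain ⟨n, hn⟩ := exists_isRk T (Red.geomPt s')
    have h := (isMaximalTorus_iff i hi.2.2.1).1 hi s' n hn
    rw [isRk_comp_iff, isRk_iff_geom] at h
    have e : ptOf (Red.geomPt s' ≫ f) = f s' := congrArg f.base (ptOf_geomPt (S := S') s')
    rw [e] at h
    exact ⟨fun hr => h.unique hr ▸ hn, fun hr => hn.unique hr ▸ h⟩
  intro s
  obtain ⟨r, hr⟩ := exists_isRk G (Red.geomPt s)
  refine ⟨⟨{t | IsRk G (Red.geomPt t) r}, hq _ ?_⟩, hr, r, fun t ht => (hasRedRank_iff G t _).2 ⟨r, rfl, ht⟩⟩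
  have : f.base ⁻¹' {t | IsRk G (Red.geomPt t) r} = {s' | IsRk T (Red.geomPt s') r} :=
    Set.ext fun s' => key s' r
  rw [this]
  exact isOpen_rank_torus hi.2.2.1 r

section Glue

variable {κ : Type u} {P : κ → Scheme.{u}} {G : Over (∐ P)} [GrpObj G] {r : κ → ℕ}
  (z' : ∀ k, Red.DS (P k) (Fin (r k) → ℤ) ⟶ Red.bc (Sigma.ι P k) G)

/-- The points which lie in the given subgroup on every summand. -/
def piece : Sub G where
  P {W} y := ∀ (k : κ) (Y : Over (P k)) (m : (Over.map (Sigma.ι P k)).obj Y ⟶ W),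
    ∃ h, h ≫ z' k = BC.up (Sigma.ι P k) (m ≫ y)
  comp q y h k Y m := by
    obtain ⟨h', hh⟩ := h k Y (m ≫ q)
    exact ⟨h', hh.trans (by rw [Category.assoc])⟩

theorem reps_piece [∀ k, IsMonHom (z' k)] : Reps (piece z') (fun k => Sigma.ι P k) z' := by
  intro k Y y
  constructor
  · rintro ⟨h, rfl⟩ l Y' m
    by_cases hkl : l = k
    · subst hkl
      haveI : Mono (Sigma.ι P l) := inferInstance
      let m' : Y' ⟶ Y := Over.homMk m.left (by
        rw [← cancel_mono (Sigma.ι P l), Category.assoc]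
        exact Over.w m)
      refine ⟨m' ≫ h, BC.down_injective ?_⟩
      rw [BC.down_up, Category.assoc, BC.down_comp]
      refine congrArg (· ≫ BC.down (Sigma.ι P l) (h ≫ z' l)) ?_
      exact Over.OverMorphism.ext rfl
    · haveI : IsEmpty ↥Y'.left := ⟨fun p => by
        have h1 : (Sigma.ι P l) (Y'.hom p) = (Sigma.ι P k) (Y.hom (m.left p)) :=
          congrArg (fun f : Y'.left ⟶ ∐ P => f p) (Over.w m).symm
        have hd := disjoint_opensRange_sigmaι P l k hkl
        exact Set.disjoint_iff.1 ((TopologicalSpace.Opens.coe_disjoint).2 hd) ⟨⟨_, rfl⟩, ⟨_, h1.symm⟩⟩⟩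
      refine ⟨1, Over.OverMorphism.ext (isInitialOfIsEmpty.hom_ext _ _)⟩
  · intro h
    obtain ⟨h', hh⟩ := h k Y (𝟙 _)
    exact ⟨h', by rw [hh, Category.id_comp, BC.up_down]⟩

/-- **Tori on the summands of a disjoint union glue.** -/
theorem exists_glue [∀ k, IsMonHom (z' k)] [∀ k, Mono (z' k)] :
    ∃ (T : Over (∐ P)) (_ : GrpObj T) (i : T ⟶ G), IsMonHom i ∧ Mono i ∧ Red.IsTorus T ∧
      ∀ k, Red.IsSplitTorusWith (Fin (r k) → ℤ) (Red.bc (Sigma.ι P k) T) := by
  haveI : ∀ k, IsAffineHom (Red.DS (P k) (Fin (r k) → ℤ)).hom := fun k => DS.isAffineHom _ _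
  have hcov : ∀ s : ↥(∐ P), ∃ k, s ∈ Set.range (Sigma.ι P k) := fun s => by
    obtain ⟨k, y, hy⟩ := (sigmaOpenCover P).exists_eq s
    exact ⟨k, y, hy⟩
  have hmem := HomFam.mem_fpqc_of_etale (fun k => Sigma.ι P k) hcov
  obtain ⟨T, gT, i, him, hi, hch, -⟩ := exists_subgroup (Φ := piece z') (z' := z') hmem (reps_piece z')
    (fun W k Y m => ⟨1, by
      rw [MonObj.one_comp, MonObj.comp_one]
      exact BC.down_injective (by rw [BC.down_up, BC.down_one])⟩)
    (fun W a b ha hb k Y m => by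
      obtain ⟨p, hp⟩ := ha k Y m
      obtain ⟨q, hq⟩ := hb k Y m
      exact ⟨p * q, by rw [MonObj.mul_comp, hp, hq, ← BC.up_mul, MonObj.comp_mul]⟩)
    (fun W a ha k Y m => by
      obtain ⟨p, hp⟩ := ha k Y m
      refine ⟨p⁻¹, BC.down_injective ?_⟩
      rw [GrpObj.inv_comp, BC.down_inv, hp, BC.down_up, BC.down_up, GrpObj.comp_inv])
  refine ⟨T, gT, i, him, hi, ?_, fun k => (hch k).elim fun φ _ => ⟨φ⟩⟩
  refine ⟨∐ P, 𝟙 _, inferInstance, ⟨fun x => ⟨x, rfl⟩⟩, fun V hV => ⟨V, hV.isCompact, by simp⟩, fun s => ?_⟩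
  obtain ⟨k, y, hy⟩ := hcov s
  obtain ⟨φ, -⟩ := hch k
  let l := IsOpenImmersion.lift (Sigma.ι P k) (Sigma.ι P k).opensRange.ι (by rw [Scheme.Opens.range_ι]; rfl)
  refine ⟨(Sigma.ι P k).opensRange, ⟨y, hy⟩, r k, ⟨BaseChange.bcCongr ?_ T ≪≫ Charts.resChart φ l⟩⟩
  rw [Category.comp_id, IsOpenImmersion.lift_fac]

end Glue

/-- **A maximal torus étale locally.** -/
theorem etLocal_of_rankConst (G : Over S) [GrpObj G] [Smooth G.hom] [IsAffineHom G.hom]
    (h : SGA3x.RedRankLocallyConstant G) : SGA3x.HasMaxTorusEtaleLocally G := by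
  choose U hU x hx using h
  have hr : ∀ s : S, ∃ r : ℕ, ∀ t ∈ U s, IsRk G (Red.geomPt t) r := by
    intro s
    obtain ⟨r, hr⟩ := exists_isRk G (Red.geomPt s)
    refine ⟨r, fun t ht => ?_⟩
    obtain ⟨r₁, e₁, h₁⟩ := (hasRedRank_iff G s _).1 (hx s s (hU s))
    obtain ⟨r₂, e₂, h₂⟩ := (hasRedRank_iff G t _).1 (hx s t ht)
    obtain rfl : r₂ = r := by
      rw [hr.unique h₁]
      exact_mod_cast (e₂.symm.trans e₁)
    exact h₂
  choose r hr using hr
  have hsec : ∀ s : S, ∃ (S' : Scheme.{u}) (g : S' ⟶ S) (s' : S') (_ : Etale g), g s' = s ∧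
      ∃ h : S' ⟶ locusSrc G (r s), h ≫ locusMap G (r s) = g := by
    intro s
    have hs := (locus_spec G (r s)).1
    haveI := hs
    obtain ⟨y, hy⟩ := (subAt_iff_mem G (Red.geomPt s) (r s)).1 (hr s s (hU s)).1
    obtain ⟨S', g, s', hg, hgs, hh⟩ := EtaleSection.Sections.exists_etale_section (locusMap G (r s)) y
    exact ⟨S', g, s', hg, by rw [hgs, hy, ptOf_geomPt], hh⟩
  choose S' g s' hg hgs h hh using hsec
  let P : S → Scheme.{u} := fun s => ((g s) ⁻¹ᵁ (U s) : (S' s).Opens)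
  let c : ∀ s, P s ⟶ S := fun s => ((g s) ⁻¹ᵁ (U s)).ι ≫ g s
  have hc : ∀ s, Etale (c s) := fun s => inferInstance
  let f : ∐ P ⟶ S := Sigma.desc c
  have hf : Etale f := by
    haveI : IsZariskiLocalAtSource @Etale.{u} :=
      HasRingHomProperty.instIsZariskiLocalAtSource (P := @Etale) (Q := RingHom.Etale)
    exact IsZariskiLocalAtSource.sigmaDesc hc
  haveI := hf
  have hfs : Surjective f := ⟨fun s => by
    refine ⟨Sigma.ι P s ⟨s' s, show g s (s' s) ∈ U s by rw [hgs]; exact hU s⟩, ?_⟩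
    exact (congrArg (fun w : P s ⟶ S => w ⟨s' s, show g s (s' s) ∈ U s by rw [hgs]; exact hU s⟩)
      (Sigma.ι_desc c s)).trans (hgs s)⟩
  have hsub : ∀ s, SubAt (Red.bc f G) (Sigma.ι P s) (r s) := fun s => by
    rw [subAt_comp_iff, Sigma.ι_desc]
    have := subAt_pullback G (locus_spec G (r s)).2.1 (((g s) ⁻¹ᵁ (U s)).ι ≫ h s)
    rwa [Category.assoc, hh] at this
  choose z hz hzm using hsub
  haveI := hz
  haveI := hzm
  obtain ⟨T, gT, i, him, hi, hT, hsplit⟩ := exists_glue z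
  haveI := him
  haveI := hi
  haveI : Smooth (Red.bc f G).hom := inferInstanceAs (Smooth (pullback.snd G.hom f))
  haveI : IsAffineHom (Red.bc f G).hom := isAffineHom_isStableUnderBaseChange.of_isPullback (IsPullback.of_hasPullback G.hom f) inferInstance
  haveI := Basic.isAffineHom_of_isTorus hT
  haveI := Basic.smooth_of_isTorus hT
  refine ⟨∐ P, f, hf, hfs, T, gT, i, (isMaximalTorus_iff i hT).2 fun t n hn => ?_⟩
  obtain ⟨s, p, rfl⟩ := (sigmaOpenCover P).exists_eq t
  change IsRk T (Red.geomPt (Sigma.ι P s p)) n at hn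
  change IsRk (Red.bc f G) (Red.geomPt (Sigma.ι P s p)) n
  have h1 : IsRk T (Red.geomPt (Sigma.ι P s p)) (r s) := isRk_split_geom (Sigma.ι P s) (hsplit s) p
  obtain rfl := h1.unique hn
  rw [isRk_bc_iff]
  refine hr s _ ?_
  rw [show f (Sigma.ι P s p) = c s p from congrArg (fun w : P s ⟶ S => w p) (Sigma.ι_desc c s)]
  exact p.2

end Groth.Agent.Lib.ImgMT.EtTorus
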