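import Groth.Agent.Lib.ImgMT.Closed
import Groth.Agent.Lib.ImgMT.Image
import Groth.Agent.H87.KerField

/-!
# Kernels of homomorphisms from diagonalisable groups are locally diagonalisable
-/

set_option autoImplicit false
set_option linter.unusedSectionVars false
universe u

open CategoryTheory MonoidalCategory CartesianMonoidalCategory MonObj GrpObj AlgebraicGeometry
open CategoryTheory.Limits
open Groth.Agent.Lib.RedPts Groth.Agent.Lib.Tori Groth.Agent.H87
open Groth.Agent.H87.Locus (toG Kills killSet)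
open Groth.Agent.H87.CentralEq (lo)
open Groth.Agent.H87.HomDS (test univPt evHom)

namespace Groth.Agent.Lib.ImgMT

set_option linter.style.haveILetI false

variable {S : Scheme.{u}} {Γ : Type} [AddCommGroup Γ] {G : Over S} [GrpObj G]

/-- Over `t`, the kernel of `f` is the annihilator of `Λ`. -/
def KerIs (Λ : AddSubgroup Γ) (f : Red.DS S Γ ⟶ G) {T : Scheme.{u}} (t : T ⟶ S) : Prop :=
  ∀ (Y : Over S) (_ : Y ⟶ Over.mk t) (γ : Y ⟶ Red.DS S Γ), γ ≫ f = 1 ↔ ∀ m ∈ Λ, Gm.dsFn γ m = 1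

theorem KerIs.comp {Λ : AddSubgroup Γ} {f : Red.DS S Γ ⟶ G} {T T' : Scheme.{u}} {t : T ⟶ S} (h : KerIs Λ f t)
    (q : T' ⟶ T) {t' : T' ⟶ S} (e : q ≫ t = t') : KerIs Λ f t' := fun Y p γ =>
  h Y (p ≫ Over.homMk (U := Over.mk t') (V := Over.mk t) q e) γ

/-- The base change of a homomorphism from a diagonalisable group. -/
noncomputable def fT {T : Scheme.{u}} (i : T ⟶ S) (f : Red.DS S Γ ⟶ G) : Red.DS T Γ ⟶ Red.bc i G :=
  BC.up i (lo i (𝟙 (Red.DS T Γ)) ≫ f)

theorem down_comp_fT {T : Scheme.{u}} (i : T ⟶ S) (f : Red.DS S Γ ⟶ G) {X : Over T} (x : X ⟶ Red.DS T Γ) :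
    BC.down i (x ≫ fT i f) = lo i x ≫ f := by
  rw [fT, BC.down_comp, BC.down_up, ← Category.assoc, ← CentralEq.lo_comp, Category.comp_id]

theorem isMonHom_fT {T : Scheme.{u}} (i : T ⟶ S) (f : Red.DS S Γ ⟶ G) [IsMonHom f] : IsMonHom (fT i f) :=
  HomDS.isMonHom_of_points _ fun X a b => by
    apply BC.down_injective
    rw [BC.down_mul, down_comp_fT, down_comp_fT, down_comp_fT, CentralEq.lo_mul, MonObj.mul_comp _ _ f]

theorem fT_comp_iff {T : Scheme.{u}} (i : T ⟶ S) (f : Red.DS S Γ ⟶ G) {X : Over T} (x : X ⟶ Red.DS T Γ) :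
    x ≫ fT i f = 1 ↔ lo i x ≫ f = 1 := by
  rw [← down_comp_fT]
  exact ⟨fun h => by rw [h, BC.down_one], fun h => BC.down_injective (h.trans BC.down_one.symm)⟩

theorem KerIs.fT {Λ : AddSubgroup Γ} {f : Red.DS S Γ ⟶ G} {T T' : Scheme.{u}} {i : T ⟶ S} {h : T' ⟶ T}
    (hk : KerIs Λ f (h ≫ i)) : KerIs Λ (ImgMT.fT i f) h := fun Y p γ => by
  rw [fT_comp_iff]
  have h1 := hk ((Over.map i).obj Y) (Over.homMk (U := (Over.map i).obj Y) (V := Over.mk (h ≫ i)) p.left (by
    show p.left ≫ h ≫ i = Y.hom ≫ i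
    rw [← Category.assoc]
    exact congrArg (· ≫ i) (Over.w p))) (lo i γ)
  simp only [CentralEq.dsFn_lo] at h1
  exact h1

theorem kerIs_of_fT {Λ : AddSubgroup Γ} {f : Red.DS S Γ ⟶ G} {T T' : Scheme.{u}} {i : T ⟶ S} {h : T' ⟶ T}
    (hk : KerIs Λ (ImgMT.fT i f) h) : KerIs Λ f (h ≫ i) := fun Y p γ => by
  let Y₀ : Over T := Over.mk (p.left ≫ h)
  let ε : (Over.map i).obj Y₀ ≅ Y := Over.isoMk (Iso.refl _) (by
    show 𝟙 _ ≫ Y.hom = (p.left ≫ h) ≫ i
    rw [Category.id_comp, Category.assoc]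
    exact (Over.w p).symm)
  obtain ⟨x, hx⟩ := CentralEq.lo_surjective i (ε.hom ≫ γ)
  have h1 := hk Y₀ (Over.homMk p.left) x
  rw [fT_comp_iff, hx] at h1
  have h2 : (ε.hom ≫ γ) ≫ f = 1 ↔ γ ≫ f = 1 := by
    rw [Category.assoc, ← MonObj.comp_one (M := G) ε.hom]
    exact (cancel_epi ε.hom)
  have h3 : ∀ m, Gm.dsFn x m = 1 ↔ Gm.dsFn γ m = 1 := fun m => by
    rw [← CentralEq.dsFn_lo i x m, hx, Gm.dsFn_comp]
    have : ε.hom.left.appTop (Gm.dsFn γ m) = Gm.dsFn γ m := by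
      show (𝟙 Y.left : _ ⟶ _).appTop _ = _
      simp
    rw [this]
  rw [← h2, h1]
  exact forall₂_congr fun m _ => h3 m

/-- The annihilator is determined over a non-empty base. -/
theorem KerIs.le {Λ Λ' : AddSubgroup Γ} {f : Red.DS S Γ ⟶ G} {K : Type u} [Field K]
    {t : Spec (CommRingCat.of K) ⟶ S} (h : KerIs Λ f t) (h' : KerIs Λ' f t) : Λ' ≤ Λ := by
  intro m hm
  let D : CommRingCat.{u} := CommRingCat.of (MonoidAlgebra K (Multiplicative (Γ ⧸ Λ)))
  let φ : CommRingCat.of K ⟶ D := CommRingCat.ofHom MonoidAlgebra.singleOneRingHom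
  let ch : Multiplicative Γ →* D :=
    (MonoidAlgebra.of K (Multiplicative (Γ ⧸ Λ))).comp (QuotientAddGroup.mk' Λ).toMultiplicative
  let p : test t φ ⟶ Over.mk t := Over.homMk (Spec.map φ)
  have h1 : ∀ n ∈ Λ, Gm.dsFn (pt t φ ch) n = 1 := fun n hn => by
    rw [dsFn_pt]
    refine (congrArg (toG D) ?_).trans (map_one _)
    show MonoidAlgebra.of K _ (Multiplicative.ofAdd (QuotientAddGroup.mk' Λ n)) = 1
    rw [show QuotientAddGroup.mk' Λ n = 0 from (QuotientAddGroup.eq_zero_iff _).2 hn]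
    exact map_one _
  have h2 := (h' _ p _).1 ((h _ p _).2 h1) m hm
  rw [dsFn_pt] at h2
  have h3 : MonoidAlgebra.of K _ (Multiplicative.ofAdd (QuotientAddGroup.mk' Λ m)) = MonoidAlgebra.of K _ 1 :=
    (HomDS.toG_injective D (h2.trans (map_one (toG D)).symm)).trans (map_one _).symm
  exact (QuotientAddGroup.eq_zero_iff _).1 (Multiplicative.ofAdd.injective (MonoidAlgebra.of_injective h3))

theorem KerIs.unique {Λ Λ' : AddSubgroup Γ} {f : Red.DS S Γ ⟶ G} {K : Type u} [Field K]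
    {t : Spec (CommRingCat.of K) ⟶ S} (h : KerIs Λ f t) (h' : KerIs Λ' f t) : Λ = Λ' :=
  le_antisymm (h'.le h) (h.le h')

/-- A point killing `Λ` comes from the quotient. -/
theorem exists_fac_quot (Λ : AddSubgroup Γ) {X : Over S} (x : X ⟶ Red.DS S Γ) (h : ∀ m ∈ Λ, Gm.dsFn x m = 1) :
    ∃ y, y ≫ Red.DSmap S (QuotientAddGroup.mk' Λ) = x := by
  let χ' : Multiplicative (Γ ⧸ Λ) →* Γ(X.left, ⊤) :=
      { toFun := fun q => Quotient.liftOn' q.toAdd (fun m => Gm.dsFn x m) (fun a b hab => by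
          have hn : -a + b ∈ Λ := QuotientAddGroup.leftRel_apply.mp hab
          show Gm.dsFn x a = Gm.dsFn x b
          rw [show b = a + (-a + b) from (add_neg_cancel_left a b).symm, Gm.dsFn_add, h _ hn, _root_.mul_one])
        map_one' := Gm.dsFn_zero x
        map_mul' := fun p q => by
          induction p using Quotient.inductionOn' with
          | h a =>
            induction q using Quotient.inductionOn' with
            | h b => exact Gm.dsFn_add x a b }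
  refine ⟨Gm.dsPt χ', Gm.dsFn_ext fun m => ?_⟩
  rw [Gm.dsFn_DSmap, Gm.dsFn_dsPt]
  rfl

theorem isCov_DSmap {N : Type} [AddCommGroup N] {inc : N →+ Γ} (h : Function.Injective inc) :
    IsCov (Red.DSmap S inc) := by
  obtain ⟨hfl, hsj⟩ := Loci.ff_DSmap S h
  haveI : IsAffineHom (Red.DS S Γ).hom := DS.isAffineHom S Γ
  haveI : IsAffineHom (Red.DS S N).hom := DS.isAffineHom S N
  refine ⟨hfl, hsj, ?_⟩
  have : QuasiCompact ((Red.DSmap S inc).left ≫ (Red.DS S N).hom) := by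
    rw [Over.w (Red.DSmap S inc)]
    infer_instance
  exact QuasiCompact.of_comp (Red.DSmap S inc).left (Red.DS S N).hom

theorem IsCov.epi {Y' Y : Over S} {a : Y' ⟶ Y} (ha : IsCov a) : Epi a := by
  obtain ⟨g1, g2, g3⟩ := ha
  haveI : Epi a.left := Flat.epi_of_flat_of_surjective _
  exact Over.epi_of_epi_left _

theorem IsCov.dsFn_eq_one {Y' Y : Over S} {a : Y' ⟶ Y} (ha : IsCov a) (γ : Y ⟶ Red.DS S Γ) (m : Γ)
    (h : Gm.dsFn (a ≫ γ) m = 1) : Gm.dsFn γ m = 1 := by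
  have := ha.epi
  have h1 : a ≫ γ ≫ Red.chi S m = a ≫ 1 := Gm.gmFn_injective (by
    rw [MonObj.comp_one, Gm.gmFn_one, ← Category.assoc, Gm.gmFn_chi, h])
  have h2 := congrArg Red.gmFn ((cancel_epi a).1 h1)
  rwa [Gm.gmFn_chi, Gm.gmFn_one] at h2

/-- If `Λ` annihilates the kernel on the points over `t`, the factorisation is injective on kernels. -/
theorem kerTriv_of_fac {Λ : AddSubgroup Γ} {f : Red.DS S Γ ⟶ G} (j : Red.DS S Λ ⟶ G)
    (hj : Red.DSmap S Λ.subtype ≫ j = f) {T : Scheme.{u}} (t : T ⟶ S)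
    (h2 : ∀ (Y : Over S) (_ : Y ⟶ Over.mk t) (γ : Y ⟶ Red.DS S Γ), γ ≫ f = 1 → ∀ m ∈ Λ, Gm.dsFn γ m = 1)
    (Y : Over S) (p : Y ⟶ Over.mk t) (γ : Y ⟶ Red.DS S Λ) (hγ : γ ≫ j = 1) : γ = 1 := by
  obtain ⟨Y', a, x, ha, hx⟩ := exists_pullback (isCov_DSmap (S := S) (inc := Λ.subtype) Subtype.coe_injective) γ
  have := ha.epi
  have h1 : x ≫ f = 1 := by rw [← hj, ← Category.assoc, hx, Category.assoc, hγ, MonObj.comp_one]
  refine Gm.dsFn_ext fun n => ?_
  rw [Gm.dsFn_one]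
  refine ha.dsFn_eq_one γ n ?_
  rw [← hx, Gm.dsFn_DSmap]
  exact h2 Y' (a ≫ p) x h1 _ n.2

variable [IsSeparated G.hom] [QuasiCompact G.hom]

/-- Where the kernel is the annihilator of `Λ`, the image is `D(Λ)`, closed. -/
theorem exists_fac_closed [LocallyOfFiniteType G.hom] {Λ : AddSubgroup Γ} (hΛ : Λ.FG) (f : Red.DS S Γ ⟶ G)
    [IsMonHom f] {T : Scheme.{u}} (i : T ⟶ S) (hk : KerIs Λ f i) :
    ∃ j : Red.DS T Λ ⟶ Red.bc i G, IsMonHom j ∧ Mono j ∧ IsClosedImmersion j.left ∧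
      Red.DSmap T Λ.subtype ≫ j = fT i f := by
  haveI := isMonHom_fT i f
  have hk' : KerIs Λ (fT i f) (𝟙 T) := KerIs.fT (hk.comp (𝟙 T) rfl)
  let p : ∀ Y : Over T, Y ⟶ Over.mk (𝟙 T) := fun Y => Over.homMk Y.hom (Category.comp_id _)
  obtain ⟨j, hjm, hj⟩ := Factor.exists_factor (inc := Λ.subtype) Subtype.coe_injective (fT i f) (by
    refine (hk' _ (p _) _).2 fun m hm => ?_
    rw [DS.dsFn_DSmap_self]
    rw [show QuotientAddGroup.mk' Λ.subtype.range m = 0 from
      (QuotientAddGroup.eq_zero_iff _).mpr ⟨⟨m, hm⟩, rfl⟩, Gm.dsFn_zero])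
  haveI := hjm
  haveI : Mono j := ⟨fun a b hab => H87.Mono.eq_of_kill j a b
    (fun c hc => kerTriv_of_fac j hj (𝟙 T) (fun Y q γ => (hk' Y q γ).1) _ (p _) c hc) hab⟩
  haveI : AddGroup.FG Λ := (AddGroup.fg_iff_addSubgroup_fg Λ).mpr hΛ
  haveI : IsSeparated (Red.bc i G).hom := inferInstanceAs (IsSeparated (pullback.snd G.hom i))
  haveI : QuasiCompact (Red.bc i G).hom := inferInstanceAs (QuasiCompact (pullback.snd G.hom i))
  haveI : LocallyOfFiniteType (Red.bc i G).hom := inferInstanceAs (LocallyOfFiniteType (pullback.snd G.hom i))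
  exact ⟨j, hjm, inferInstance, isClosedImmersion_of_mono_DS j, hj⟩

variable [LocallyOfFinitePresentation G.hom]

set_option backward.isDefEq.respectTransparency false in
/-- Over an affine base `f` is trivial on the annihilator of a finitely generated group. -/
theorem exists_fg_kills {A : CommRingCat.{u}} {G : Over (Spec A)} [GrpObj G] [IsSeparated G.hom]
    [LocallyOfFinitePresentation G.hom] (f : Red.DS (Spec A) Γ ⟶ G) [IsMonHom f] :
    ∃ Γ₀ : AddSubgroup Γ, Γ₀.FG ∧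
      ∀ (Y : Over (Spec A)) (γ : Y ⟶ Red.DS (Spec A) Γ), (∀ m ∈ Γ₀, Gm.dsFn γ m = 1) → γ ≫ f = 1 := by
  classical
  let R : CommRingCat.{u} := HomDS.ring (A := A) Γ
  let inc : A ⟶ R := CommRingCat.ofHom MonoidAlgebra.singleOneRingHom
  let w : Spec R ⟶ G.left := (univPt (𝟙 (Spec A)) Γ ≫ f).left
  haveI : IsClosedImmersion η[G].left := Groth.Agent.Lib.GrpSch.isClosedImmersion_η G
  haveI : LocallyOfFinitePresentation η[G].left := by
    have : LocallyOfFinitePresentation (η[G].left ≫ G.hom) := by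
      rw [show η[G].left ≫ G.hom = 𝟙 (Spec A) from Over.w η[G]]
      exact locallyOfFinitePresentation_of_isOpenImmersion (f := 𝟙 (Spec A))
    exact Groth.Agent.Lib.Lim.OpenImm.lfp_of_comp η[G].left G.hom
  let P := pullback.fst w η[G].left
  haveI : IsClosedImmersion P := inferInstance
  haveI hlfp : LocallyOfFinitePresentation P := inferInstance
  obtain ⟨I, iso, hiso⟩ := IsClosedImmersion.Spec_iff.mp ‹IsClosedImmersion P›
  have hI : I.FG := by
    have : LocallyOfFinitePresentation (iso.inv ≫ P) := inferInstance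
    rw [hiso, Iso.inv_hom_id_assoc, HasRingHomProperty.Spec_iff (P := @LocallyOfFinitePresentation)] at this
    have h : Algebra.FinitePresentation R (R ⧸ I) := RingHom.finitePresentation_algebraMap.mp this
    simpa using Algebra.FinitePresentation.ker_fG_of_surjective (Algebra.ofId R (R ⧸ I))
      Ideal.Quotient.mk_surjective
  obtain ⟨F, hF⟩ := hI
  let Γ₀ : AddSubgroup Γ := AddSubgroup.closure (F.biUnion fun x => x.coeff.support.image Multiplicative.toAdd : Finset Γ)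
  refine ⟨Γ₀, ⟨_, rfl⟩, fun Y γ hγ => ?_⟩
  let toQ : R ⟶ CommRingCat.of (R ⧸ I) := CommRingCat.ofHom (Ideal.Quotient.mk I)
  -- the equations vanish at the unit
  let ev₁ : R ⟶ A := Locus.ev (𝟙 A) (1 : Multiplicative Γ →* A)
  have hsum : ∀ x ∈ F, ev₁.hom x = 0 := by
    intro x hx
    have h1 : Spec.map ev₁ ≫ w = η[G].left := by
      have e := pt_one (M := Γ) (𝟙 (Spec A)) (𝟙 A)
      have e2 := congr(($(congrArg (· ≫ f) e)).left)
      rw [MonObj.one_comp, Hom.one_def] at e2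
      refine Eq.trans (by exact e2) ?_
      show (Spec.map (𝟙 A) ≫ 𝟙 (Spec A)) ≫ η[G].left = η[G].left
      rw [Spec.map_id, Category.id_comp, Category.id_comp]
    let l := pullback.lift (Spec.map ev₁) (𝟙 (Spec A)) (h1.trans (Category.id_comp _).symm) ≫ iso.hom
    have h2 : l ≫ Spec.map toQ = Spec.map ev₁ := by
      rw [Category.assoc, ← hiso]
      exact pullback.lift_fst _ _ _
    obtain ⟨ψ, hψ⟩ := Spec.map_surjective l
    rw [← hψ, ← Spec.map_comp] at h2
    rw [← Spec.map_injective h2]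
    show ψ.hom (Ideal.Quotient.mk I x) = 0
    rw [Ideal.Quotient.eq_zero_iff_mem.mpr (hF ▸ Ideal.subset_span hx), map_zero]
  -- hence they vanish on the annihilator
  obtain ⟨y, rfl⟩ := exists_fac_quot Γ₀ γ hγ
  suffices hw : Red.DSmap (Spec A) (QuotientAddGroup.mk' Γ₀) ≫ f = 1 by rw [Category.assoc, hw, MonObj.comp_one]
  let D : CommRingCat.{u} := HomDS.ring (A := A) (Γ ⧸ Γ₀)
  let φ : A ⟶ D := CommRingCat.ofHom MonoidAlgebra.singleOneRingHom
  let π : Multiplicative Γ →* D :=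
    (MonoidAlgebra.of A _).comp (QuotientAddGroup.mk' Γ₀).toMultiplicative
  have hπ : ∀ x ∈ F, (Locus.ev φ π).hom x = 0 := by
    intro x hx
    have h1 := hsum x hx
    conv_lhs at h1 => rw [← MonoidAlgebra.sum_coeff_single x]
    conv_lhs => rw [← MonoidAlgebra.sum_coeff_single x]
    rw [map_finsuppSum] at h1 ⊢
    rw [Finsupp.sum, Finset.sum_congr rfl fun m _ => (show ev₁.hom (MonoidAlgebra.single m (x.coeff m)) = x.coeff m from
      (MonoidAlgebra.liftNCRingHom_single _ _ (fun _ _ => Commute.all _ _) m _).trans (_root_.mul_one _))] at h1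
    simp only [Locus.ev, CommRingCat.hom_ofHom, MonoidAlgebra.liftNCRingHom_single] at ⊢
    have h2 : ∀ m ∈ x.coeff.support, π m = 1 := fun m hm => by
      show MonoidAlgebra.of A _ (Multiplicative.ofAdd (QuotientAddGroup.mk' Γ₀ m.toAdd)) = 1
      rw [show QuotientAddGroup.mk' Γ₀ m.toAdd = 0 from (QuotientAddGroup.eq_zero_iff _).2
        (AddSubgroup.subset_closure (Finset.mem_biUnion.2 ⟨x, hx, Finset.mem_image_of_mem _ hm⟩))]
      exact map_one _
    rw [Finsupp.sum]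
    rw [Finset.sum_congr rfl fun m hm => by rw [h2 m hm, _root_.mul_one], ← map_sum, h1, map_zero]
  have hker : I ≤ RingHom.ker (Locus.ev φ π).hom := by
    rw [← hF, Ideal.span_le]
    exact hπ
  have h3 : pt (𝟙 (Spec A)) φ π ≫ f = 1 := by
    rw [Hom.one_def]
    apply Over.OverMorphism.ext
    show Spec.map (Locus.ev φ π) ≫ w = (test (𝟙 (Spec A)) φ).hom ≫ η[G].left
    let ψ : CommRingCat.of (R ⧸ I) ⟶ D := CommRingCat.ofHom (Ideal.Quotient.lift I (Locus.ev φ π).hom hker)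
    have hψ : toQ ≫ ψ = Locus.ev φ π := CommRingCat.hom_ext (Ideal.Quotient.lift_comp_mk I _ hker)
    have hq : Spec.map toQ = iso.inv ≫ P := by rw [hiso, Iso.inv_hom_id_assoc]
    rw [← hψ, Spec.map_comp, hq, Category.assoc, Category.assoc, show P ≫ w = pullback.snd w η[G].left ≫ η[G].left from
      pullback.condition]
    simp only [← Category.assoc]
    refine congrArg (· ≫ η[G].left) ?_
    have hb : P ≫ Spec.map inc = pullback.snd w η[G].left := by
      have e := congrArg (· ≫ G.hom) (pullback.condition (f := w) (g := η[G].left))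
      simp only [Category.assoc] at e
      rw [show w ≫ G.hom = Spec.map inc ≫ 𝟙 _ from Over.w (univPt (𝟙 (Spec A)) Γ ≫ f),
        show η[G].left ≫ G.hom = 𝟙 (Spec A) from Over.w η[G]] at e
      simpa using e
    show _ = Spec.map φ ≫ 𝟙 (Spec A)
    rw [Category.comp_id, ← hb, ← Category.assoc, Category.assoc (Spec.map ψ), ← hq, ← Spec.map_comp, hψ,
      ← Spec.map_comp, Locus.inc_ev]
  have h4 : univPt (𝟙 (Spec A)) (Γ ⧸ Γ₀) ≫ Red.DSmap (Spec A) (QuotientAddGroup.mk' Γ₀) ≫ f = 1 := by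
    rw [← Category.assoc, show univPt (𝟙 (Spec A)) (Γ ⧸ Γ₀) ≫ Red.DSmap (Spec A) (QuotientAddGroup.mk' Γ₀) =
      pt (𝟙 (Spec A)) φ π from Gm.dsFn_ext fun m => by
        rw [Gm.dsFn_DSmap, dsFn_pt, univPt, Gm.dsFn_dsPt]
        rfl]
    exact h3
  exact (Category.id_comp _).symm.trans ((HomDS.kills_of_univ (𝟙 (Spec A)) (Γ ⧸ Γ₀) _ h4) _
    (Over.homMk (Red.DS (Spec A) (Γ ⧸ Γ₀)).hom (Category.comp_id _)) (𝟙 _))

end Groth.Agent.Lib.ImgMT
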