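import Groth.Agent.Lib.ImgMT.EtTorus
import Groth.Agent.Lib.SmWeil.CartanDim
import Groth.Agent.Lib.ActSep.UnivOpen
import Groth.Agent.H1.Classical.FieldDescent
import Groth.Agent.H56.DimBaseChange

/-!
# The nilpotent rank of the geometric fibres
-/

set_option autoImplicit false
set_option linter.unusedSectionVars false
universe u

open CategoryTheory MonoidalCategory CartesianMonoidalCategory MonObj GrpObj AlgebraicGeometry
open CategoryTheory.Limits
open Groth.Agent.Lib.RedPts Groth.Agent.Lib.Tori Groth.Agent.H87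
open Groth.Agent.Lib.ImgMT.RedRank

namespace Groth.Agent.Lib.ImgMT.NilRank

set_option linter.style.haveILetI false

variable {S : Scheme.{u}}

set_option backward.isDefEq.respectTransparency false in
/-- The dimension of a fibre does not depend on the field. -/
theorem dim_bc {C : Over S} [LocallyOfFiniteType C.hom] {L : Type u} [Field L] (k : Spec (CommRingCat.of L) ⟶ S) :
    topologicalKrullDim ↥(Red.bc k C).left = topologicalKrullDim ↥(C.hom ⁻¹' {ptOf k}) := by
  let q : Spec (CommRingCat.of L) ⟶ Spec (S.residueField (ptOf k)) :=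
    Spec.map (S.descResidueField (Scheme.stalkClosedPointTo k))
  have hk : q ≫ S.fromSpecResidueField (ptOf k) = k :=
    Scheme.descResidueField_stalkClosedPointTo_fromSpecResidueField L S k
  let e : (Red.bc k C).left ≅ pullback (pullback.snd C.hom (S.fromSpecResidueField (ptOf k))) q :=
    pullback.congrHom rfl hk.symm ≪≫ (pullbackLeftPullbackSndIso C.hom (S.fromSpecResidueField (ptOf k)) q).symm
  haveI : LocallyOfFiniteType (pullback.snd C.hom (S.fromSpecResidueField (ptOf k))) :=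
    locallyOfFiniteType_isStableUnderBaseChange.of_isPullback
      (IsPullback.of_hasPullback C.hom (S.fromSpecResidueField (ptOf k))) inferInstance
  rw [IsHomeomorph.topologicalKrullDim_eq _ (Scheme.homeoOfIso e).isHomeomorph]
  refine (Groth.Agent.H56.DimBaseChange.topologicalKrullDim_baseChange q _ _ _
    (IsPullback.of_hasPullback (pullback.snd C.hom (S.fromSpecResidueField (ptOf k))) q)).trans ?_
  exact IsHomeomorph.topologicalKrullDim_eq _ (C.hom.fiberHomeo (ptOf k)).isHomeomorph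

/-- Centralizers are carried along isomorphisms of groups. -/
theorem isCentralizerOf_iso {G G' T C : Over S} [GrpObj G] [GrpObj G'] [GrpObj T] [GrpObj C] {i : T ⟶ G} {c : C ⟶ G}
    (h : Red.IsCentralizerOf i c) (e : G ≅ G') [IsMonHom e.hom] : Red.IsCentralizerOf (i ≫ e.hom) (c ≫ e.hom) := by
  haveI := h.1
  haveI := h.2.1
  haveI : Mono e.hom := @IsIso.mono_of_iso _ _ _ _ _ (Iso.isIso_hom _)
  refine ⟨inferInstance, mono_comp _ _, fun X g => ?_⟩
  have hg : ∀ {Y : Over S} (x : Y ⟶ X), x ≫ g = (x ≫ g ≫ e.inv) ≫ e.hom := fun x => by simp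
  constructor
  · rintro ⟨z, rfl⟩ X' x t
    have h1 := congrArg (· ≫ e.hom) ((h.2.2 X (z ≫ c)).1 ⟨z, rfl⟩ X' x t)
    simpa only [MonObj.mul_comp, Category.assoc] using h1
  · intro hc
    obtain ⟨z, hz⟩ := (h.2.2 X (g ≫ e.inv)).2 fun X' x t => by
      rw [← cancel_mono e.hom, MonObj.mul_comp, MonObj.mul_comp, ← hg, Category.assoc]
      exact hc X' x t
    exact ⟨z, by rw [reassoc_of% hz, Iso.inv_hom_id, Category.comp_id]⟩

variable (G : Over S) [GrpObj G] [IsAffineHom G.hom] [Smooth G.hom]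

/-- The data of the universal centralizer over the locus of subtori of rank `r`, at a geometric point. -/
theorem exists_universal (r : ℕ) : ∃ (Z : Over (locusSrc G r)) (_ : Smooth Z.hom) (_ : GrpObj Z),
    ∀ (L : Type u) [Field L] [IsAlgClosed L] (k : Spec (CommRingCat.of L) ⟶ S) (g : Spec (CommRingCat.of L) ⟶ locusSrc G r),
      g ≫ locusMap G r = k →
      ∃ (T C : Over (Spec (CommRingCat.of L))) (_ : GrpObj T) (_ : GrpObj C) (i : T ⟶ Red.bc k G) (c : C ⟶ Red.bc k G),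
        IsMonHom i ∧ Mono i ∧ Red.IsSplitTorusWith (Fin r → ℤ) T ∧ Red.IsCentralizerOf i c ∧
        topologicalKrullDim ↥C.left = topologicalKrullDim ↥(Z.hom ⁻¹' {ptOf g}) := by
  obtain ⟨-, ⟨U, hU, hUm⟩, -⟩ := locus_spec G r
  haveI := hU
  haveI := hUm
  haveI : Smooth (Red.bc (locusMap G r) G).hom := inferInstanceAs (Smooth (pullback.snd G.hom (locusMap G r)))
  haveI : IsAffineHom (Red.bc (locusMap G r) G).hom :=
    isAffineHom_isStableUnderBaseChange.of_isPullback (IsPullback.of_hasPullback G.hom (locusMap G r)) inferInstance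
  obtain ⟨Z, gZ, jZ, hZ, -, hZs⟩ :=
    SmWeil.exists_centralizer_torus (Basic.isTorus_DS (locusSrc G r) (Fin r → ℤ)) U
  letI := gZ
  haveI := hZs
  refine ⟨Z, hZs, gZ, fun L _ _ k g hg => ?_⟩
  let e := BaseChange.overIso ((BaseChange.bcComp g (locusMap G r) G).symm ≪≫ BaseChange.bcCongr hg G)
  haveI : IsMonHom e.hom := BaseChange.isMonHom_overIso _
  haveI : Mono e.hom := @IsIso.mono_of_iso _ _ _ _ _ (Iso.isIso_hom _)
  refine ⟨Red.bc g (Red.DS _ (Fin r → ℤ)), Red.bc g Z, inferInstance, inferInstance,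
    (Over.pullback g).map U ≫ e.hom, (Over.pullback g).map jZ ≫ e.hom, inferInstance, mono_comp _ _,
    Basic.isSplit_bc (Basic.isSplit_DS _ _) g,
    isCentralizerOf_iso (Groth.Agent.H1.Classical.FieldDescent.isCentralizerOf_bc g hZ) e, ?_⟩
  exact dim_bc g

section

variable {L : Type u} [Field L] [IsAlgClosed L] (k : Spec (CommRingCat.of L) ⟶ S)

theorem dim_le' {T C C' : Over (Spec (CommRingCat.of L))} [GrpObj T] [GrpObj C] [GrpObj C'] (j : T ⟶ Red.bc k G)
    [IsMonHom j] [Mono j] (hT : Red.IsTorus T) (c : C ⟶ Red.bc k G) (hC : Red.IsCentralizerOf j c)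
    (c' : C' ⟶ Red.bc k G) (hC' : SGA3x.IsCartanOver L c') :
    topologicalKrullDim ↥C'.left ≤ topologicalKrullDim ↥C.left := by
  haveI : Smooth (Red.bc k G).hom := inferInstanceAs (Smooth (pullback.snd G.hom k))
  haveI : QuasiCompact (Red.bc k G).hom := inferInstanceAs (QuasiCompact (pullback.snd G.hom k))
  haveI : IsAffineHom (Red.bc k G).hom := inferInstanceAs (IsAffineHom (pullback.snd G.hom k))
  haveI : IsAffine (Red.bc k G).left := isAffine_of_isAffineHom (Red.bc k G).hom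
  exact SmWeil.CartanDim.dim_le j hT c hC c' hC'

/-- A Cartan subgroup exists. -/
theorem exists_cartan : ∃ (C : Over (Spec (CommRingCat.of L))) (_ : GrpObj C) (c : C ⟶ Red.bc k G),
    SGA3x.IsCartanOver L c := by
  obtain ⟨r, hr⟩ := exists_isRk G k
  obtain ⟨u, hu, hm⟩ := hr.1
  haveI := hu
  haveI := hm
  haveI : Smooth (Red.bc k G).hom := inferInstanceAs (Smooth (pullback.snd G.hom k))
  haveI : IsAffineHom (Red.bc k G).hom := inferInstanceAs (IsAffineHom (pullback.snd G.hom k))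
  have hT := isMaximalTorus_of_isRk k G hr (Basic.isSplit_DS _ _) u
  obtain ⟨C, gC, c, hC, -, -⟩ := SmWeil.exists_centralizer_torus hT.2.2.1 u
  exact ⟨C, gC, c, hC.1, hC.2.1, _, inferInstance, u, hT, hC⟩

end

/-- **The nilpotent rank is upper semicontinuous.** -/
theorem isOpen_nilRank_le (n : WithBot ℕ∞) :
    IsOpen {s : S | ∃ (C' : Over (Spec (CommRingCat.of (AlgebraicClosure (S.residueField s))))) (_ : GrpObj C')
      (c' : C' ⟶ Red.geomFibre s G),
      SGA3x.IsCartanOver (AlgebraicClosure (S.residueField s)) c' ∧ topologicalKrullDim ↥C'.left ≤ n} := by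
  rw [isOpen_iff_forall_mem_open]
  rintro s ⟨C', gC', c', hc', hn⟩
  obtain ⟨-, -, T', gT', i', hi', hc⟩ := id hc'
  letI := gC'
  letI := gT'
  haveI := hi'.1
  haveI := hi'.2.1
  obtain ⟨r, hr⟩ := exists_isRk G (Red.geomPt s)
  haveI := (locus_spec G r).1
  obtain ⟨g, hg⟩ := exists_lift (locusMap G r) (Red.geomPt s) ((subAt_iff_mem G _ r).1 hr.1)
  obtain ⟨Z, hZs, gZ, huniv⟩ := exists_universal G r
  letI := gZ
  haveI := hZs
  obtain ⟨T, C, gT, gC, i, c, him, himono, hT, hC, hdim⟩ := huniv _ (Red.geomPt s) g hg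
  letI := gT
  letI := gC
  haveI := him
  haveI := himono
  have hcart : SGA3x.IsCartanOver _ c :=
    ⟨hC.1, hC.2.1, T, gT, i, isMaximalTorus_of_isRk _ G hr hT i, hC⟩
  have hle : topologicalKrullDim ↥(Z.hom ⁻¹' {ptOf g}) ≤ n :=
    hdim ▸ (dim_le' G _ i' hi'.2.2.1 c' hc c hcart).trans hn
  obtain ⟨O, hO1, hO⟩ := Groth.Agent.Lib.FibreDim.Semicont.exists_open_forall_fibreDimAt_le Z.hom (η[Z].left (ptOf g))
  let V : Set (locusSrc G r) := η[Z].left ⁻¹' (O : Set Z.left)
  refine ⟨locusMap G r '' V, ?_, (locusMap G r).isOpenMap _ (O.2.preimage η[Z].left.continuous), ?_⟩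
  · rintro t ⟨y, hy, rfl⟩
    let k : Spec (CommRingCat.of (AlgebraicClosure (S.residueField (locusMap G r y)))) ⟶ S :=
      Red.geomPt (locusMap G r y)
    obtain ⟨C₁, gC₁, c₁, hc₁⟩ := exists_cartan G k
    letI := gC₁
    refine ⟨C₁, gC₁, c₁, hc₁, ?_⟩
    let Vo : (locusSrc G r).Opens := ⟨V, O.2.preimage η[Z].left.continuous⟩
    obtain ⟨g'', hg''⟩ := exists_lift (Vo.ι ≫ locusMap G r) k ⟨⟨y, hy⟩, (ptOf_geomPt _).symm⟩
    obtain ⟨g', hg', hgV⟩ : ∃ g', g' ≫ locusMap G r = k ∧ ptOf g' ∈ V :=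
      ⟨g'' ≫ Vo.ι, (Category.assoc _ _ _).trans hg'', (g'' (IsLocalRing.closedPoint _)).2⟩
    have hgn : topologicalKrullDim ↥(Z.hom ⁻¹' {ptOf g'}) ≤ n := by
      rw [← ActSep.fibreDimAt_unit] at hle ⊢
      exact (hO _ hgV).trans hle
    obtain ⟨T₂, C₂, gT₂, gC₂, i₂, c₂, him₂, himono₂, hT₂, hC₂, hdim₂⟩ := huniv _ k g' hg'
    letI := gT₂
    letI := gC₂
    haveI := him₂
    haveI := himono₂
    exact (dim_le' G k i₂ (Basic.isTorus_of_isSplit hT₂) c₂ hC₂ c₁ hc₁).trans (hdim₂.trans_le hgn)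
  · refine ⟨ptOf g, hO1, ?_⟩
    have h1 := congrArg (fun f : Spec (CommRingCat.of (AlgebraicClosure (S.residueField s))) ⟶ S =>
      f (IsLocalRing.closedPoint _)) hg
    exact h1.trans (ptOf_geomPt s)

/-- **The nilpotent rank is locally constant where the reductive rank is.** -/
theorem nilRank_locallyConstant (hG : SGA3x.RedRankLocallyConstant G) (s : S) :
    ∃ U : S.Opens, s ∈ U ∧ ∃ d : WithBot ℕ∞, ∀ t : S, t ∈ U →
      ∀ (C' : Over (Spec (CommRingCat.of (AlgebraicClosure (S.residueField t))))) [GrpObj C']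
        (c' : C' ⟶ Red.geomFibre t G),
        SGA3x.IsCartanOver (AlgebraicClosure (S.residueField t)) c' → topologicalKrullDim ↥C'.left = d := by
  obtain ⟨U₀, hsU, x, hx⟩ := hG s
  obtain ⟨r, hxr, hr⟩ := (hasRedRank_iff G s x).1 (hx s hsU)
  have hrk : ∀ t ∈ U₀, IsRk G (Red.geomPt t) r := by
    intro t ht
    obtain ⟨r', hxr', hr'⟩ := (hasRedRank_iff G t x).1 (hx t ht)
    obtain rfl : r = r' := by exact_mod_cast hxr.symm.trans hxr'
    exact hr'
  haveI := (locus_spec G r).1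
  obtain ⟨Z, hZs, gZ, huniv⟩ := exists_universal G r
  letI := gZ
  haveI := hZs
  obtain ⟨g, hg⟩ := exists_lift (locusMap G r) (Red.geomPt s) ((subAt_iff_mem G _ r).1 hr.1)
  obtain ⟨U, hU, hdim⟩ := ActSep.exists_dim_nhds (G := Z) (ptOf g) ⊤ trivial fun x _ _ _ Y' h x' _ N hN =>
    (pullback.snd Z.hom h).isOpenMap.image_mem_nhds hN
  obtain ⟨O, hOU, hO, hgO⟩ := mem_nhds_iff.1 hU
  let Vo : (locusSrc G r).Opens := ⟨O, hO⟩
  let U₁ : S.Opens := U₀ ⊓ ⟨locusMap G r '' O, (locusMap G r).isOpenMap _ hO⟩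
  refine ⟨U₁, ⟨hsU, ptOf g, hgO, ?_⟩, topologicalKrullDim ↥(Z.hom ⁻¹' {ptOf g}), ?_⟩
  · have h1 := congrArg (fun f : Spec (CommRingCat.of (AlgebraicClosure (S.residueField s))) ⟶ S =>
      f (IsLocalRing.closedPoint _)) hg
    exact h1.trans (ptOf_geomPt s)
  rintro t ⟨htU, y, hy, rfl⟩ C' gC' c' hc'
  obtain ⟨g'', hg''⟩ := exists_lift (Vo.ι ≫ locusMap G r) (Red.geomPt (locusMap G r y))
    ⟨⟨y, hy⟩, (ptOf_geomPt _).symm⟩
  have hgO' : ptOf (g'' ≫ Vo.ι) ∈ O := (g'' (IsLocalRing.closedPoint _)).2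
  obtain ⟨T, C, gT, gC, i, c, him, himono, hT, hC, hd⟩ := huniv _ (Red.geomPt (locusMap G r y)) (g'' ≫ Vo.ι)
    ((Category.assoc _ _ _).trans hg'')
  letI := gT
  letI := gC
  haveI := him
  haveI := himono
  have hcart : SGA3x.IsCartanOver _ c :=
    ⟨hC.1, hC.2.1, T, gT, i, isMaximalTorus_of_isRk _ G (hrk _ htU) hT i, hC⟩
  obtain ⟨-, -, T', gT', i', hi', hc⟩ := id hc'
  letI := gT'
  haveI := hi'.1
  haveI := hi'.2.1
  rw [← hdim _ (hOU hgO'), ← hd]
  exact le_antisymm (dim_le' G _ i (Basic.isTorus_of_isSplit hT) c hC c' hc')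
    (dim_le' G _ i' hi'.2.2.1 c' hc c hcart)

end Groth.Agent.Lib.ImgMT.NilRank
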