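import Groth.Agent.Lib.ImgMT.Special
import Groth.Agent.H87.Loci
import Groth.Agent.Lib.Tori.DS
import Mathlib.AlgebraicGeometry.ZariskisMainTheorem
import Mathlib.AlgebraicGeometry.ValuativeCriterion

/-!
# A monomorphism from a diagonalisable group to a separated group of finite type is a closed immersion
-/

set_option autoImplicit false
set_option linter.unusedSectionVars false
universe u

open CategoryTheory MonoidalCategory CartesianMonoidalCategory MonObj GrpObj AlgebraicGeometry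
open CategoryTheory.Limits
open Groth.Agent.Lib.RedPts Groth.Agent.H87
open Groth.Agent.H87.Locus (toG)
open Groth.Agent.H87.HomDS (test univPt evHom)

namespace Groth.Agent.Lib.ImgMT

set_option linter.style.haveILetI false

variable {S : Scheme.{u}} {A : CommRingCat.{u}} (t : Spec A ⟶ S) {M : Type} [AddCommGroup M]

/-- A point given by a character. -/
noncomputable def pt {D : CommRingCat.{u}} (φ : A ⟶ D) (ch : Multiplicative M →* D) : test t φ ⟶ Red.DS S M :=
  evHom t M φ ch ≫ univPt t M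

/-- Change of the ring. -/
noncomputable def res {D D' : CommRingCat.{u}} {φ : A ⟶ D} {φ' : A ⟶ D'} (ψ : D ⟶ D') (h : φ ≫ ψ = φ') :
    test t φ' ⟶ test t φ :=
  Over.homMk (Spec.map ψ) (by
    show Spec.map ψ ≫ Spec.map φ ≫ t = Spec.map φ' ≫ t
    rw [← Category.assoc, ← Spec.map_comp, h])

theorem dsFn_pt {D : CommRingCat.{u}} (φ : A ⟶ D) (ch : Multiplicative M →* D) (m : M) :
    Gm.dsFn (pt t φ ch) m = toG D (ch (Multiplicative.ofAdd m)) := HomDS.dsFn_evHom t M φ ch m

theorem res_pt {D D' : CommRingCat.{u}} {φ : A ⟶ D} {φ' : A ⟶ D'} (ψ : D ⟶ D') (h : φ ≫ ψ = φ')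
    (ch : Multiplicative M →* D) : res t ψ h ≫ pt t φ ch = pt t φ' ((ψ.hom : D →* D').comp ch) :=
  Gm.dsFn_ext fun m => by
    rw [Gm.dsFn_comp, dsFn_pt, dsFn_pt]
    show (Spec.map ψ).appTop ((Scheme.ΓSpecIso D).inv _) = _
    rw [← CommRingCat.comp_apply, ← Scheme.ΓSpecIso_inv_naturality, CommRingCat.comp_apply]
    rfl

theorem pt_mul {D : CommRingCat.{u}} (φ : A ⟶ D) (ch ch' : Multiplicative M →* D) :
    pt t φ ch * pt t φ ch' = pt t φ (ch * ch') :=
  Gm.dsFn_ext fun m => by
    rw [Gm.dsFn_mul, dsFn_pt, dsFn_pt, dsFn_pt, ← map_mul]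
    rfl

theorem pt_one {D : CommRingCat.{u}} (φ : A ⟶ D) : pt t φ (1 : Multiplicative M →* D) = 1 :=
  Gm.dsFn_ext fun m => by
    rw [dsFn_pt, Gm.dsFn_one, MonoidHom.one_apply, map_one]

theorem pt_pow {D : CommRingCat.{u}} (φ : A ⟶ D) (ch : Multiplicative M →* D) :
    ∀ i : ℕ, (pt t φ ch) ^ i = pt t φ (ch ^ i)
  | 0 => by rw [pow_zero, pow_zero, pt_one]
  | i + 1 => by rw [pow_succ, pow_succ, pt_pow φ ch i, pt_mul]

theorem pt_inj {D : CommRingCat.{u}} (φ : A ⟶ D) {ch ch' : Multiplicative M →* D} (h : pt t φ ch = pt t φ ch') :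
    ch = ch' := MonoidHom.ext fun m => HomDS.toG_injective D (by
  have := congrArg (fun x => Gm.dsFn x m.toAdd) h
  simp only [dsFn_pt] at this
  exact this)

theorem pt_mul_comp {G : Over S} [GrpObj G] (u : Red.DS S M ⟶ G) [IsMonHom u] {D : CommRingCat.{u}} (φ : A ⟶ D)
    (ch ch' : Multiplicative M →* D) : (pt t φ ch ≫ u) * (pt t φ ch' ≫ u) = pt t φ (ch * ch') ≫ u := by
  rw [← MonObj.mul_comp _ _ u, pt_mul]

theorem res_res {D D' D'' : CommRingCat.{u}} {φ : A ⟶ D} {φ' : A ⟶ D'} {φ'' : A ⟶ D''} (ψ : D ⟶ D') (h : φ ≫ ψ = φ')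
    (ψ' : D' ⟶ D'') (h' : φ' ≫ ψ' = φ'') :
    res t ψ' h' ≫ res t ψ h = res t (ψ ≫ ψ') (by rw [← Category.assoc, h, h']) :=
  Over.OverMorphism.ext (Spec.map_comp ψ ψ').symm

theorem res_id {D : CommRingCat.{u}} {φ : A ⟶ D} (ψ : D ⟶ D) (hψ : ψ = 𝟙 D) (h : φ ≫ ψ = φ) :
    res t ψ h = 𝟙 _ := Over.OverMorphism.ext (by subst hψ; exact Spec.map_id D)

/-- Extension to a localisation at one element. -/
theorem exists_away_lift {R F : Type u} [CommRing R] [CommRing F] {Q : R} (f : R →+* F) (h : IsUnit (f Q)) :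
    ∃ τ : Localization.Away Q →+* F, ∀ x, τ (algebraMap R _ x) = f x :=
  ⟨IsLocalization.Away.lift Q h, fun x => IsLocalization.Away.lift_eq Q h x⟩

section Valuation

variable {V : Type u} [CommRing V] [IsDomain V] [ValuationRing V] {K : Type u} [Field K] [Algebra V K]
  [IsFractionRing V K] (t : Spec (CommRingCat.of V) ⟶ S) {G : Over S} [GrpObj G]
  [IsSeparated G.hom] [QuasiCompact G.hom] [LocallyOfFiniteType G.hom]

/-- The inclusion of a valuation ring in its field of fractions. -/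
noncomputable abbrev incK : CommRingCat.of V ⟶ CommRingCat.of K := CommRingCat.ofHom (algebraMap V K)

set_option maxHeartbeats 800000 in
set_option backward.isDefEq.respectTransparency false in
/-- One chart receives infinitely many powers of the section. -/
theorem exists_chart {r : ℕ} (u : Red.DS S (Fin r → ℤ) ⟶ G) [IsMonHom u]
    (χ : Multiplicative (Fin r → ℤ) →* K) (g : test t (𝟙 (CommRingCat.of V)) ⟶ G)
    (hg : res t incK (Category.id_comp _) ≫ g = pt t incK χ ≫ u) :
    ∃ (V₀ : S.Opens) (_ : IsAffineOpen V₀) (U : G.left.Opens) (hU : IsAffineOpen U) (_ : U ≤ G.hom ⁻¹ᵁ V₀)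
      (Q : MonoidAlgebra V (Multiplicative (Fin r → ℤ)))
      (b : Γ(G.left, U) ⟶ CommRingCat.of (Localization.Away Q)) (I : Set ℕ),
      Spec.map b ≫ hU.fromSpec = Spec.map (CommRingCat.ofHom (algebraMap _ (Localization.Away Q))) ≫
          (univPt t (Fin r → ℤ) ≫ u).left ∧
      I.Infinite ∧ Q ≠ 0 ∧ ∀ i ∈ I, (g ^ i).left (IsLocalRing.closedPoint V) ∈ U ∧
        (Locus.ev (incK (V := V) (K := K)) (χ ^ i)).hom Q ≠ 0 := by
  classical
  let N := Multiplicative (Fin r → ℤ)
  let k := IsLocalRing.ResidueField V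
  let R : CommRingCat.{u} := HomDS.ring (A := CommRingCat.of V) (Fin r → ℤ)
  let inc : CommRingCat.of V ⟶ R := CommRingCat.ofHom MonoidAlgebra.singleOneRingHom
  let w : Spec R ⟶ G.left := (univPt t (Fin r → ℤ) ≫ u).left
  have hww : w ≫ G.hom = Spec.map inc ≫ t := Over.w (univPt t (Fin r → ℤ) ≫ u)
  -- an affine neighbourhood on the base
  let cl : Spec (CommRingCat.of V) := IsLocalRing.closedPoint V
  obtain ⟨V₀, hV₀, hclV₀, -⟩ := exists_isAffineOpen_mem_and_subset (X := S) (x := t cl) (U := ⊤) trivial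
  have htop : t ⁻¹ᵁ V₀ = ⊤ := (IsLocalRing.closedPoint_mem_iff (t ⁻¹ᵁ V₀)).1 hclV₀
  let G₀ := G.hom ⁻¹ᵁ V₀
  have hG₀ : IsCompact (G₀ : Set G.left) := QuasiCompact.isCompact_preimage _ V₀.2 hV₀.isCompact
  have hmem : ∀ i : ℕ, (g ^ i).left cl ∈ G₀ := fun i => by
    show G.hom ((g ^ i).left cl) ∈ V₀
    rw [← Scheme.Hom.comp_apply, Over.w (g ^ i)]
    simpa using hclV₀
  -- finitely many affine charts
  have hcov : ∀ x : (G₀ : Set G.left), ∃ O : G.left.Opens, IsAffineOpen O ∧ x.1 ∈ O ∧ O ≤ G₀ := fun x =>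
    (exists_isAffineOpen_mem_and_subset (X := G.left) (x := x.1) (U := G₀) x.2).imp fun O h => ⟨h.1, h.2.1, h.2.2⟩
  choose O hOa hOm hOle using hcov
  obtain ⟨T, hT⟩ := hG₀.elim_finite_subcover (fun x => (O x : Set G.left)) (fun x => (O x).2)
    (fun x hx => Set.mem_iUnion.2 ⟨⟨x, hx⟩, hOm _⟩)
  obtain ⟨x₀, hI⟩ : ∃ x ∈ T, {i : ℕ | (g ^ i).left cl ∈ O x}.Infinite := by
    by_contra hcon
    push Not at hcon
    refine Set.infinite_univ (α := ℕ) ((T.finite_toSet.biUnion hcon).subset fun i _ => ?_)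
    obtain ⟨x, hx, hix⟩ := Set.mem_iUnion₂.1 (hT (hmem i))
    exact Set.mem_iUnion₂.2 ⟨x, hx, hix⟩
  obtain ⟨-, hI⟩ := hI
  let U := O x₀
  have hU : IsAffineOpen U := hOa x₀
  have hUle : U ≤ G.hom ⁻¹ᵁ V₀ := hOle x₀
  -- the preimage in the universal test scheme is quasi-compact
  have hrange : Set.range w ⊆ (G₀ : Set G.left) := by
    rintro _ ⟨x, rfl⟩
    show G.hom (w x) ∈ V₀
    rw [← Scheme.Hom.comp_apply, hww]
    show Spec.map inc x ∈ t ⁻¹ᵁ V₀
    rw [htop]
    trivial
  have hWc : IsCompact ((w ⁻¹ᵁ U : (Spec R).Opens) : Set ↥(Spec R)) := by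
    let w' : Spec R ⟶ (G₀ : Scheme.{u}) := IsOpenImmersion.lift G₀.ι w (by rwa [Scheme.Opens.range_ι])
    haveI : IsAffine (V₀ : Scheme.{u}) := hV₀
    haveI : QuasiCompact (w' ≫ G.hom ∣_ V₀) := inferInstance
    haveI : QuasiCompact w' := QuasiCompact.of_comp w' (G.hom ∣_ V₀)
    have he : w ⁻¹ᵁ U = w' ⁻¹ᵁ (G₀.ι ⁻¹ᵁ U) := by
      conv_lhs => rw [← IsOpenImmersion.lift_fac G₀.ι w (by rwa [Scheme.Opens.range_ι] : Set.range w ⊆ Set.range G₀.ι)]
      rfl
    rw [he]
    exact QuasiCompact.isCompact_preimage _ (G₀.ι ⁻¹ᵁ U).2 (hU.preimage_of_isOpenImmersion G₀.ι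
      (fun x hx => by rw [Scheme.Opens.opensRange_ι]; exact hUle hx)).isCompact
  obtain ⟨J, ⟨FJ, hFJ⟩, hJ⟩ := PrimeSpectrum.isCompact_isOpen_iff_ideal.1 ⟨hWc, (w ⁻¹ᵁ U).2⟩
  -- the generic points lie in the preimage
  let φK : CommRingCat.of V ⟶ CommRingCat.of K := incK
  have hpow : ∀ i : ℕ, res t incK (Category.id_comp _) ≫ g ^ i = pt t φK (χ ^ i) ≫ u := fun i => by
    rw [MonObj.comp_pow, hg, ← pt_pow, MonObj.pow_comp]
  have hQex : ∀ i ∈ {i : ℕ | (g ^ i).left cl ∈ U}, ∃ Q ∈ FJ, (Locus.ev φK (χ ^ i)).hom Q ≠ 0 := by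
    intro i hi
    have htop' : (g ^ i).left ⁻¹ᵁ U = ⊤ := (IsLocalRing.closedPoint_mem_iff ((g ^ i).left ⁻¹ᵁ U)).1 hi
    let pη : Spec (CommRingCat.of K) := IsLocalRing.closedPoint K
    have h1 : w (Spec.map (Locus.ev φK (χ ^ i)) pη) = (g ^ i).left (Spec.map incK pη) :=
      congr(($(hpow i)).left pη).symm
    have h2 : Spec.map (Locus.ev φK (χ ^ i)) pη ∈ ((w ⁻¹ᵁ U : (Spec R).Opens) : Set ↥(Spec R)) := by
      show w _ ∈ U
      rw [h1]
      show Spec.map incK pη ∈ (g ^ i).left ⁻¹ᵁ U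
      rw [htop']
      trivial
    rw [← hJ] at h2
    by_contra hcon
    push Not at hcon
    apply h2
    rw [← hFJ, PrimeSpectrum.zeroLocus_span]
    intro Q hQ
    show (Locus.ev φK (χ ^ i)).hom Q ∈ IsLocalRing.maximalIdeal K
    rw [hcon Q hQ]
    exact zero_mem _
  obtain ⟨Q, hQF, hI₂⟩ : ∃ Q ∈ FJ, {i : ℕ | (g ^ i).left cl ∈ U ∧ (Locus.ev φK (χ ^ i)).hom Q ≠ 0}.Infinite := by
    by_contra hcon
    push Not at hcon
    refine hI ((FJ.finite_toSet.biUnion hcon).subset fun i hi => ?_)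
    obtain ⟨Q, hQ, hne⟩ := hQex i hi
    exact Set.mem_iUnion₂.2 ⟨Q, hQ, hi, hne⟩
  have hQ0 : Q ≠ 0 := by
    obtain ⟨i, -, hi⟩ := hI₂.nonempty
    rintro rfl
    exact hi (map_zero _)
  let AQ : CommRingCat.{u} := CommRingCat.of (Localization.Away Q)
  let locQ : R ⟶ AQ := CommRingCat.ofHom (algebraMap R (Localization.Away Q))
  obtain ⟨b, hb⟩ : ∃ b : Γ(G.left, U) ⟶ AQ, Spec.map b ≫ hU.fromSpec = Spec.map locQ ≫ w := by
    refine ⟨Spec.preimage (IsOpenImmersion.lift hU.fromSpec (Spec.map locQ ≫ w) ?_), by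
      rw [Spec.map_preimage, IsOpenImmersion.lift_fac]⟩
    rw [hU.range_fromSpec]
    rintro _ ⟨x, rfl⟩
    show Spec.map locQ x ∈ ((w ⁻¹ᵁ U : (Spec R).Opens) : Set ↥(Spec R))
    rw [← hJ]
    intro hz
    refine (show PrimeSpectrum (Localization.Away Q) from x).2.ne_top (Ideal.eq_top_of_isUnit_mem _ ?_
      (IsLocalization.Away.algebraMap_isUnit Q))
    exact hz (hFJ ▸ Ideal.subset_span hQF)
  exact ⟨V₀, hV₀, U, hU, hUle, Q, b, _, hb, hI₂, hQ0, fun i hi => hi⟩

omit [IsSeparated G.hom] [QuasiCompact G.hom] [LocallyOfFiniteType G.hom] in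
theorem twist_ev {r : ℕ} (χ : Multiplicative (Fin r → ℤ) →* K) (i : ℕ) (x : MonoidAlgebra V (Multiplicative (Fin r → ℤ))) :
    (Locus.ev (incK (V := V) (K := K)) (χ ^ i)).hom x = aug K (twist χ i x) := by
  induction x using MonoidAlgebra.induction_linear with
  | zero => simp
  | add p q hp hq => rw [map_add, map_add, map_add, hp, hq]
  | single m c =>
    refine (MonoidAlgebra.liftNCRingHom_single _ _ (fun _ _ => Commute.all _ _) m c).trans ?_
    rw [twist_single, aug_single]
    rfl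

set_option maxHeartbeats 800000 in
/-- A character with values which are all non-units cannot be a point of the closure. -/
theorem rank_eq_zero {r : ℕ} (u : Red.DS S (Fin r → ℤ) ⟶ G) [IsMonHom u] [Mono u]
    (χ : Multiplicative (Fin r → ℤ) →* K) (hinj : ∀ m, ValuationRing.valuation V K (χ m) = 1 → m = 1)
    (g : test t (𝟙 (CommRingCat.of V)) ⟶ G)
    (hg : res t incK (Category.id_comp _) ≫ g = pt t incK χ ≫ u) : r = 0 := by
  classical
  obtain ⟨V₀, hV₀, U, hU, hUle, Q, b, I, hb, hI, hQ0, hIi⟩ := exists_chart t u χ g hg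
  let N := Multiplicative (Fin r → ℤ)
  let R : CommRingCat.{u} := HomDS.ring (A := CommRingCat.of V) (Fin r → ℤ)
  let inc : CommRingCat.of V ⟶ R := CommRingCat.ofHom MonoidAlgebra.singleOneRingHom
  let str : Γ(S, V₀) ⟶ Γ(G.left, U) := G.hom.appLE V₀ U hUle
  obtain ⟨FB, hFB⟩ : ∃ FB : Finset Γ(G.left, U), ∀ (E : Type u) [CommRing E] (a₁ a₂ : Γ(G.left, U) →+* E),
      a₁.comp str.hom = a₂.comp str.hom → (∀ x ∈ FB, a₁ x = a₂ x) → a₁ = a₂ := by
    have hft : str.hom.FiniteType := LocallyOfFiniteType.finiteType_appLE G.hom hV₀ hU hUle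
    algebraize [str.hom]
    obtain ⟨FB, hFB⟩ := Algebra.FiniteType.out (R := Γ(S, V₀)) (A := Γ(G.left, U))
    refine ⟨FB, fun E _ a₁ a₂ h₁ h₂ => RingHom.ext fun x => ?_⟩
    have hx : x ∈ Algebra.adjoin Γ(S, V₀) (FB : Set Γ(G.left, U)) := hFB ▸ Algebra.mem_top
    induction hx using Algebra.adjoin_induction with
    | mem y hy => exact h₂ y hy
    | algebraMap c => exact DFunLike.congr_fun h₁ c
    | add y z _ _ hy hz => rw [map_add, map_add, hy, hz]
    | mul y z _ _ hy hz => rw [map_mul, map_mul, hy, hz]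
  obtain ⟨bad, hbad, hconst⟩ := exists_finite_bad χ hinj hQ0 b.hom FB
  obtain ⟨i, hiI, higood⟩ := (hI.sdiff hbad).nonempty
  obtain ⟨hiU, hiQ⟩ := hIi i hiI
  -- the ring at the unit point
  let cl : Spec (CommRingCat.of V) := IsLocalRing.closedPoint V
  let L : CommRingCat.{u} := CommRingCat.of (Loc V N)
  let toL : R ⟶ L := CommRingCat.ofHom (algebraMap (MonoidAlgebra V N) (Loc V N))
  let e₁ : L ⟶ CommRingCat.of V := CommRingCat.ofHom evOne
  let φL : CommRingCat.of V ⟶ L := inc ≫ toL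
  have he₁ : φL ≫ e₁ = 𝟙 _ := CommRingCat.hom_ext (RingHom.ext fun c => (evOne_alg _).trans (aug_single _ _))
  let chL : N →* L := (toL.hom : R →* L).comp (MonoidAlgebra.of V N)
  have hch₁ : ((e₁.hom : L →* CommRingCat.of V).comp chL) = 1 :=
    MonoidHom.ext fun m => (evOne_alg _).trans (aug_single _ _)
  let z : test t φL ⟶ G := res t φL (Category.id_comp _) ≫ g ^ i
  let y : test t φL ⟶ G := (pt t φL chL ≫ u) * z
  have hy1 : res t e₁ he₁ ≫ y = g ^ i := by
    simp only [y, z, comp_mul, ← Category.assoc]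
    rw [res_pt, hch₁, pt_one, MonObj.one_comp, res_res, res_id t _ he₁, Category.id_comp, _root_.one_mul]
  have hloc : Spec.map e₁ cl = IsLocalRing.closedPoint (Loc V N) := by
    haveI : IsLocalHom e₁.hom := isLocalHom_evOne
    exact IsLocalRing.comap_closedPoint e₁.hom
  obtain ⟨a, ha⟩ : ∃ a : Γ(G.left, U) ⟶ L, Spec.map a ≫ hU.fromSpec = y.left := by
    refine ⟨Spec.preimage (IsOpenImmersion.lift hU.fromSpec y.left ?_), by
      rw [Spec.map_preimage, IsOpenImmersion.lift_fac]⟩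
    rw [hU.range_fromSpec]
    have h1 : IsLocalRing.closedPoint (Loc V N) ∈ y.left ⁻¹ᵁ U := by
      rw [← hloc]
      show y.left (Spec.map e₁ cl) ∈ U
      have := congr(($hy1).left cl)
      exact this ▸ hiU
    rintro _ ⟨x, rfl⟩
    show x ∈ y.left ⁻¹ᵁ U
    rw [(IsLocalRing.closedPoint_mem_iff (y.left ⁻¹ᵁ U)).1 h1]
    trivial
  -- comparison over the generic fraction field
  let F : CommRingCat.{u} := CommRingCat.of (FractionRing (MonoidAlgebra K N))
  let toF : MonoidAlgebra K N →+* F := algebraMap (MonoidAlgebra K N) (FractionRing (MonoidAlgebra K N))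
  let gL : L ⟶ F := CommRingCat.ofHom (toGen K)
  let φF : CommRingCat.of V ⟶ F := φL ≫ gL
  let kF : CommRingCat.of K ⟶ F := CommRingCat.ofHom (toF.comp MonoidAlgebra.singleOneRingHom)
  have hkF : incK ≫ kF = φF := CommRingCat.hom_ext (RingHom.ext fun c => by
    refine Eq.symm ((toGen_alg K (MonoidAlgebra.single (1 : N) c)).trans ?_)
    simp [kF, toF])
  let chF : N →* F := ((gL.hom : L →* F).comp chL) * ((kF.hom : CommRingCat.of K →* F).comp (χ ^ i))
  have hτF : ∀ x, (Locus.ev φF chF).hom x = toF (twist χ i x) := by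
    intro x
    induction x using MonoidAlgebra.induction_linear with
    | zero => rw [map_zero, map_zero, map_zero]
    | add p q hp hq => rw [map_add, map_add, map_add, hp, hq]
    | single m c =>
      refine (MonoidAlgebra.liftNCRingHom_single φF.hom chF (fun _ _ => Commute.all _ _) m c).trans ?_
      show toGen K (algebraMap _ (Loc V N) (MonoidAlgebra.single (1 : N) c)) *
        (toGen K (algebraMap _ (Loc V N) (MonoidAlgebra.single m (1 : V))) *
          toF (MonoidAlgebra.single 1 ((χ ^ i) m))) = _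
      rw [toGen_alg, toGen_alg, twist_single, ← map_mul, ← map_mul]
      simp [toF, MonoidAlgebra.single_mul_single]
  have htw : twist (V := V) χ i Q ≠ 0 := fun h => hiQ ((twist_ev χ i Q).trans (h ▸ map_zero (aug K)))
  have hQu : IsUnit (algebraMap (MonoidAlgebra K N) (FractionRing (MonoidAlgebra K N)) (twist (V := V) χ i Q)) :=
    isUnit_iff_ne_zero.2 ((map_ne_zero_iff _ (IsFractionRing.injective _ _)).2 htw)
  have hτQ : IsUnit ((Locus.ev φF chF).hom Q) := (hτF Q).symm ▸ hQu
  obtain ⟨τQ₀, hτQ₀⟩ := exists_away_lift (Locus.ev φF chF).hom hτQ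
  let τQ : CommRingCat.of (Localization.Away Q) ⟶ F := CommRingCat.ofHom τQ₀
  have hτQ' : CommRingCat.ofHom (algebraMap _ (Localization.Away Q)) ≫ τQ = Locus.ev φF chF :=
    CommRingCat.hom_ext (RingHom.ext hτQ₀)
  have hpow : res t incK (Category.id_comp _) ≫ g ^ i = pt t incK (χ ^ i) ≫ u := by
    rw [MonObj.comp_pow, hg, ← pt_pow, MonObj.pow_comp]
  have hkey : a ≫ gL = b ≫ τQ := by
    apply Spec.map_injective
    rw [← cancel_mono hU.fromSpec, Spec.map_comp, Spec.map_comp, Category.assoc, Category.assoc, ha, hb,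
      ← Category.assoc, ← Spec.map_comp, hτQ']
    have h0 : res t gL rfl ≫ z = pt t φF ((kF.hom : CommRingCat.of K →* F).comp (χ ^ i)) ≫ u := by
      have e : res t gL (φ := φL) (φ' := φF) rfl ≫ res t φL (Category.id_comp _) =
          res t kF hkF ≫ res t incK (Category.id_comp _) := by
        rw [res_res, res_res]
        exact Over.OverMorphism.ext (congrArg Spec.map hkF.symm)
      show res t gL rfl ≫ res t φL _ ≫ g ^ i = _
      refine (Category.assoc _ _ _).symm.trans ((congrArg (· ≫ g ^ i) e).trans ?_)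
      rw [Category.assoc, hpow, ← Category.assoc, res_pt]
    have h1 : res t gL rfl ≫ y = pt t φF chF ≫ u := by
      show res t gL rfl ≫ ((pt t φL chL ≫ u) * z) = _
      rw [comp_mul, h0, ← Category.assoc, res_pt, pt_mul_comp]
    exact congr(($h1).left)
  have hconst' := hconst i higood τQ.hom (fun x => (congr((CommRingCat.Hom.hom $hτQ') x)).trans (hτF x)) a.hom
    (congrArg CommRingCat.Hom.hom hkey)
  -- the special fibre
  let E : CommRingCat.{u} := CommRingCat.of (FractionRing (MonoidAlgebra (IsLocalRing.ResidueField V) N))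
  let ρ : L ⟶ E := CommRingCat.ofHom toSpec
  let φE : CommRingCat.of V ⟶ E := φL ≫ ρ
  have hspecial : res t ρ rfl ≫ y = res t φE (Category.id_comp _) ≫ g ^ i := by
    rw [← hy1, ← Category.assoc, res_res]
    apply Over.OverMorphism.ext
    show Spec.map ρ ≫ y.left = Spec.map (e₁ ≫ φE) ≫ y.left
    rw [← ha, ← Category.assoc, ← Category.assoc, ← Spec.map_comp, ← Spec.map_comp]
    refine congrArg (fun z => Spec.map z ≫ hU.fromSpec) (CommRingCat.hom_ext (hFB _ _ _ ?_ hconst'))
    have h1 : str ≫ a ≫ ρ = str ≫ a ≫ e₁ ≫ φE := by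
      apply Spec.map_injective
      rw [← cancel_mono hV₀.fromSpec]
      simp only [Spec.map_comp, Category.assoc, str, IsAffineOpen.SpecMap_appLE_fromSpec _ hV₀ hU hUle,
        reassoc_of% ha]
      rw [show y.left ≫ G.hom = Spec.map φL ≫ t from Over.w y]
      simp only [← Spec.map_comp_assoc]
      refine congrArg (fun z => Spec.map z ≫ t) ?_
      simp only [he₁, Category.id_comp]
      rfl
    exact congrArg CommRingCat.Hom.hom h1
  have hfin : pt t φE ((ρ.hom : L →* E).comp chL) = 1 := by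
    have h1 : (pt t φE ((ρ.hom : L →* E).comp chL) ≫ u) * (res t φE (Category.id_comp _) ≫ g ^ i) =
        1 * (res t φE (Category.id_comp _) ≫ g ^ i) := by
      rw [_root_.one_mul]
      refine Eq.trans ?_ hspecial
      simp only [y, z, comp_mul, ← Category.assoc]
      rw [res_pt, res_res]
    rw [← cancel_mono u, MonObj.one_comp]
    exact mul_right_cancel h1
  have h2 := pt_inj t φE (hfin.trans (pt_one t φE).symm)
  by_contra hr
  let m : N := Multiplicative.ofAdd (Pi.single (⟨0, Nat.pos_of_ne_zero hr⟩ : Fin r) 1)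
  have h3 : redHom (MonoidAlgebra.single m (1 : V)) = 1 := by
    apply IsFractionRing.injective _ (FractionRing (MonoidAlgebra (IsLocalRing.ResidueField V) N))
    rw [← toSpec_alg, map_one]
    exact DFunLike.congr_fun h2 m
  have h4 : MonoidAlgebra.of (IsLocalRing.ResidueField V) N m = MonoidAlgebra.of (IsLocalRing.ResidueField V) N 1 := by
    rw [map_one, ← h3]
    simp [redHom]
  have h5 := congrArg Multiplicative.toAdd (MonoidAlgebra.of_injective h4)
  have h6 := congrFun h5 ⟨0, Nat.pos_of_ne_zero hr⟩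
  simp [m] at h6

set_option maxHeartbeats 1000000 in
/-- A point with values in the closure is integral. -/
theorem integral_of_ext [AddGroup.FG M] (u : Red.DS S M ⟶ G) [IsMonHom u] [Mono u] (χ : Multiplicative M →* K)
    (g : test t (𝟙 (CommRingCat.of V)) ⟶ G)
    (hg : res t incK (Category.id_comp _) ≫ g = pt t incK χ ≫ u) :
    ∃ ch : Multiplicative M →* V, ∀ m, algebraMap V K (ch m) = χ m := by
  classical
  let v := ValuationRing.valuation V K
  have hne : ∀ m, χ m ≠ 0 := fun m => ((Group.isUnit m).map χ).ne_zero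
  suffices hval : ∀ m, v (χ m) = 1 by
    have hex : ∀ m, ∃ c : V, algebraMap V K c = χ m := fun m =>
      (ValuationRing.mem_integer_iff V K _).1 (show v (χ m) ≤ 1 from (hval m).le)
    choose c hc using hex
    exact ⟨{ toFun := c
             map_one' := IsFractionRing.injective V K (by rw [hc, map_one, map_one])
             map_mul' := fun p q => IsFractionRing.injective V K (by rw [hc, map_mul, map_mul, hc, hc]) }, hc⟩
  let N₀ : AddSubgroup M :=
    { carrier := {m | v (χ (Multiplicative.ofAdd m)) = 1}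
      zero_mem' := by simp
      add_mem' := fun {p q} hp hq => by
        show v (χ (Multiplicative.ofAdd p * Multiplicative.ofAdd q)) = 1
        rw [map_mul, map_mul, show v (χ (Multiplicative.ofAdd p)) = 1 from hp,
          show v (χ (Multiplicative.ofAdd q)) = 1 from hq, _root_.one_mul]
      neg_mem' := fun {p} hp => by
        show v (χ (Multiplicative.ofAdd p)⁻¹) = 1
        have h1 : v (χ (Multiplicative.ofAdd p)⁻¹) * v (χ (Multiplicative.ofAdd p)) = 1 := by
          rw [← map_mul, ← map_mul, inv_mul_cancel, map_one, map_one]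
        rwa [show v (χ (Multiplicative.ofAdd p)) = 1 from hp, _root_.mul_one] at h1 }
  have hQ : ∀ (q : M ⧸ N₀) (n : ℕ), n ≠ 0 → n • q = 0 → q = 0 := by
    intro q n hn hq
    obtain ⟨m, rfl⟩ := QuotientAddGroup.mk_surjective q
    have hm : n • m ∈ N₀ := (QuotientAddGroup.eq_zero_iff _).1 hq
    refine (QuotientAddGroup.eq_zero_iff _).2 ?_
    have h1 : v (χ (Multiplicative.ofAdd (n • m))) = 1 := hm
    rw [ofAdd_nsmul, map_pow, map_pow] at h1
    exact (pow_eq_one_iff_of_nonneg zero_le hn).1 h1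
  haveI : IsAddTorsionFree (M ⧸ N₀) := ⟨fun n hn a b h => by
    exact sub_eq_zero.1 (hQ _ n hn (by rw [nsmul_sub, sub_eq_zero]; exact h))⟩
  haveI : AddGroup.FG (M ⧸ N₀) := AddGroup.fg_of_surjective (QuotientAddGroup.mk'_surjective N₀)
  haveI : Module.Finite ℤ (M ⧸ N₀) := Module.Finite.iff_addGroup_fg.mpr inferInstance
  haveI : Module.Free ℤ (M ⧸ N₀) := inferInstance
  let r := Module.finrank ℤ (M ⧸ N₀)
  let bas := Module.finBasis ℤ (M ⧸ N₀)
  let π : M →+ (Fin r → ℤ) := bas.equivFun.toAddEquiv.toAddMonoidHom.comp (QuotientAddGroup.mk' N₀)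
  have hπ : Function.Surjective π := bas.equivFun.surjective.comp (QuotientAddGroup.mk'_surjective N₀)
  have hπker : ∀ m, π m = 0 → v (χ (Multiplicative.ofAdd m)) = 1 := fun m hm =>
    show m ∈ N₀ from (QuotientAddGroup.eq_zero_iff _).1 (bas.equivFun.injective (hm.trans (map_zero _).symm))
  choose lift' hlift using fun j : Fin r => hπ (Pi.single j 1)
  let s : (Fin r → ℤ) →+ M := (Fintype.linearCombination ℤ lift').toAddMonoidHom
  have hs : ∀ z, π (s z) = z := by
    intro z
    show π (∑ j, z j • lift' j) = z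
    rw [map_sum]
    simp only [map_zsmul, hlift]
    funext j
    simp [Finset.sum_apply, Pi.single_apply]
  let χ₁ : Multiplicative (Fin r → ℤ) →* K := χ.comp s.toMultiplicative
  have hinj : ∀ z, v (χ₁ z) = 1 → z = 1 := by
    intro z hz
    have h1 : QuotientAddGroup.mk' N₀ (s z.toAdd) = 0 := (QuotientAddGroup.eq_zero_iff _).2 hz
    have h2 : π (s z.toAdd) = 0 := (congrArg (⇑bas.equivFun) h1).trans (map_zero _)
    rw [hs] at h2
    exact congrArg Multiplicative.ofAdd h2
  -- the unit part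
  have hex : ∀ m : Multiplicative M, ∃ c : V, algebraMap V K c = χ m / χ₁ (Multiplicative.ofAdd (π m.toAdd)) := by
    intro m
    refine (ValuationRing.mem_integer_iff V K _).1 (show v _ ≤ 1 from le_of_eq ?_)
    have h1 : π (m.toAdd - s (π m.toAdd)) = 0 := by rw [map_sub, hs, sub_self]
    have h2 := hπker _ h1
    have h3 : χ (Multiplicative.ofAdd (m.toAdd - s (π m.toAdd))) * χ₁ (Multiplicative.ofAdd (π m.toAdd)) = χ m := by
      show _ * χ (Multiplicative.ofAdd (s (π m.toAdd))) = _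
      rw [← map_mul, ← ofAdd_add, sub_add_cancel, ofAdd_toAdd]
    show v _ = 1
    rw [← h3, mul_div_assoc, div_self (((Group.isUnit _).map χ₁).ne_zero), _root_.mul_one]
    exact h2
  choose c₀ hc₀ using hex
  let ch₀ : Multiplicative M →* V :=
    { toFun := c₀
      map_one' := IsFractionRing.injective V K (by rw [hc₀, map_one]; simp)
      map_mul' := fun p q => IsFractionRing.injective V K (by
        rw [hc₀, map_mul (algebraMap V K), hc₀, hc₀, map_mul χ, toAdd_mul, map_add, ofAdd_add, map_mul χ₁, mul_div_mul_comm]) }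
  let g₁ := (pt t (𝟙 _) ch₀ ≫ u)⁻¹ * g
  haveI : IsMonHom (Red.DSmap S π) := Gm.isMonHom_DSmap _
  haveI : Mono (Red.DSmap S π) := Loci.mono_DSmap_of_surjective S hπ
  haveI : IsMonHom (Red.DSmap S π ≫ u) := inferInstance
  have hu₁ : pt t (incK (V := V) (K := K)) χ₁ ≫ Red.DSmap S π =
      pt t incK (χ₁.comp π.toMultiplicative) := Gm.dsFn_ext fun m => by
    rw [Gm.dsFn_DSmap, dsFn_pt, dsFn_pt]
    rfl
  have hr : r = 0 := rank_eq_zero t (Red.DSmap S π ≫ u) χ₁ hinj g₁ (by
    simp only [g₁, comp_mul, GrpObj.comp_inv, ← Category.assoc]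
    rw [hg, res_pt, hu₁, inv_mul_eq_iff_eq_mul, pt_mul_comp]
    refine congrArg (fun z => pt t incK z ≫ u) (MonoidHom.ext fun m => ?_)
    show χ m = algebraMap V K (c₀ m) * χ₁ _
    rw [hc₀]
    exact (div_mul_cancel₀ _ (((Group.isUnit _).map χ₁).ne_zero)).symm)
  intro m
  refine hπker _ ?_
  funext j
  exact Fin.elim0 (hr ▸ j)

end Valuation

set_option backward.isDefEq.respectTransparency false in
/-- **A monomorphism from `D(M)` to a separated group of finite type is a closed immersion.** -/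
theorem isClosedImmersion_of_mono_DS {G : Over S} [GrpObj G] [IsSeparated G.hom] [QuasiCompact G.hom]
    [LocallyOfFiniteType G.hom] [AddGroup.FG M] (u : Red.DS S M ⟶ G) [IsMonHom u] [Mono u] :
    IsClosedImmersion u.left := by
  haveI : IsAffineHom (Red.DS S M).hom := Groth.Agent.Lib.Tori.DS.isAffineHom S M
  haveI : LocallyOfFinitePresentation (Red.DS S M).hom := Groth.Agent.Lib.Tori.DS.locallyOfFinitePresentation S M
  haveI : Mono u.left := Over.mono_left_of_mono u
  haveI : QuasiCompact (u.left ≫ G.hom) := by rw [Over.w u]; infer_instance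
  haveI : QuasiCompact u.left := .of_comp u.left G.hom
  haveI : LocallyOfFiniteType (u.left ≫ G.hom) := by rw [Over.w u]; infer_instance
  haveI : LocallyOfFiniteType u.left := locallyOfFiniteType_of_comp u.left G.hom
  refine (IsClosedImmersion.iff_isProper_and_mono _).2 ⟨?_, inferInstance⟩
  haveI : UniversallyClosed u.left := by
    refine UniversallyClosed.of_valuativeCriterion _ fun sq => ?_
    let V := sq.R
    let t : Spec (CommRingCat.of V) ⟶ S := sq.i₂ ≫ G.hom
    let φK : CommRingCat.of V ⟶ CommRingCat.of sq.K := incK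
    let g : test t (𝟙 (CommRingCat.of V)) ⟶ G := Over.homMk sq.i₂ (by
      show sq.i₂ ≫ G.hom = Spec.map (𝟙 _) ≫ t
      rw [Spec.map_id, Category.id_comp])
    let h : test t φK ⟶ Red.DS S M := Over.homMk sq.i₁ (by
      show sq.i₁ ≫ (Red.DS S M).hom = Spec.map φK ≫ t
      rw [← Over.w u, ← Category.assoc, sq.commSq.w, Category.assoc])
    let χ : Multiplicative M →* sq.K :=
      { toFun := fun m => (Scheme.ΓSpecIso (CommRingCat.of sq.K)).hom (Gm.dsFn h m.toAdd)
        map_one' := by rw [toAdd_one, Gm.dsFn_zero, map_one]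
        map_mul' := fun p q => by rw [toAdd_mul, Gm.dsFn_add, map_mul] }
    have hh : h = pt t φK χ := Gm.dsFn_ext fun m => by
      rw [dsFn_pt]
      show _ = (Scheme.ΓSpecIso _).inv ((Scheme.ΓSpecIso _).hom _)
      erw [Iso.hom_inv_id_apply]
      rfl
    have hg : res t φK (Category.id_comp _) ≫ g = pt t φK χ ≫ u := by
      rw [← hh]
      exact Over.OverMorphism.ext sq.commSq.w.symm
    obtain ⟨ch, hch⟩ := integral_of_ext t u χ g hg
    have hres : res t φK (Category.id_comp _) ≫ pt t (𝟙 _) ch = h := by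
      rw [res_pt, hh]
      exact congrArg (pt t φK) (MonoidHom.ext hch)
    refine ⟨⟨⟨(pt t (𝟙 _) ch).left, congr(($hres).left), ?_⟩⟩⟩
    haveI : IsDominant (Spec.map φK) := by
      rw [isDominant_iff]
      refine PrimeSpectrum.denseRange_comap_iff_ker_le_nilRadical _ |>.2 ?_
      rw [show RingHom.ker φK.hom = ⊥ from (RingHom.injective_iff_ker_eq_bot _).1 (IsFractionRing.injective V sq.K)]
      exact bot_le
    refine ext_of_isDominant_of_isSeparated G.hom ?_ (Spec.map φK) ?_
    · exact (Over.w (pt t (𝟙 _) ch ≫ u)).trans (Over.w g).symm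
    · have := congr(($hg).left)
      rw [← hh, ← hres] at this
      exact this.symm.trans rfl
  exact ⟨⟩

end Groth.Agent.Lib.ImgMT
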