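import Groth.Agent.Lib.DiagGL.Points
import Groth.Agent.Lib.Dim.Basic
import Groth.Agent.Lib.Tori.Basic
import Groth.Agent.Lib.ImgMT.Closed

/-!
# The dimension of a split torus over a field
-/

set_option autoImplicit false
set_option linter.unusedSectionVars false
universe u

open CategoryTheory MonoidalCategory CartesianMonoidalCategory MonObj GrpObj AlgebraicGeometry
open CategoryTheory.Limits
open Groth.Agent.Lib.RedPts Groth.Agent.Lib.Tori Groth.Agent.H87

namespace Groth.Agent.Lib.ImgMT.TorusDim

set_option linter.style.haveILetI false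

/-- `K[ℤ^r]` has dimension `r`. -/
theorem ringKrullDim_laurent (K : Type u) [Field K] (r : ℕ) :
    ringKrullDim (MonoidAlgebra K (Multiplicative (Fin r → ℤ))) = (r : WithBot ℕ∞) := by
  let A := MonoidAlgebra K (Multiplicative (Fin r → ℤ))
  let x : Fin r → A := fun i => MonoidAlgebra.of K _ (Multiplicative.ofAdd (Pi.single i 1))
  have hind : AlgebraicIndependent K x := by
    let emb : (Fin r →₀ ℕ) →+ (Fin r → ℤ) :=
      { toFun := fun d i => (d i : ℤ)
        map_zero' := by funext i; simp
        map_add' := fun d e => by funext i; simp }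
    have hemb : Function.Injective emb := fun d e h => Finsupp.ext fun i => by simpa [emb] using congrFun h i
    let φ : AddMonoidAlgebra K (Fin r →₀ ℕ) →ₐ[K] A :=
      AddMonoidAlgebra.lift K A (Fin r →₀ ℕ) ((MonoidAlgebra.of K _).comp emb.toMultiplicative)
    have hφ : (MvPolynomial.aeval x : MvPolynomial (Fin r) K →ₐ[K] A) = φ := by
      refine MvPolynomial.algHom_ext fun i => ?_
      rw [MvPolynomial.aeval_X]
      show x i = φ (AddMonoidAlgebra.single (Finsupp.single i 1) 1)
      rw [AddMonoidAlgebra.lift_single, one_smul]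
      show _ = MonoidAlgebra.of K _ (Multiplicative.ofAdd (emb (Finsupp.single i 1)))
      show MonoidAlgebra.of K _ (Multiplicative.ofAdd (Pi.single i 1)) = _
      congr 2
      funext j
      rcases eq_or_ne i j with rfl | h <;> simp [emb, Finsupp.single_apply, *]
    rw [AlgebraicIndependent, hφ]
    intro p q h
    refine AddMonoidAlgebra.coeff_injective (Finsupp.ext fun d => ?_)
    have key : ∀ p : AddMonoidAlgebra K (Fin r →₀ ℕ), ∀ d,
        (φ p).coeff (Multiplicative.ofAdd (emb d)) = p.coeff d := by
      classical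
      intro p d
      induction p using AddMonoidAlgebra.induction_linear with
      | zero => simp
      | add a b ha hb =>
        rw [map_add]
        show ((φ a).coeff + (φ b).coeff) _ = (a.coeff + b.coeff) d
        rw [Finsupp.add_apply, Finsupp.add_apply, ha, hb]
      | single e c =>
        rw [AddMonoidAlgebra.lift_single]
        show (c • MonoidAlgebra.single (Multiplicative.ofAdd (emb e)) (1 : K)).coeff _ = (Finsupp.single e c) d
        rw [MonoidAlgebra.coeff_smul, MonoidAlgebra.coeff_single, Finsupp.smul_apply, Finsupp.single_apply,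
          Finsupp.single_apply]
        simp [hemb.eq_iff]
    rw [← key p d, ← key q d]
    exact congrArg (fun z : A => z.coeff _) h
  haveI : Algebra.IsAlgebraic (Algebra.adjoin K (Set.range x)) A := by
    set R := Algebra.adjoin K (Set.range x) with hR
    have hgen : ∀ i, IsAlgebraic R (MonoidAlgebra.of K (Multiplicative (Fin r → ℤ))
        (Multiplicative.ofAdd (-(Pi.single i (1 : ℤ))))) := by
      intro i
      let a : R := ⟨x i, Algebra.subset_adjoin ⟨i, rfl⟩⟩
      refine ⟨Polynomial.C a * Polynomial.X - 1, ?_, ?_⟩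
      · intro h
        have := congrArg (fun p : Polynomial R => p.coeff 0) h
        simp at this
      · simp only [map_sub, map_mul, Polynomial.aeval_C, Polynomial.aeval_X, map_one]
        show x i * _ - 1 = 0
        rw [← map_mul, ← ofAdd_add, add_neg_cancel, ofAdd_zero, map_one, sub_self]
    let M : AddSubgroup (Fin r → ℤ) :=
      { carrier := {m | IsAlgebraic R (MonoidAlgebra.of K (Multiplicative (Fin r → ℤ)) (Multiplicative.ofAdd m)) ∧
          IsAlgebraic R (MonoidAlgebra.of K (Multiplicative (Fin r → ℤ)) (Multiplicative.ofAdd (-m)))}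
        zero_mem' := by
          refine ⟨?_, ?_⟩ <;> simp only [neg_zero, ofAdd_zero, map_one] <;> exact isAlgebraic_one
        add_mem' := fun {a b} ha hb => by
          refine ⟨?_, ?_⟩
          · rw [ofAdd_add, map_mul]; exact ha.1.mul hb.1
          · rw [neg_add, ofAdd_add, map_mul]; exact ha.2.mul hb.2
        neg_mem' := fun {a} ha => ⟨ha.2, by rw [neg_neg]; exact ha.1⟩ }
    have hM : ∀ m, m ∈ M := by
      intro m
      rw [← Finset.univ_sum_single m]
      refine sum_mem fun i _ => ?_
      rw [show (Pi.single i (m i) : Fin r → ℤ) = m i • Pi.single i 1 by rw [← Pi.single_smul]; simp]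
      exact M.zsmul_mem (show Pi.single i 1 ∈ M from ⟨isAlgebraic_algebraMap (⟨x i, Algebra.subset_adjoin ⟨i, rfl⟩⟩ : R), hgen i⟩) _
    refine ⟨fun z => ?_⟩
    induction z using MonoidAlgebra.induction_linear with
    | zero => exact isAlgebraic_zero
    | add a b ha hb => exact ha.add hb
    | single m c =>
      rw [show (MonoidAlgebra.single m c : A) =
        algebraMap R A (algebraMap K R c) * MonoidAlgebra.of K _ m by
          rw [← IsScalarTower.algebraMap_apply, ← Algebra.smul_def]
          rw [MonoidAlgebra.of_apply]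
          exact (by simp : (MonoidAlgebra.single m c : A) = MonoidAlgebra.single m (c • (1:K))).trans (MonoidAlgebra.smul_single _ _ _).symm]
      exact (isAlgebraic_algebraMap _).mul (hM m.toAdd).1
  have hb : IsTranscendenceBasis K x := hind.isTranscendenceBasis_iff_isAlgebraic.mpr inferInstance
  rw [Dim.Basic.ringKrullDim_eq_trdegNat (k := K)]
  have := hb.lift_cardinalMk_eq_trdeg
  rw [Dim.Basic.trdeg_eq_trdegNat] at this
  simp only [Cardinal.mk_fin, Cardinal.lift_natCast, Nat.cast_inj] at this
  exact congrArg _ this.symm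

/-- The dimension of a split torus over a field. -/
theorem topologicalKrullDim_split {K : Type u} [Field K] {r : ℕ} {T : Over (Spec (CommRingCat.of K))} [GrpObj T]
    (h : Red.IsSplitTorusWith (Fin r → ℤ) T) : topologicalKrullDim ↥T.left = (r : WithBot ℕ∞) := by
  obtain ⟨e⟩ := h
  let f := (BaseChange.overIso e) ≪≫ Groth.Agent.Lib.DiagGL.dsDiag K (Fin r → ℤ)
  refine ((IsHomeomorph.topologicalKrullDim_eq _
    (Scheme.homeoOfIso ((Over.forget _).mapIso f)).isHomeomorph) :
    topologicalKrullDim ↥T.left = _).trans ?_
  show topologicalKrullDim (PrimeSpectrum (MonoidAlgebra K (Multiplicative (Fin r → ℤ)))) = _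
  rw [PrimeSpectrum.topologicalKrullDim_eq_ringKrullDim, ringKrullDim_laurent]

/-- Subtori of an affine algebraic group have bounded rank. -/
theorem exists_rank_bound {K : Type u} [Field K] (G : Over (Spec (CommRingCat.of K))) [GrpObj G]
    [IsAffineHom G.hom] [LocallyOfFiniteType G.hom] :
    ∃ b : ℕ, ∀ (r : ℕ) (u : Red.DS (Spec (CommRingCat.of K)) (Fin r → ℤ) ⟶ G), IsMonHom u → Mono u → r ≤ b := by
  haveI : IsAffine G.left := isAffine_of_isAffineHom G.hom
  let A := Γ(G.left, ⊤)
  let φ : CommRingCat.of K ⟶ A := Spec.preimage (G.left.isoSpec.inv ≫ G.hom)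
  letI : Algebra K A := φ.hom.toAlgebra
  haveI : Algebra.FiniteType K A := by
    have h : LocallyOfFiniteType (Spec.map φ) := by rw [Spec.map_preimage]; infer_instance
    rw [HasRingHomProperty.Spec_iff (P := @LocallyOfFiniteType)] at h
    exact h
  obtain ⟨N, g, hg⟩ := Algebra.FiniteType.iff_quotient_mvPolynomial''.mp (inferInstance : Algebra.FiniteType K A)
  refine ⟨N, fun r u hu hm => ?_⟩
  haveI := isClosedImmersion_of_mono_DS u
  have h1 := topologicalKrullDim_split (Basic.isSplit_DS (Spec (CommRingCat.of K)) (Fin r → ℤ))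
  have h2 := (u.left.isClosedEmbedding.toIsEmbedding.toIsInducing).topologicalKrullDim_le
  rw [h1, IsHomeomorph.topologicalKrullDim_eq _ (Scheme.homeoOfIso G.left.isoSpec).isHomeomorph] at h2
  have h3 : topologicalKrullDim ↥(Spec Γ(G.left, ⊤)) = ringKrullDim A :=
    PrimeSpectrum.topologicalKrullDim_eq_ringKrullDim _
  rw [h3] at h2
  have h4 := h2.trans (ringKrullDim_le_of_surjective g.toRingHom hg)
  rw [Dim.Basic.ringKrullDim_mvPolynomial] at h4
  simpa using h4

end Groth.Agent.Lib.ImgMT.TorusDim
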