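import Groth.Agent.Lib.ImgMT.Local

/-!
# Decomposition of the base by the kernel of a homomorphism from a diagonalisable group
-/

set_option autoImplicit false
set_option linter.unusedSectionVars false
universe u

open CategoryTheory MonoidalCategory CartesianMonoidalCategory MonObj GrpObj AlgebraicGeometry
open CategoryTheory.Limits
open Groth.Agent.Lib.RedPts Groth.Agent.Lib.Tori Groth.Agent.H87
open Groth.Agent.H87.Locus (toG Kills killSet)
open Groth.Agent.H87.CentralEq (lo)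

namespace Groth.Agent.Lib.ImgMT

set_option linter.style.haveILetI false

variable {S : Scheme.{u}} {Γ : Type} [AddCommGroup Γ]

theorem over_eta {T : Scheme.{u}} {i : T ⟶ S} {Y : Over S} (p : Y ⟶ Over.mk i) :
    ∃ (Y₀ : Over T), Nonempty ((Over.map i).obj Y₀ ≅ Y) := by
  refine ⟨Over.mk p.left, ⟨Over.isoMk (Iso.refl _) ?_⟩⟩
  show 𝟙 _ ≫ Y.hom = p.left ≫ i
  rw [Category.id_comp]
  exact (Over.w p).symm

theorem fT_triv_iff {M : Type} [AddCommGroup M] {G : Over S} [GrpObj G] (j : Red.DS S M ⟶ G) {T : Scheme.{u}}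
    (i : T ⟶ S) {Y : Over S} (p : Y ⟶ Over.mk i) (γ : Y ⟶ Red.DS S M) :
    ∃ (Y₀ : Over T) (x : Y₀ ⟶ Red.DS T M), (∀ m, Gm.dsFn x m = 1 ↔ Gm.dsFn γ m = 1) ∧
      (x ≫ fT i j = 1 ↔ γ ≫ j = 1) := by
  obtain ⟨Y₀, ⟨ε⟩⟩ := over_eta p
  obtain ⟨x, hx⟩ := CentralEq.lo_surjective i (ε.hom ≫ γ)
  refine ⟨Y₀, x, fun m => ?_, ?_⟩
  · rw [← CentralEq.dsFn_lo i x m, hx, Gm.dsFn_comp]
    haveI : IsIso ε.hom.left := inferInstanceAs (IsIso ((Over.forget _).map ε.hom))
    haveI : IsIso ε.hom.left.appTop := inferInstanceAs (IsIso (Scheme.Γ.map ε.hom.left.op))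
    exact map_eq_one_iff _ ((ConcreteCategory.isIso_iff_bijective ε.hom.left.appTop).mp inferInstance).1
  · rw [fT_comp_iff, hx, Category.assoc, ← MonObj.comp_one (M := G) ε.hom]
    exact cancel_epi ε.hom

set_option maxHeartbeats 1000000 in
/-- Near any prime the kernel is the annihilator of a finitely generated group. -/
theorem exists_nhd_spec {A : CommRingCat.{u}} {G : Over (Spec A)} [GrpObj G] [IsSeparated G.hom]
    [QuasiCompact G.hom] [LocallyOfFinitePresentation G.hom] (f : Red.DS (Spec A) Γ ⟶ G) [IsMonHom f]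
    (P : Spec A) :
    ∃ (T : Scheme.{u}) (q : T ⟶ Spec A) (_ : IsOpenImmersion q) (Λ : AddSubgroup Γ),
      P ∈ Set.range q ∧ Λ.FG ∧ KerIs Λ f q := by
  obtain ⟨Γ₀, hΓ₀, hK⟩ := exists_fg_kills f
  haveI : IsMonHom (Red.DSmap (Spec A) (QuotientAddGroup.mk' Γ₀.subtype.range)) := Gm.isMonHom_DSmap _
  obtain ⟨j₀, hj₀m, hj₀⟩ := Factor.exists_factor (inc := Γ₀.subtype) Subtype.coe_injective f (by
    refine hK _ _ fun m hm => ?_
    rw [DS.dsFn_DSmap_self, show QuotientAddGroup.mk' Γ₀.subtype.range m = 0 from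
      (QuotientAddGroup.eq_zero_iff _).mpr ⟨⟨m, hm⟩, rfl⟩, Gm.dsFn_zero])
  haveI := hj₀m
  haveI : AddGroup.FG Γ₀ := (AddGroup.fg_iff_addSubgroup_fg Γ₀).mpr hΓ₀
  -- the kernel on the fibre
  let p : Ideal A := (show PrimeSpectrum A from P).asIdeal
  haveI : p.IsPrime := (show PrimeSpectrum A from P).2
  let k : Spec (CommRingCat.of p.ResidueField) ⟶ Spec A :=
    Spec.map (CommRingCat.ofHom (algebraMap A p.ResidueField))
  haveI := isMonHom_fT k j₀
  haveI : LocallyOfFiniteType (Red.bc k G).hom := inferInstanceAs (LocallyOfFiniteType (pullback.snd G.hom k))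
  obtain ⟨N, hN⟩ := KerField.exists_ker (fT k j₀)
  have hkerN : ∀ (Y : Over (Spec A)) (_ : Y ⟶ Over.mk k) (γ : Y ⟶ Red.DS (Spec A) Γ₀),
      γ ≫ j₀ = 1 ↔ ∀ m ∈ N, Gm.dsFn γ m = 1 := fun Y q γ => by
    obtain ⟨Y₀, x, hxm, hx⟩ := fT_triv_iff j₀ k q γ
    rw [← hx, hN x]
    exact forall₂_congr fun m _ => hxm m
  let Λ : AddSubgroup Γ := N.map Γ₀.subtype
  have hNfg : N.FG := by
    haveI : Module.Finite ℤ Γ₀ := Module.Finite.iff_addGroup_fg.mpr inferInstance
    exact Submodule.fg_iff_addSubgroup_fg N.toIntSubmodule |>.mp (IsNoetherian.noetherian _)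
  have hΛ : Λ.FG := by
    classical
    obtain ⟨F, hF⟩ := hNfg
    exact ⟨F.image Γ₀.subtype, by rw [Finset.coe_image, ← AddMonoidHom.map_closure, hF]⟩
  have hmemΛ : ∀ m ∈ Λ, ∃ n ∈ N, (n : Γ) = m := fun m hm => AddSubgroup.mem_map.1 hm
  -- the torsion part is killed over a clopen neighbourhood
  let w := Red.DSmap (Spec A) (QuotientAddGroup.mk' N) ≫ j₀
  haveI : IsMonHom (Red.DSmap (Spec A) (QuotientAddGroup.mk' N)) := Gm.isMonHom_DSmap _
  haveI : IsMonHom w := inferInstanceAs (IsMonHom (_ ≫ j₀))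
  obtain ⟨U₀, -, hU₀e, hU₀⟩ := Locus.exists_trivial_locus w (Character.isMultTypeFT_DS _ _) (Or.inr inferInstance)
  have hkP : k (IsLocalRing.closedPoint p.ResidueField) = P := by
    apply PrimeSpectrum.ext
    show Ideal.comap (algebraMap A p.ResidueField) (IsLocalRing.maximalIdeal _) = p
    rw [IsLocalRing.maximalIdeal_eq_bot]
    exact Ideal.ker_algebraMap_residueField p
  have hPU₀ : P ∈ U₀ := by
    show P ∈ (U₀ : Set ↥(Spec A))
    rw [hU₀e, ← hkP]
    refine (Locus.kills_point_iff w (K := p.ResidueField) k).1 fun Y q γ => ?_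
    show γ ≫ Red.DSmap (Spec A) (QuotientAddGroup.mk' N) ≫ j₀ = 1
    rw [← Category.assoc]
    refine (hkerN Y q _).2 fun m hm => ?_
    rw [Gm.dsFn_DSmap, show QuotientAddGroup.mk' N m = 0 from (QuotientAddGroup.eq_zero_iff _).2 hm, Gm.dsFn_zero]
  have hK1 : ∀ (Y : Over (Spec A)) (_ : Y ⟶ Over.mk U₀.ι) (γ : Y ⟶ Red.DS (Spec A) Γ),
      (∀ m ∈ Λ, Gm.dsFn γ m = 1) → γ ≫ f = 1 := by
    intro Y q γ hγ
    obtain ⟨y, hy⟩ := exists_fac_quot N (γ ≫ Red.DSmap (Spec A) Γ₀.subtype) fun n hn => by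
      rw [Gm.dsFn_DSmap]
      exact hγ _ ⟨n, hn, rfl⟩
    rw [← hj₀, ← Category.assoc, ← hy, Category.assoc]
    exact hU₀ Y q y
  have hK2 : ∀ (Y : Over (Spec A)) (_ : Y ⟶ Over.mk k) (γ : Y ⟶ Red.DS (Spec A) Γ),
      γ ≫ f = 1 → ∀ m ∈ Λ, Gm.dsFn γ m = 1 := by
    intro Y q γ hγ m hm
    obtain ⟨n, hn, rfl⟩ := hmemΛ m hm
    rw [← hj₀, ← Category.assoc] at hγ
    have := (hkerN Y q _).1 hγ n hn
    rwa [Gm.dsFn_DSmap] at this
  -- an affine neighbourhood
  obtain ⟨_, ⟨a, rfl⟩, haP, haU⟩ :=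
    PrimeSpectrum.isTopologicalBasis_basic_opens.isOpen_iff.mp U₀.2 P hPU₀
  let A' : CommRingCat.{u} := CommRingCat.of (Localization.Away a)
  let q : Spec A' ⟶ Spec A := Spec.map (CommRingCat.ofHom (algebraMap A (Localization.Away a)))
  haveI : IsOpenImmersion q := inferInstanceAs (IsOpenImmersion (Spec.map _))
  have hqU : Set.range q ⊆ (U₀ : Set ↥(Spec A)) := by
    refine Eq.trans_subset ?_ haU
    exact PrimeSpectrum.localization_away_comap_range (Localization.Away a) a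
  let qU : Spec A' ⟶ (U₀ : Scheme.{u}) := IsOpenImmersion.lift U₀.ι q (by rwa [Scheme.Opens.range_ι])
  haveI : IsSeparated (Red.bc q G).hom := inferInstanceAs (IsSeparated (pullback.snd G.hom q))
  haveI : QuasiCompact (Red.bc q G).hom := inferInstanceAs (QuasiCompact (pullback.snd G.hom q))
  haveI : LocallyOfFinitePresentation (Red.bc q G).hom :=
    inferInstanceAs (LocallyOfFinitePresentation (pullback.snd G.hom q))
  haveI := isMonHom_fT q f
  have hK1' : ∀ (Y : Over (Spec A')) (γ : Y ⟶ Red.DS (Spec A') Γ),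
      (∀ m ∈ Λ, Gm.dsFn γ m = 1) → γ ≫ fT q f = 1 := by
    intro Y γ hγ
    rw [fT_comp_iff]
    refine hK1 _ (Over.homMk (U := (Over.map q).obj Y) (V := Over.mk U₀.ι) (Y.hom ≫ qU) ?_) _ fun m hm => by
      rw [CentralEq.dsFn_lo]; exact hγ m hm
    show (Y.hom ≫ qU) ≫ U₀.ι = Y.hom ≫ q
    rw [Category.assoc, IsOpenImmersion.lift_fac]
  obtain ⟨j₁, hj₁m, hj₁⟩ := Factor.exists_factor (inc := Λ.subtype) Subtype.coe_injective (fT q f) (by
    refine hK1' _ _ fun m hm => ?_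
    rw [DS.dsFn_DSmap_self, show QuotientAddGroup.mk' Λ.subtype.range m = 0 from
      (QuotientAddGroup.eq_zero_iff _).mpr ⟨⟨m, hm⟩, rfl⟩, Gm.dsFn_zero])
  haveI := hj₁m
  haveI : AddGroup.FG Λ := (AddGroup.fg_iff_addSubgroup_fg Λ).mpr hΛ
  obtain ⟨P', hP'⟩ : P ∈ Set.range q := by
    rw [show Set.range q = _ from PrimeSpectrum.localization_away_comap_range (Localization.Away a) a]
    exact haP
  let p' : Ideal A' := (show PrimeSpectrum A' from P').asIdeal
  haveI : p'.IsPrime := (show PrimeSpectrum A' from P').2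
  let k' : Spec (CommRingCat.of p'.ResidueField) ⟶ Spec A' :=
    Spec.map (CommRingCat.ofHom (algebraMap A' p'.ResidueField))
  obtain ⟨ψ, hψ⟩ : ∃ ψ : CommRingCat.of p.ResidueField ⟶ CommRingCat.of p'.ResidueField,
      Spec.map ψ ≫ k = k' ≫ q := by
    have hpp : p = p'.comap (algebraMap A (Localization.Away a)) :=
      (congrArg (fun z => (show PrimeSpectrum A from z).asIdeal) hP').symm
    let σ : A →+* p'.ResidueField := (algebraMap A' p'.ResidueField).comp (algebraMap A (Localization.Away a))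
    have h0 : p ≤ RingHom.ker σ := fun x hx => by
      show algebraMap A' p'.ResidueField (algebraMap A (Localization.Away a) x) = 0
      rw [Ideal.algebraMap_residueField_eq_zero]
      rw [hpp] at hx
      exact hx
    have h1 : p.primeCompl ≤ Submonoid.comap σ.toMonoidHom (IsUnit.submonoid _) := fun x hx => by
      refine IsUnit.mk0 _ fun h => hx ?_
      rw [hpp]
      exact (Ideal.algebraMap_residueField_eq_zero (I := p')).1 h
    refine ⟨CommRingCat.ofHom (Ideal.ResidueField.lift p σ h0 h1), ?_⟩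
    show Spec.map _ ≫ Spec.map _ = Spec.map _ ≫ Spec.map _
    rw [← Spec.map_comp, ← Spec.map_comp]
    refine congrArg Spec.map (CommRingCat.hom_ext (RingHom.ext fun x => ?_))
    exact Ideal.ResidueField.lift_algebraMap (I := p) σ h0 h1 x
  let p1 : ∀ {K : Scheme.{u}} (c : K ⟶ Spec A') (Y : Over (Spec A')) (_ : Y ⟶ Over.mk c),
      (Over.map q).obj Y ⟶ Over.mk (c ≫ q) := fun c Y r => Over.homMk (U := (Over.map q).obj Y) r.left (by
    show r.left ≫ c ≫ q = Y.hom ≫ q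
    rw [← Category.assoc]
    exact congrArg (· ≫ q) (Over.w r))
  have hK2' : ∀ (Y : Over (Spec A')) (_ : Y ⟶ Over.mk k') (γ : Y ⟶ Red.DS (Spec A') Γ),
      γ ≫ fT q f = 1 → ∀ m ∈ Λ, Gm.dsFn γ m = 1 := by
    intro Y r γ hγ m hm
    rw [← CentralEq.dsFn_lo q γ m]
    exact hK2 _ (p1 k' Y r ≫ Over.homMk (U := Over.mk (k' ≫ q)) (V := Over.mk k) (Spec.map ψ) hψ) _
      ((fT_comp_iff q f γ).1 hγ) m hm
  let e : Grp.mk (Red.bc (𝟙 (Spec A')) (Red.DS (Spec A') Λ)) ≅ Grp.mk (Red.DS (Spec A') Λ) := BaseChange.bcId _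
  haveI : IsClosedImmersion η[(Red.bc q G)].left := Groth.Agent.Lib.GrpSch.isClosedImmersion_η _
  haveI : IsClosedImmersion (pullback.fst j₁.left η[(Red.bc q G)].left) := inferInstance
  haveI : LocallyOfFinitePresentation (pullback.fst j₁.left η[(Red.bc q G)].left) :=
    H87.Mono.lfp_kernel j₁ (Character.isMultTypeFT_DS _ _) (Or.inr inferInstance)
  obtain ⟨b, hb, hfib⟩ := H87.Mono.exists_nhd_chart j₁ e p' (H87.Mono.fib_of_kerTriv j₁ _ fun Y r γ hγ => by
    refine kerTriv_of_fac j₁ hj₁ k' hK2' Y (r ≫ Over.homMk (U := Over.mk (k' ≫ 𝟙 _)) (V := Over.mk k') (𝟙 _) ?_) γ hγ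
    simp)
  let r : Spec (CommRingCat.of (Localization.Away b)) ⟶ Spec A' :=
    Spec.map (CommRingCat.ofHom (algebraMap A' (Localization.Away b)))
  haveI : IsOpenImmersion r := inferInstanceAs (IsOpenImmersion (Spec.map _))
  refine ⟨_, r ≫ q, inferInstance, Λ, ?_, hΛ, ?_⟩
  · obtain ⟨x, hx⟩ : P' ∈ Set.range r := by
      rw [show Set.range r = _ from PrimeSpectrum.localization_away_comap_range (Localization.Away b) b]
      exact hb
    exact ⟨x, by rw [Scheme.Hom.comp_apply, hx, hP']⟩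
  · refine kerIs_of_fT fun Y s γ => ⟨fun hγ m hm => ?_, fun h => hK1' Y γ h⟩
    have h1 : (γ ≫ Red.DSmap (Spec A') Λ.subtype) ≫ j₁ = 1 := by rw [Category.assoc, hj₁, hγ]
    have h2 := H87.Mono.kerTriv_of_fib j₁ hfib
      (s ≫ Over.homMk (U := Over.mk r) (V := Over.mk (r ≫ 𝟙 _)) (𝟙 _) (by simp)) _ h1
    have h3 := congrArg (fun z => Gm.dsFn z ⟨m, hm⟩) h2
    simp only [Gm.dsFn_DSmap, Gm.dsFn_one] at h3
    exact h3

variable {G : Over S} [GrpObj G] [IsSeparated G.hom] [QuasiCompact G.hom] [LocallyOfFinitePresentation G.hom]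
  (f : Red.DS S Γ ⟶ G) [IsMonHom f]

/-- Near any point the kernel is the annihilator of a finitely generated group. -/
theorem exists_nhd (s : S) : ∃ (V : S.Opens) (Λ : AddSubgroup Γ), s ∈ V ∧ Λ.FG ∧ KerIs Λ f V.ι := by
  obtain ⟨O, hO, hsO, -⟩ := exists_isAffineOpen_mem_and_subset (X := S) (x := s) (U := ⊤) trivial
  obtain ⟨P, hP⟩ : s ∈ Set.range hO.fromSpec := by rw [hO.range_fromSpec]; exact hsO
  haveI := isMonHom_fT hO.fromSpec f
  haveI : IsSeparated (Red.bc hO.fromSpec G).hom := inferInstanceAs (IsSeparated (pullback.snd G.hom hO.fromSpec))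
  haveI : QuasiCompact (Red.bc hO.fromSpec G).hom := inferInstanceAs (QuasiCompact (pullback.snd G.hom hO.fromSpec))
  haveI : LocallyOfFinitePresentation (Red.bc hO.fromSpec G).hom :=
    inferInstanceAs (LocallyOfFinitePresentation (pullback.snd G.hom hO.fromSpec))
  obtain ⟨T, q, hq, Λ, ⟨x, hx⟩, hΛ, hk⟩ := exists_nhd_spec (fT hO.fromSpec f) P
  let l := q ≫ hO.fromSpec
  refine ⟨l.opensRange, Λ, ⟨x, by rw [Scheme.Hom.comp_apply, hx, hP]⟩, hΛ, (kerIs_of_fT hk).comp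
    (IsOpenImmersion.lift l l.opensRange.ι (by rw [Scheme.Opens.range_ι]; rfl)) ?_⟩
  exact IsOpenImmersion.lift_fac _ _ _

/-- The base decomposes according to the kernel. -/
theorem exists_decomp :
    ∃ W : AddSubgroup Γ → S.Opens, (∀ s, ∃! Λ, s ∈ W Λ) ∧ (∀ Λ, IsClosed (W Λ : Set S)) ∧
      ∀ Λ, (∀ s ∈ W Λ, Λ.FG) ∧ KerIs Λ f (W Λ).ι := by
  choose V Λs hV hΛ hK using exists_nhd f
  have huniq : ∀ s t : S, s ∈ V t → Λs t = Λs s := by
    intro s t hst
    let K := S.residueField s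
    have hl : ∀ (O : S.Opens), s ∈ O → ∃ l : Spec (CommRingCat.of K) ⟶ (O : Scheme.{u}),
        l ≫ O.ι = S.fromSpecResidueField s := fun O hs => by
      refine ⟨IsOpenImmersion.lift O.ι (S.fromSpecResidueField s) ?_, IsOpenImmersion.lift_fac _ _ _⟩
      rw [Scheme.Opens.range_ι, Scheme.range_fromSpecResidueField]
      simpa using hs
    obtain ⟨l₁, h₁⟩ := hl _ hst
    obtain ⟨l₂, h₂⟩ := hl _ (hV s)
    exact ((hK t).comp l₁ h₁).unique ((hK s).comp l₂ h₂)
  let W : AddSubgroup Γ → S.Opens := fun Λ => ⨆ (t : S) (_ : Λs t = Λ), V t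
  have hW : ∀ Λ s, s ∈ W Λ ↔ Λs s = Λ := fun Λ s => by
    simp only [W, TopologicalSpace.Opens.mem_iSup]
    exact ⟨fun ⟨t, ht, hst⟩ => (huniq s t hst).symm.trans ht, fun h => ⟨s, h, hV s⟩⟩
  refine ⟨W, fun s => ⟨Λs s, (hW _ s).2 rfl, fun Λ h => ((hW Λ s).1 h).symm⟩, fun Λ => ?_, fun Λ =>
    ⟨fun s hs => (hW Λ s).1 hs ▸ hΛ s, ?_⟩⟩
  · refine ⟨?_⟩
    have : (W Λ : Set S)ᶜ = ⋃ Λ' ∈ {Λ' | Λ' ≠ Λ}, (W Λ' : Set S) := by
      ext s
      simp only [Set.mem_compl_iff, SetLike.mem_coe, Set.mem_iUnion, Set.mem_ofPred_eq, exists_prop, hW]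
      exact ⟨fun h => ⟨_, h, rfl⟩, fun ⟨Λ', hne, he⟩ h => hne (he.symm.trans h)⟩
    rw [this]
    exact isOpen_biUnion fun Λ' _ => (W Λ').2
  · intro Y p γ
    -- the cover of the source by the preimages
    let O : ↥(Y.left) → Y.left.Opens := fun y => (p.left ≫ (W Λ).ι) ⁻¹ᵁ V (((W Λ).ι) (p.left y))
    have hmem : ∀ y, y ∈ O y := fun y => hV _
    have hΛy : ∀ y, Λs ((W Λ).ι (p.left y)) = Λ := fun y => (hW Λ _).1 (p.left y).2
    have key : ∀ y, ((Over.homMk (O y).ι : Over.mk ((O y).ι ≫ Y.hom) ⟶ Y) ≫ γ) ≫ f = 1 ↔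
        ∀ m ∈ Λ, Gm.dsFn ((Over.homMk (O y).ι : Over.mk ((O y).ι ≫ Y.hom) ⟶ Y) ≫ γ) m = 1 := fun y => by
      have h := hK ((W Λ).ι (p.left y)) _ (Over.homMk ((p.left ≫ (W Λ).ι) ∣_ V ((W Λ).ι (p.left y))) (by
        show ((p.left ≫ (W Λ).ι) ∣_ _) ≫ (V _).ι = (O y).ι ≫ Y.hom
        rw [morphismRestrict_ι, ← Over.w p]
        rfl)) ((Over.homMk (O y).ι : Over.mk ((O y).ι ≫ Y.hom) ⟶ Y) ≫ γ)
      rwa [hΛy y] at h
    let 𝒰 := Y.left.openCoverOfIsOpenCover O (TopologicalSpace.IsOpenCover.mk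
      (eq_top_iff.mpr fun y _ => TopologicalSpace.Opens.mem_iSup.mpr ⟨y, hmem y⟩))
    constructor
    · intro hγ m hm
      refine Y.left.sheaf.eq_of_locally_eq' O ⊤ (fun y => homOfLE le_top)
        (fun y _ => TopologicalSpace.Opens.mem_iSup.mpr ⟨y, hmem y⟩) _ _ fun y => ?_
      have h := (key y).1 (by rw [Category.assoc, hγ, MonObj.comp_one]) m hm
      rw [Gm.dsFn_comp] at h
      show Y.left.presheaf.map _ (Gm.dsFn γ m) = Y.left.presheaf.map _ 1
      rw [map_one]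
      have h' := congrArg (O y).topIso.hom h
      rw [map_one] at h'
      refine Eq.trans ?_ h'
      generalize Gm.dsFn γ m = z
      simp [Scheme.Opens.topIso]
      erw [← CommRingCat.comp_apply, ← Functor.map_comp]
      rfl
    · intro hγ
      apply Over.OverMorphism.ext
      refine Scheme.Cover.hom_ext 𝒰 _ _ fun y => ?_
      have h := (key y).2 fun m hm => by rw [Gm.dsFn_comp, hγ m hm, map_one]
      rw [Category.assoc, ← MonObj.comp_one (M := G) (Over.homMk (O y).ι : Over.mk ((O y).ι ≫ Y.hom) ⟶ Y)] at h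
      exact congrArg CommaMorphism.left h

end Groth.Agent.Lib.ImgMT
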