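import Groth.Agent.Lib.ImgMT.Compat

/-!
# The image of a homomorphism from a diagonalisable group
-/

set_option autoImplicit false
set_option linter.unusedSectionVars false
universe u

open CategoryTheory MonoidalCategory CartesianMonoidalCategory MonObj GrpObj AlgebraicGeometry
open CategoryTheory.Limits
open Groth.Agent.Lib.RedPts Groth.Agent.Lib.Tori Groth.Agent.H87

namespace Groth.Agent.Lib.ImgMT

set_option linter.style.haveILetI false

variable {S : Scheme.{u}} {Γ : Type} [AddCommGroup Γ] {G : Over S} [GrpObj G]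
  [IsSeparated G.hom] [QuasiCompact G.hom] [LocallyOfFinitePresentation G.hom]
  (f : Red.DS S Γ ⟶ G) [IsMonHom f]

/-- The structure of the image. -/
theorem exists_image_DS :
    ∃ (Q : Over S) (_ : GrpObj Q) (j : Q ⟶ G) (_ : IsMonHom j) (f' : Red.DS S Γ ⟶ Q) (_ : IsMonHom f'),
      Mono j ∧ IsClosedImmersion j.left ∧ IsCov f' ∧ f' ≫ j = f ∧
      (∀ s : S, ∃ U : S.Opens, s ∈ U ∧ IsClosed (U : Set S) ∧ ∃ Λ : AddSubgroup Γ, Λ.FG ∧
        Nonempty (Grp.mk (Red.bc U.ι Q) ≅ Grp.mk (Red.DS (U : Scheme.{u}) Λ))) ∧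
      ∀ {Y : Over S} (g : Y ⟶ G), (imgSub f).P g → ∃ r, r ≫ j = g := by
  obtain ⟨W, hW, hWc, hK⟩ := exists_decomp f
  choose Λ hmem using fun s => (hW s).exists
  have hex : ∀ s : S, ∃ j : Red.DS (W (Λ s) : Scheme.{u}) (Λ s) ⟶ Red.bc (W (Λ s)).ι G,
      IsMonHom j ∧ Mono j ∧ IsClosedImmersion j.left ∧ Red.DSmap _ (Λ s).subtype ≫ j = fT (W (Λ s)).ι f :=
    fun s => exists_fac_closed ((hK _).1 s (hmem s)) f _ (hK _).2
  choose z hzm hzmono hzc hz using hex
  haveI := hzm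
  haveI := hzmono
  haveI : ∀ s : S, IsAffineHom (Red.DS (W (Λ s) : Scheme.{u}) (Λ s)).hom := fun s => DS.isAffineHom _ _
  haveI : IsAffineHom (Red.DS S Γ).hom := DS.isAffineHom S Γ
  have hcov := HomFam.mem_fpqc (𝟙 S) (fun O hO => ⟨O, hO.isCompact, Set.image_id _⟩) (κ := ↥S)
    (fun s => W (Λ s)) fun x => ⟨x, hmem x⟩
  simp only [Category.comp_id] at hcov
  obtain ⟨Q, gQ, j, hjm, f', hf', hjmono, hjc, hfc, hfac, hchart, hrep⟩ := exists_image_glue f
    (c := fun s => (W (Λ s)).ι) hcov z hzc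
    (fun s => (BaseChange.overIso (DS.dsBC Γ (W (Λ s)).ι)).hom ≫ Red.DSmap _ (Λ s).subtype)
    (fun s => by
      have h := isCov_DSmap (S := (W (Λ s) : Scheme.{u})) (inc := (Λ s).subtype) Subtype.coe_injective
      haveI : IsIso (BaseChange.overIso (DS.dsBC Γ (W (Λ s)).ι)).hom.left :=
        inferInstanceAs (IsIso ((Over.forget _).map (BaseChange.overIso (DS.dsBC Γ (W (Λ s)).ι)).hom))
      refine IsCov.comp ⟨inferInstance, inferInstance, inferInstance⟩ h)
    (fun s => by rw [Category.assoc, hz, map_eq_fT])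
  exact ⟨Q, gQ, j, hjm, f', hf', hjmono, hjc, hfc, hfac,
    fun s => ⟨W (Λ s), hmem s, hWc _, Λ s, (hK _).1 s (hmem s), hchart s⟩, hrep⟩

end Groth.Agent.Lib.ImgMT
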