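import Mathlib.Algebra.MonoidAlgebra.Basic
import Mathlib.Algebra.MonoidAlgebra.NoZeroDivisors
import Mathlib.RingTheory.Valuation.ValuationRing
import Mathlib.RingTheory.LocalRing.ResidueField.Basic

/-!
# Leading terms of Laurent polynomials at the powers of a character
-/

set_option autoImplicit false
set_option linter.unusedSectionVars false
universe u

namespace Groth.Agent.Lib.ImgMT

variable {V : Type u} [CommRing V] [IsDomain V] [ValuationRing V] {K : Type u} [Field K] [Algebra V K]
  [IsFractionRing V K] {N : Type} [CommGroup N] (χ : N →* K)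

local notation "v" => ValuationRing.valuation V K

/-- The twist by the `i`-th power of `χ`. -/
noncomputable def twist (i : ℕ) : MonoidAlgebra V N →ₐ[V] MonoidAlgebra K N :=
  MonoidAlgebra.lift V (MonoidAlgebra K N) N
    { toFun := fun m => MonoidAlgebra.single m (χ m ^ i)
      map_one' := by rw [map_one, one_pow]; rfl
      map_mul' := fun m n => by rw [map_mul, mul_pow, MonoidAlgebra.single_mul_single] }

theorem twist_single (i : ℕ) (m : N) (r : V) :
    twist χ i (MonoidAlgebra.single m r) = MonoidAlgebra.single m (algebraMap V K r * χ m ^ i) := by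
  rw [twist, MonoidAlgebra.lift_single]
  simp [Algebra.smul_def]

theorem coeff_twist (i : ℕ) (R : MonoidAlgebra V N) (m : N) :
    (twist χ i R).coeff m = algebraMap V K (R.coeff m) * χ m ^ i := by
  classical
  induction R using MonoidAlgebra.induction_linear with
  | zero => simp
  | add a b ha hb => simp [ha, hb, _root_.add_mul]
  | single n r =>
    rw [twist_single, MonoidAlgebra.coeff_single, MonoidAlgebra.coeff_single, Finsupp.single_apply, Finsupp.single_apply]
    split_ifs with h
    · rw [h]
    · simp

/-- The weight of a monomial. -/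
noncomputable def wt (R : MonoidAlgebra V N) (i : ℕ) (m : N) : ValuationRing.ValueGroup V K :=
  v (algebraMap V K (R.coeff m) * χ m ^ i)

omit [IsDomain V] [ValuationRing V] [IsFractionRing V K] in
theorem chi_ne_zero (m : N) : χ m ≠ 0 := ((Group.isUnit m).map χ).ne_zero

/-- For all but finitely many powers the weights are distinct. -/
theorem finite_bad (hinj : ∀ m : N, v (χ m) = 1 → m = 1) (R : MonoidAlgebra V N) :
    {i : ℕ | ∃ m ∈ R.coeff.support, ∃ m' ∈ R.coeff.support, m ≠ m' ∧ wt χ R i m = wt χ R i m'}.Finite := by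
  have : {i : ℕ | ∃ m ∈ R.coeff.support, ∃ m' ∈ R.coeff.support, m ≠ m' ∧ wt χ R i m = wt χ R i m'} =
      ⋃ m ∈ R.coeff.support, ⋃ m' ∈ R.coeff.support, {i : ℕ | m ≠ m' ∧ wt χ R i m = wt χ R i m'} := by
    ext i
    simp only [Set.mem_ofPred_eq, Set.mem_iUnion, exists_prop]
  rw [this]
  refine R.coeff.support.finite_toSet.biUnion fun m hm => R.coeff.support.finite_toSet.biUnion fun m' hm' =>
    Set.Subsingleton.finite fun i hi j hj => ?_
  by_contra hne
  wlog hij : i < j generalizing i j
  · exact this j hj i hi (Ne.symm hne) (lt_of_le_of_ne (not_lt.1 hij) (Ne.symm hne))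
  obtain ⟨k, rfl⟩ := Nat.exists_eq_add_of_le hij.le
  obtain ⟨hmm, hi⟩ := hi
  have hj := hj.2
  simp only [wt, map_mul, map_pow, pow_add, ← _root_.mul_assoc] at hi hj
  rw [hi] at hj
  have hne0 : v (algebraMap V K (R.coeff m')) * v (χ m') ^ i ≠ 0 := by
    refine mul_ne_zero ((Valuation.ne_zero_iff _).2 ?_) (pow_ne_zero _ ((Valuation.ne_zero_iff _).2 (chi_ne_zero χ m')))
    exact (map_ne_zero_iff _ (IsFractionRing.injective V K)).2 (Finsupp.mem_support_iff.1 hm')
  have hk := mul_left_cancel₀ hne0 hj
  have hk0 : k ≠ 0 := fun h => hne (by omega)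
  have h1 : v (χ m) = v (χ m') := (pow_left_inj₀ zero_le zero_le hk0).1 hk
  refine hmm (eq_of_div_eq_one (hinj _ ?_))
  have h2 : χ (m / m') * χ m' = χ m := by rw [← map_mul, div_mul_cancel]
  have h3 := congrArg v h2
  rw [map_mul, h1] at h3
  exact (mul_eq_right₀ ((Valuation.ne_zero_iff _).2 (chi_ne_zero χ m'))).1 h3

/-- The reduction modulo the maximal ideal. -/
noncomputable def redHom : MonoidAlgebra V N →+* MonoidAlgebra (IsLocalRing.ResidueField V) N :=
  MonoidAlgebra.mapRingHom N (IsLocalRing.residue V)

/-- The value at the unit point. -/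
noncomputable def aug (A : Type u) [CommRing A] : MonoidAlgebra A N →ₐ[A] A := MonoidAlgebra.lift A A N 1

@[simp] theorem aug_single {A : Type u} [CommRing A] (m : N) (r : A) : aug A (MonoidAlgebra.single m r) = r := by
  simp [aug, MonoidAlgebra.lift_single]

omit [IsDomain V] [ValuationRing V] in
theorem aug_map {A B : Type u} [CommRing A] [CommRing B] (f : A →+* B) (R : MonoidAlgebra A N) :
    aug B (MonoidAlgebra.mapRingHom N f R) = f (aug A R) := by
  induction R using MonoidAlgebra.induction_linear with
  | zero => simp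
  | add a b ha hb => simp [ha, hb]
  | single n r => simp [aug_single]

/-- At a good power the twist is, up to a scalar, congruent to a monomial. -/
theorem exists_lead (R : MonoidAlgebra V N) (i : ℕ)
    (hgood : ∀ m ∈ R.coeff.support, ∀ m' ∈ R.coeff.support, wt χ R i m = wt χ R i m' → m = m') :
    ∃ (a : K) (e : MonoidAlgebra V N) (p : N), (R ≠ 0 → a ≠ 0) ∧
      twist χ i R = a • MonoidAlgebra.mapRingHom N (algebraMap V K) e ∧ redHom e = MonoidAlgebra.single p 1 := by
  classical
  rcases eq_or_ne R 0 with rfl | hR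
  · refine ⟨0, 1, 1, fun h => absurd rfl h, by simp, ?_⟩
    rw [map_one]
    rfl
  have hsupp : R.coeff.support.Nonempty := Finsupp.support_nonempty_iff.2 fun h =>
    hR (MonoidAlgebra.coeff_injective (h.trans MonoidAlgebra.coeff_zero.symm))
  obtain ⟨p, hp, hmax⟩ := R.coeff.support.exists_max_image (wt χ R i) hsupp
  let a : K := algebraMap V K (R.coeff p) * χ p ^ i
  have ha : a ≠ 0 := mul_ne_zero
    ((map_ne_zero_iff _ (IsFractionRing.injective V K)).2 (Finsupp.mem_support_iff.1 hp))
    (pow_ne_zero _ (chi_ne_zero χ p))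
  have hva : v a ≠ 0 := (Valuation.ne_zero_iff _).2 ha
  have hle : ∀ m, ∃ e : V, algebraMap V K e = algebraMap V K (R.coeff m) * χ m ^ i / a := by
    intro m
    refine (ValuationRing.mem_integer_iff V K _).1 ?_
    show v _ ≤ 1
    by_cases hm : m ∈ R.coeff.support
    · rw [map_div₀, div_le_one₀ (zero_lt_iff.2 hva)]
      exact hmax m hm
    · rw [Finsupp.notMem_support_iff.1 hm]
      simp
  choose e he using hle
  have hzero : ∀ m ∉ R.coeff.support, e m = 0 := fun m hm => IsFractionRing.injective V K (by
    rw [he, Finsupp.notMem_support_iff.1 hm, map_zero, zero_mul, zero_div])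
  let E : MonoidAlgebra V N := ∑ m ∈ R.coeff.support, MonoidAlgebra.single m (e m)
  have hE : ∀ m, E.coeff m = e m := by
    intro m
    simp only [E, MonoidAlgebra.coeff_sum, Finsupp.finsetSum_apply, MonoidAlgebra.coeff_single, Finsupp.single_apply]
    rw [Finset.sum_ite_eq' R.coeff.support m e]
    split_ifs with h
    · rfl
    · exact (hzero m h).symm
  refine ⟨a, E, p, fun _ => ha, MonoidAlgebra.coeff_injective (Finsupp.ext fun m => ?_), MonoidAlgebra.coeff_injective (Finsupp.ext fun m => ?_)⟩
  · rw [coeff_twist, MonoidAlgebra.coeff_smul, Finsupp.smul_apply, smul_eq_mul]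
    show _ = a * algebraMap V K (E.coeff m)
    rw [hE, he, mul_div_cancel₀ _ ha]
  · show IsLocalRing.residue V (E.coeff m) = _
    rw [hE, MonoidAlgebra.coeff_single, Finsupp.single_apply]
    split_ifs with h
    · subst h
      rw [show e p = 1 from IsFractionRing.injective V K (by rw [he, map_one]; exact div_self ha), map_one]
    · rw [IsLocalRing.residue_eq_zero_iff]
      by_cases hm : m ∈ R.coeff.support
      · intro hu
        have h2 : ∃ e' : V, e m * e' = 1 := hu.exists_right_inv
        obtain ⟨e', he'⟩ := h2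
        have hlt : v (algebraMap V K (e m)) < 1 := by
          rw [he, map_div₀, div_lt_one₀ (zero_lt_iff.2 hva)]
          exact lt_of_le_of_ne (hmax m hm) fun hh => h (hgood m hm p hp hh).symm
        have h3 : v (algebraMap V K e') ≤ 1 := (ValuationRing.mem_integer_iff V K _).2 ⟨e', rfl⟩
        have h4 := congrArg (fun z => v (algebraMap V K z)) he'
        simp only [map_mul, map_one] at h4
        exact absurd h4 (ne_of_lt (lt_of_le_of_lt (mul_le_of_le_one_right' h3) hlt))
      · rw [hzero m hm]
        exact zero_mem _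

/-- **A quotient which is integral near the unit point reduces to a monomial.** -/
theorem monomial_of_eq [NoZeroDivisors (MonoidAlgebra K N)] {P Q n d : MonoidAlgebra V N} (hQ : Q ≠ 0) (i : ℕ)
    (hP' : ∀ m ∈ P.coeff.support, ∀ m' ∈ P.coeff.support, wt χ P i m = wt χ P i m' → m = m')
    (hQ' : ∀ m ∈ Q.coeff.support, ∀ m' ∈ Q.coeff.support, wt χ Q i m = wt χ Q i m' → m = m')
    (hd : IsUnit (aug V d))
    (h : MonoidAlgebra.mapRingHom N (algebraMap V K) n * twist χ i Q =
      MonoidAlgebra.mapRingHom N (algebraMap V K) d * twist χ i P) :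
    ∃ (z : V) (p q : N), aug V n = z * aug V d ∧
      redHom n * MonoidAlgebra.single q 1 = redHom d * MonoidAlgebra.single p (IsLocalRing.residue V z) := by
  obtain ⟨a, e, q, ha, hQe, hqe⟩ := exists_lead χ Q i hQ'
  obtain ⟨b, e', p, -, hPe, hpe⟩ := exists_lead χ P i hP'
  have ha0 := ha hQ
  let ι := MonoidAlgebra.mapRingHom N (algebraMap V K)
  have hu : ∀ {x : MonoidAlgebra V N} {m : N}, redHom x = MonoidAlgebra.single m 1 → IsUnit (aug V x) := by
    intro x m hx
    have h1 := congrArg (aug (IsLocalRing.ResidueField V)) hx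
    rw [aug_single, redHom, aug_map] at h1
    exact IsLocalRing.notMem_maximalIdeal.1 fun hmem => one_ne_zero (h1.symm.trans ((IsLocalRing.residue_eq_zero_iff _).2 hmem))
  obtain ⟨f, hf⟩ := (hd.mul (hu hpe)).exists_right_inv
  obtain ⟨f₁, hf₁⟩ := (hu hqe).exists_right_inv
  rw [hQe, hPe, mul_smul_comm, mul_smul_comm, ← map_mul, ← map_mul] at h
  have h1 := congrArg (aug K) h
  rw [map_smul, map_smul, aug_map, aug_map, map_mul (aug V), map_mul (aug V), smul_eq_mul, smul_eq_mul] at h1
  obtain ⟨c, hc⟩ : ∃ c : V, c = aug V n * aug V e * f := ⟨_, rfl⟩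
  have hb : b = a * algebraMap V K c := by
    have hne : algebraMap V K (aug V d * aug V e') ≠ 0 :=
      ((hd.mul (hu hpe)).map (algebraMap V K)).ne_zero
    refine mul_right_cancel₀ hne ?_
    rw [← h1, _root_.mul_assoc, ← map_mul (algebraMap V K) c, show c * (aug V d * aug V e') = aug V n * aug V e by
      rw [hc]; linear_combination (aug V n * aug V e) * hf]
  have h2 : n * e = c • (d * e') := by
    refine (MonoidAlgebra.coeff_injective (Finsupp.ext fun m => IsFractionRing.injective V K ?_))
    have := congrArg (fun x : MonoidAlgebra K N => x.coeff m) h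
    rw [hb] at this
    simp only [MonoidAlgebra.coeff_smul, Finsupp.smul_apply, smul_eq_mul] at this
    rw [_root_.mul_assoc] at this
    refine (mul_left_cancel₀ ha0 this).trans ?_
    show _ = algebraMap V K ((c • (d * e')).coeff m)
    rw [MonoidAlgebra.coeff_smul, Finsupp.smul_apply, smul_eq_mul, map_mul (algebraMap V K)]
    rfl
  have h3 := congrArg redHom h2
  rw [Algebra.smul_def, map_mul redHom, map_mul redHom, map_mul redHom, hqe, hpe] at h3
  have h4 := congrArg (aug V) h2
  rw [map_mul, map_smul, map_mul, smul_eq_mul] at h4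
  refine ⟨c * aug V e' * f₁, p, q, ?_, ?_⟩
  · linear_combination f₁ * h4 - (aug V n) * hf₁
  · rw [h3, show redHom (algebraMap V (MonoidAlgebra V N) c) = MonoidAlgebra.single (1 : N) (IsLocalRing.residue V c) by
      simp [redHom]]
    rw [show MonoidAlgebra.single (1 : N) (IsLocalRing.residue V c) * (redHom d * MonoidAlgebra.single p 1) =
      redHom d * MonoidAlgebra.single p (IsLocalRing.residue V c) by
        rw [mul_left_comm, MonoidAlgebra.single_mul_single, _root_.one_mul, _root_.mul_one]]
    congr 2
    have hr : ∀ {x : MonoidAlgebra V N} {m : N}, redHom x = MonoidAlgebra.single m 1 →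
        IsLocalRing.residue V (aug V x) = 1 := by
      intro x m hx
      have h5 := congrArg (aug (IsLocalRing.ResidueField V)) hx
      rwa [aug_single, redHom, aug_map] at h5
    have h6 := congrArg (IsLocalRing.residue V) hf₁
    rw [map_mul, map_one, hr hqe, _root_.one_mul] at h6
    rw [map_mul, map_mul, h6, hr hpe, _root_.mul_one, _root_.mul_one]

end Groth.Agent.Lib.ImgMT
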