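import Groth.Agent.Lib.ImgMT.Decomp
import Groth.Agent.H87.HomGlobal
import Groth.Agent.H87.SplitMax
import Groth.Agent.Lib.ImgMT.Compat

/-!
# The scheme of monomorphic homomorphisms from a diagonalisable group to a smooth affine group
-/

set_option autoImplicit false
set_option linter.unusedSectionVars false
universe u

open CategoryTheory MonoidalCategory CartesianMonoidalCategory MonObj GrpObj AlgebraicGeometry
open CategoryTheory.Limits
open Groth.Agent.Lib.RedPts Groth.Agent.Lib.Tori Groth.Agent.H87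
open Groth.Agent.H87.CentralEq (lo)

namespace Groth.Agent.Lib.ImgMT.MonoHomLocus

set_option linter.style.haveILetI false

variable {S : Scheme.{u}}

/-- A homomorphism with trivial kernel is a monomorphism. -/
theorem mono_iff {G H : Over S} [GrpObj G] [GrpObj H] (u : H ⟶ G) [IsMonHom u] :
    Mono u ↔ ∀ (Y : Over S) (y : Y ⟶ H), y ≫ u = 1 → y = 1 := by
  constructor
  · intro _ Y y h
    rw [← cancel_mono u, h, MonObj.one_comp]
  · refine fun h => ⟨fun {Y} a b hab => ?_⟩
    have h1 := h Y (a * b⁻¹) (by rw [MonObj.mul_comp, GrpObj.inv_comp, hab, mul_inv_cancel])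
    exact mul_inv_eq_one.mp h1

/-- The source of a family over a point, as a point of the base. -/
abbrev base {T : Scheme.{u}} (k : T ⟶ S) (Y : Over T) : (Over.map k).obj Y ⟶ Over.mk k :=
  Over.homMk Y.hom

/-- A homomorphism over `k` is classified by a point of `Hom`. -/
theorem exists_classify {H G R : Over S} [GrpObj H] [GrpObj G] {υ : H ⊗ R ⟶ G}
    (hR : AutFam.RepresentsHom H G R υ) {T : Scheme.{u}} (k : T ⟶ S) (u₀ : Red.bc k H ⟶ Red.bc k G)
    [IsMonHom u₀] :
    ∃ a : Over.mk k ⟶ R, ∀ (Y : Over T) (y : Y ⟶ Red.bc k H),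
      BC.down k (y ≫ u₀) = lift (BC.down k y) (base k Y ≫ a) ≫ υ := by
  let T₀ : Over S := Over.mk k
  let φ : H ⊗ T₀ ⟶ G := Over.homMk (U := H ⊗ T₀) (u₀.left ≫ pullback.fst G.hom k) (by
    show (u₀.left ≫ pullback.fst G.hom k) ≫ G.hom = _
    rw [Category.assoc, pullback.condition, ← Category.assoc]
    rw [show u₀.left ≫ pullback.snd G.hom k = pullback.snd H.hom k from Over.w u₀]
    exact pullback.condition.symm)
  have hpt : ∀ (Y : Over T) (y : Y ⟶ Red.bc k H),
      BC.down k (y ≫ u₀) = lift (BC.down k y) (base k Y) ≫ φ := fun Y y => by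
    apply Over.OverMorphism.ext
    show (y.left ≫ u₀.left) ≫ _ = (lift (BC.down k y) (base k Y)).left ≫ u₀.left ≫ _
    rw [Category.assoc]
    refine congrArg (· ≫ _) (pullback.hom_ext ?_ ?_)
    · exact (congrArg CommaMorphism.left (lift_fst (BC.down k y) (base k Y))).symm
    · exact (Over.w y).trans (congrArg CommaMorphism.left (lift_snd (BC.down k y) (base k Y))).symm
  have hφ : AutFam.IsHomFamily H G φ := by
    intro X g₁ g₂ t
    let Y : Over T := Over.mk t.left
    let ε : (Over.map k).obj Y ≅ X := Over.isoMk (Iso.refl _) (by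
      show 𝟙 _ ≫ X.hom = t.left ≫ k
      rw [Category.id_comp]; exact (Over.w t).symm)
    have hb : base k Y = ε.hom ≫ t := Over.OverMorphism.ext (Category.id_comp t.left).symm
    have key : ∀ g : X ⟶ H, lift g t ≫ φ = ε.inv ≫ BC.down k (BC.up k (ε.hom ≫ g) ≫ u₀) := fun g => by
      rw [hpt, BC.down_up, hb, ← comp_lift, Category.assoc, Iso.inv_hom_id_assoc]
    rw [key, key, key, ← comp_mul, comp_mul ε.hom, BC.up_mul, MonObj.mul_comp, BC.down_mul]
  obtain ⟨a, ha, -⟩ := hR.2 T₀ φ hφ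
  refine ⟨a, fun Y y => ?_⟩
  rw [hpt, ← ha, ← Category.assoc]
  refine congrArg (· ≫ υ) (CartesianMonoidalCategory.hom_ext _ _ (by simp) (by simp))

section Univ

variable {M : Type} [AddCommGroup M] {G R : Over S} [GrpObj G] {υ : Red.DS S M ⊗ R ⟶ G}

/-- The universal homomorphism. -/
noncomputable def univ (υ : Red.DS S M ⊗ R ⟶ G) : Red.DS R.left M ⟶ Red.bc R.hom G :=
  BC.up R.hom (lift (lo R.hom (𝟙 (Red.DS R.left M))) (Over.homMk (Red.DS R.left M).hom) ≫ υ)

theorem down_comp_univ {X : Over R.left} (x : X ⟶ Red.DS R.left M) :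
    BC.down R.hom (x ≫ univ υ) = lift (lo R.hom x) (Over.homMk X.hom) ≫ υ := by
  rw [univ, BC.down_comp, BC.down_up, ← Category.assoc, comp_lift, ← CentralEq.lo_comp, Category.comp_id]
  refine congrArg (fun p => lift _ p ≫ υ) ?_
  exact Over.OverMorphism.ext (Over.w x)

theorem isMonHom_univ (hυ : AutFam.IsHomFamily (Red.DS S M) G υ) : IsMonHom (univ υ) :=
  HomDS.isMonHom_of_points _ fun X a b => by
    apply BC.down_injective
    rw [BC.down_mul, down_comp_univ, down_comp_univ, down_comp_univ, CentralEq.lo_mul]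
    exact hυ _ _ _ _

/-- The classified homomorphism has the same kernel as the universal one. -/
theorem comp_eq_one_iff {T : Scheme.{u}} (k : T ⟶ S) (u₀ : Red.DS T M ⟶ Red.bc k G) (a : Over.mk k ⟶ R)
    (ha : ∀ (Y : Over T) (y : Y ⟶ Red.DS T M), BC.down k (y ≫ u₀) = lift (lo k y) (base k Y ≫ a) ≫ υ)
    {Y : Over T} (y : Y ⟶ Red.DS T M) : y ≫ u₀ = 1 ↔ y ≫ fT a.left (univ υ) = 1 := by
  let ζ : (Over.map R.hom).obj ((Over.map a.left).obj Y) ≅ (Over.map k).obj Y :=
    Over.isoMk (Iso.refl _) (by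
      show 𝟙 _ ≫ Y.hom ≫ k = (Y.hom ≫ a.left) ≫ R.hom
      rw [Category.id_comp, Category.assoc]
      exact congrArg (Y.hom ≫ ·) (Over.w a).symm)
  have h1 : BC.down R.hom (BC.down a.left (y ≫ fT a.left (univ υ))) = ζ.hom ≫ BC.down k (y ≫ u₀) := by
    rw [down_comp_fT, down_comp_univ, ha, ← Category.assoc, comp_lift]
    refine congrArg (· ≫ υ) (congrArg₂ lift (Gm.dsFn_ext fun m => ?_) (Over.OverMorphism.ext ?_))
    · rw [Gm.dsFn_comp, CentralEq.dsFn_lo, CentralEq.dsFn_lo, CentralEq.dsFn_lo]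
      show _ = (𝟙 Y.left : _ ⟶ _).appTop _
      simp
    · show Y.hom ≫ a.left = 𝟙 _ ≫ Y.hom ≫ a.left
      rw [Category.id_comp]
  constructor
  · intro h
    rw [h, BC.down_one, MonObj.comp_one] at h1
    exact BC.down_injective (BC.down_injective (h1.trans (by rw [BC.down_one, BC.down_one])))
  · intro h
    rw [h, BC.down_one, BC.down_one] at h1
    apply BC.down_injective
    rw [BC.down_one, ← cancel_epi ζ.hom, ← h1, MonObj.comp_one]

end Univ

/-- The kernel is trivial exactly if its annihilator is everything. -/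
theorem dsFn_eq_one_iff {M : Type} [AddCommGroup M] {Y : Over S} (y : Y ⟶ Red.DS S M) :
    (∀ m ∈ (⊤ : AddSubgroup M), Gm.dsFn y m = 1) ↔ y = 1 :=
  ⟨fun h => Gm.dsFn_ext fun m => by rw [h m trivial, Gm.dsFn_one],
    fun h m _ => by rw [h, Gm.dsFn_one]⟩

/-- **The monomorphism locus.** -/
theorem exists_monoLocus (G : Over S) [GrpObj G] [Smooth G.hom] [IsAffineHom G.hom] (M : Type) [AddCommGroup M]
    [Module.Free ℤ M] [Module.Finite ℤ M] :
    ∃ (W : Scheme.{u}) (w : W ⟶ S), Smooth w ∧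
      (∃ U : Red.DS W M ⟶ Red.bc w G, IsMonHom U ∧ Mono U) ∧
      ∀ (L : Type u) [Field L] (k : Spec (CommRingCat.of L) ⟶ S) (u : Red.DS (Spec (CommRingCat.of L)) M ⟶ Red.bc k G),
        IsMonHom u → Mono u → k (IsLocalRing.closedPoint L) ∈ Set.range w := by
  haveI : AddGroup.FG M := Module.Finite.iff_addGroup_fg.mp inferInstance
  obtain ⟨R, υ, hR, hRs, -⟩ := HomGlobal.of_isTorus (G := G) (Basic.isTorus_DS S M)
  haveI := hRs
  haveI := isMonHom_univ hR.1
  haveI : IsSeparated (Red.bc R.hom G).hom := inferInstanceAs (IsSeparated (pullback.snd G.hom R.hom))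
  haveI : QuasiCompact (Red.bc R.hom G).hom := inferInstanceAs (QuasiCompact (pullback.snd G.hom R.hom))
  haveI : LocallyOfFinitePresentation (Red.bc R.hom G).hom :=
    inferInstanceAs (LocallyOfFinitePresentation (pullback.snd G.hom R.hom))
  obtain ⟨W, hWu, -, hW⟩ := exists_decomp (univ υ)
  let O : R.left.Opens := W ⊤
  let a₀ : Over.mk (O.ι ≫ R.hom) ⟶ R := Over.homMk O.ι
  refine ⟨O, O.ι ≫ R.hom, inferInstance, ?_, fun L _ k u hu hm => ?_⟩
  · let u₁ : Red.DS (O : Scheme.{u}) M ⟶ Red.bc (O.ι ≫ R.hom) G :=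
      BC.up (O.ι ≫ R.hom) (lift (lo (O.ι ≫ R.hom) (𝟙 _)) (base _ _ ≫ a₀) ≫ υ)
    have hu₁ : ∀ (Y : Over (O : Scheme.{u})) (y : Y ⟶ Red.DS (O : Scheme.{u}) M),
        BC.down _ (y ≫ u₁) = lift (lo (O.ι ≫ R.hom) y) (base _ Y ≫ a₀) ≫ υ := fun Y y => by
      rw [BC.down_comp, BC.down_up, ← Category.assoc, comp_lift, ← CentralEq.lo_comp, Category.comp_id,
        ← Category.assoc]
      refine congrArg (fun p => lift _ (p ≫ a₀) ≫ υ) ?_
      exact Over.OverMorphism.ext (Over.w y)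
    haveI : IsMonHom u₁ := HomDS.isMonHom_of_points _ fun X p q => by
      apply BC.down_injective
      rw [BC.down_mul, hu₁, hu₁, hu₁, CentralEq.lo_mul]
      exact hR.1 _ _ _ _
    refine ⟨u₁, inferInstance, (mono_iff u₁).2 fun Y y hy => ?_⟩
    rw [comp_eq_one_iff _ u₁ a₀ hu₁] at hy
    have hk : KerIs ⊤ (univ υ) (𝟙 (O : Scheme.{u}) ≫ O.ι) := (hW ⊤).2.comp (𝟙 _) rfl
    exact (dsFn_eq_one_iff y).1 ((hk.fT Y (Over.homMk Y.hom) y).1 hy)
  · haveI := hu
    haveI := hm
    let C := BaseChange.overIso (DS.dsBC (S := S) M k)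
    haveI : IsMonHom C.hom := BaseChange.isMonHom_overIso _
    obtain ⟨a, ha⟩ := exists_classify hR k (C.hom ≫ u)
    have ha' : ∀ (Y : Over (Spec (CommRingCat.of L))) (y : Y ⟶ Red.DS _ M),
        BC.down k (y ≫ u) = lift (lo k y) (base k Y ≫ a) ≫ υ := fun Y y => by
      have h := ha Y (y ≫ C.inv)
      rw [Category.assoc, Iso.inv_hom_id_assoc] at h
      rw [h, show BC.down k (y ≫ C.inv) = lo k y from ?_]
      refine Gm.dsFn_ext fun m => ?_
      rw [CentralEq.dsFn_lo, dsFn_down]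
      show Gm.dsFn ((y ≫ C.inv) ≫ C.hom) m = _
      rw [Category.assoc, Iso.inv_hom_id, Category.comp_id]
    obtain ⟨Λ, hΛ, -⟩ := hWu (a.left (IsLocalRing.closedPoint L))
    let l := IsOpenImmersion.lift (W Λ).ι a.left (by
      rw [Scheme.Opens.range_ι]
      rintro _ ⟨x, rfl⟩
      haveI : Subsingleton ↥(Spec (CommRingCat.of L)) := inferInstanceAs (Subsingleton (PrimeSpectrum L))
      exact Subsingleton.elim (IsLocalRing.closedPoint L) x ▸ hΛ)
    have h1 : KerIs Λ (univ υ) a.left := (hW Λ).2.comp l (IsOpenImmersion.lift_fac _ _ _)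
    have h2 : KerIs ⊤ (univ υ) (𝟙 _ ≫ a.left) := kerIs_of_fT fun Y _ y => by
      rw [← comp_eq_one_iff k u a ha', dsFn_eq_one_iff]
      exact ⟨(mono_iff u).1 hm Y y, fun h => by rw [h, MonObj.one_comp]⟩
    rw [Category.id_comp] at h2
    obtain rfl : Λ = ⊤ := h1.unique h2
    refine ⟨⟨_, hΛ⟩, ?_⟩
    show R.hom (a.left _) = _
    exact congrArg (fun f : Spec (CommRingCat.of L) ⟶ S => f (IsLocalRing.closedPoint L)) (Over.w a)

end Groth.Agent.Lib.ImgMT.MonoHomLocus
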