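import Groth.Agent.Lib.ImgMT.Subtori
import Groth.Agent.H87.SplitMax

/-!
# The greatest locally split subtorus over a connected base
-/

set_option autoImplicit false
set_option linter.unusedSectionVars false
universe u

open CategoryTheory MonoidalCategory CartesianMonoidalCategory MonObj GrpObj AlgebraicGeometry
open CategoryTheory.Limits
open Groth.Agent.Lib.RedPts Groth.Agent.Lib.Tori Groth.Agent.H87

namespace Groth.Agent.Lib.ImgMT

set_option linter.style.haveILetI false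

variable {S : Scheme.{u}}

/-- The rank of a torus at a point is `r`. -/
abbrev RankAt (T : Over S) [GrpObj T] (s : S) (r : ℕ) : Prop :=
  Red.IsSplitTorusWith (Fin r → ℤ) (Red.geomFibre s T)

theorem isTorus_of_locSplit {T : Over S} [GrpObj T] (h : LocSplitTorus T) : Red.IsTorus T := by
  refine ⟨S, 𝟙 S, inferInstance, ⟨fun x => ⟨x, rfl⟩⟩, fun V hV => ⟨V, hV.isCompact, by simp⟩, fun s => ?_⟩
  obtain ⟨U, hU, r, hr⟩ := h s
  exact ⟨U, hU, r, Basic.isSplit_congr (BaseChange.bcCongr (Category.comp_id _) T) hr⟩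

theorem rankAt_of_chart {T : Over S} [GrpObj T] {U : S.Opens} {r : ℕ}
    (h : Red.IsSplitTorusWith (Fin r → ℤ) (Red.bc U.ι T)) (s : S) (hs : s ∈ U) : RankAt T s r := by
  let l := IsOpenImmersion.lift U.ι (Red.geomPt s) (by
    rw [Scheme.Opens.range_ι]
    rintro _ ⟨x, rfl⟩
    have : (Red.geomPt s) x = s := S.fromSpecResidueField_apply s _
    rw [this]
    exact hs)
  exact Basic.isSplit_congr (BaseChange.bcCongr (IsOpenImmersion.lift_fac U.ι (Red.geomPt s) _).symm T ≪≫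
    BaseChange.bcComp l U.ι T) (Basic.isSplit_bc h l)

theorem rankAt_le {T T' : Over S} [GrpObj T] [GrpObj T'] (g : T ⟶ T') [IsMonHom g] [Mono g] {s : S} {r r' : ℕ}
    (h : RankAt T s r) (h' : RankAt T' s r') : r ≤ r' := by
  obtain ⟨e⟩ := h
  obtain ⟨e'⟩ := h'
  let v := (BaseChange.overIso e.symm).hom ≫ (Over.pullback (Red.geomPt s)).map g ≫ (BaseChange.overIso e').hom
  haveI : IsMonHom v := inferInstance
  haveI : Mono v := inferInstance
  exact Factor.rank_le v (IsLocalRing.closedPoint _)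

theorem rankAt_unique {T : Over S} [GrpObj T] {s : S} {r r' : ℕ} (h : RankAt T s r) (h' : RankAt T s r') :
    r = r' := le_antisymm (rankAt_le (𝟙 T) h h') (rankAt_le (𝟙 T) h' h)

theorem exists_rank [ConnectedSpace ↥S] {T : Over S} [GrpObj T] (h : LocSplitTorus T) :
    ∃ r : ℕ, ∀ s, RankAt T s r := by
  choose U hU r hr using h
  obtain ⟨s₀⟩ := (inferInstance : Nonempty ↥S)
  refine ⟨r s₀, fun s => ?_⟩
  let Z : Set S := {x | RankAt T x (r s₀)}
  have hloc : ∀ x y : S, y ∈ U x → (RankAt T y (r s₀) ↔ r x = r s₀) := fun x y hy =>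
    ⟨fun h => rankAt_unique (rankAt_of_chart (hr x) y hy) h, fun h => h ▸ rankAt_of_chart (hr x) y hy⟩
  have hclopen : IsClopen Z := by
    refine ⟨⟨isOpen_iff_forall_mem_open.mpr fun x hx => ⟨U x, fun y hy hy' => hx ?_, (U x).2, hU x⟩⟩,
      isOpen_iff_forall_mem_open.mpr fun x hx => ⟨U x, fun y hy => ?_, (U x).2, hU x⟩⟩
    · exact (hloc x x (hU x)).2 ((hloc x y hy).1 hy')
    · exact (hloc x y hy).2 ((hloc x x (hU x)).1 hx)
  have : Z = Set.univ := hclopen.eq_univ ⟨s₀, rankAt_of_chart (hr s₀) s₀ (hU s₀)⟩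
  exact (this ▸ Set.mem_univ s : s ∈ Z)

/-- The trivial torus. -/
theorem locSplit_zero : LocSplitTorus (Red.DS S (Fin 0 → ℤ)) := fun s =>
  ⟨⊤, trivial, 0, Basic.isSplit_bc (Basic.isSplit_DS S _) _⟩

/-- **The greatest locally split subtorus.** -/
theorem exists_greatest [ConnectedSpace ↥S] {G : Over S} [GrpObj G] (hG : SGA3x.IsMultTypeFT G) :
    ∃ (T : Over S) (_ : GrpObj T) (j : T ⟶ G), IsMonHom j ∧ Mono j ∧ LocSplitTorus T ∧
      ∀ (T' : Over S) [GrpObj T'] (j' : T' ⟶ G) [IsMonHom j'] [Mono j'],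
        LocSplitTorus T' → ∃ g : T' ⟶ T, g ≫ j = j' := by
  classical
  obtain ⟨s₀⟩ := (inferInstance : Nonempty ↥S)
  let k := Red.geomPt s₀
  obtain ⟨b, hb⟩ := Factor.exists_rank_bound (Normal.multTypeFT_bc hG k) (IsLocalRing.closedPoint _)
  let p : ℕ → Prop := fun r => ∃ (T : Over S) (_ : GrpObj T) (j : T ⟶ G), IsMonHom j ∧ Mono j ∧
    LocSplitTorus T ∧ RankAt T s₀ r
  have hbd : ∀ r, p r → r ≤ b := by
    rintro r ⟨T, gT, j, hj, hjm, -, ⟨e⟩⟩
    let v := (BaseChange.overIso e.symm).hom ≫ (Over.pullback k).map j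
    haveI : IsMonHom v := inferInstance
    haveI : Mono v := inferInstance
    exact hb r v inferInstance inferInstance
  have h0 : p 0 := by
    have hone : ∀ {X : Over S} (x : X ⟶ Red.DS S (Fin 0 → ℤ)), x = 1 := fun x => Gm.dsFn_ext fun m => by
      rw [Subsingleton.elim m 0, Gm.dsFn_zero, Gm.dsFn_one]
    refine ⟨_, inferInstance, 1, HomDS.isMonHom_of_points _ fun X a b => by simp [MonObj.comp_one],
      ⟨fun a b _ => (hone a).trans (hone b).symm⟩, locSplit_zero, ?_⟩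
    exact Basic.isSplit_bc (Basic.isSplit_DS S _) _
  obtain ⟨T, gT, j, hj, hjm, hT, hr⟩ : p (Nat.findGreatest p b) := Nat.findGreatest_spec (Nat.zero_le b) h0
  refine ⟨T, gT, j, hj, hjm, hT, fun T' _ j' _ _ hT' => ?_⟩
  obtain ⟨T'', g'', j'', g₁, g₂, hjm'', hjmono'', hT'', e₁, e₂⟩ := exists_ge_of_two hG j j' hT hT'
  haveI := hjm''
  haveI := hjmono''
  haveI : IsMonHom g₁ := SplitMax.isMonHom_of_comp g₁ j j'' e₁
  haveI : Mono (g₁ ≫ j'') := e₁ ▸ hjm
  haveI : Mono g₁ := mono_of_mono g₁ j''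
  obtain ⟨r₁, hr₁⟩ := exists_rank hT
  obtain ⟨r₂, hr₂⟩ := exists_rank hT''
  have hle : r₁ ≤ r₂ := rankAt_le g₁ (hr₁ s₀) (hr₂ s₀)
  have h2 : p r₂ := ⟨T'', g'', j'', hjm'', hjmono'', hT'', hr₂ s₀⟩
  have h1 := rankAt_unique (hr₁ s₀) hr
  obtain rfl : r₁ = r₂ := le_antisymm hle (h1 ▸ Nat.le_findGreatest (hbd _ h2) h2)
  haveI : IsIso g₁ := S16611.result (isTorus_of_locSplit hT) (isTorus_of_locSplit hT'') g₁
    fun s => ⟨r₁, hr₁ s, hr₂ s⟩
  exact ⟨g₂ ≫ inv g₁, by rw [Category.assoc, ← e₁, IsIso.inv_hom_id_assoc, e₂]⟩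

end Groth.Agent.Lib.ImgMT
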