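import Groth.Agent.Lib.ImgMT.MonoHomLocus
import Groth.Agent.Lib.ImgMT.TorusDim
import Groth.Agent.H1.Classical.MaxTorusApply
import Groth.Agent.H63.GrpIdentity
import Groth.Agent.H63.GrpConnected
import Groth.Agent.Lib.SmWeil.FieldTori
import Groth.Agent.Lib.GrpSch.GeomPoints
import Groth.Agent.H87.TorusIn
import Groth.Agent.H87.GmFibre
import Groth.Prelude.Def_SGA3x

/-!
# The reductive rank of the geometric fibres of a smooth affine group
-/

set_option autoImplicit false
set_option linter.unusedSectionVars false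
universe u

open CategoryTheory MonoidalCategory CartesianMonoidalCategory MonObj GrpObj AlgebraicGeometry
open CategoryTheory.Limits
open Groth.Agent.Lib.RedPts Groth.Agent.Lib.Tori Groth.Agent.H87

namespace Groth.Agent.Lib.ImgMT.RedRank

set_option linter.style.haveILetI false

variable {S : Scheme.{u}}

/-- The closed point of a field point. -/
noncomputable abbrev ptOf {L : Type u} [Field L] (k : Spec (CommRingCat.of L) ⟶ S) : S := k (IsLocalRing.closedPoint L)

/-- `G` contains a split torus of rank `r` over `k`. -/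
def SubAt (G : Over S) [GrpObj G] {T : Scheme.{u}} (k : T ⟶ S) (r : ℕ) : Prop :=
  ∃ u : Red.DS T (Fin r → ℤ) ⟶ Red.bc k G, IsMonHom u ∧ Mono u

/-- The reductive rank of `G` at `k` is `r`. -/
def IsRk (G : Over S) [GrpObj G] {T : Scheme.{u}} (k : T ⟶ S) (r : ℕ) : Prop :=
  SubAt G k r ∧ ∀ n, SubAt G k n → n ≤ r

theorem IsRk.unique {G : Over S} [GrpObj G] {T : Scheme.{u}} {k : T ⟶ S} {r r' : ℕ} (h : IsRk G k r)
    (h' : IsRk G k r') : r = r' := le_antisymm (h'.2 r h.1) (h.2 r' h'.1)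

theorem subAt_of_iso {T : Scheme.{u}} {G : Over S} [GrpObj G] {S₁ : Scheme.{u}} {G' : Over S₁} [GrpObj G']
    {k : T ⟶ S} {k' : T ⟶ S₁} (e : Grp.mk (Red.bc k G) ≅ Grp.mk (Red.bc k' G')) {r : ℕ} (h : SubAt G k r) :
    SubAt G' k' r := by
  obtain ⟨u, hu, hm⟩ := h
  haveI := hu
  haveI := hm
  haveI : IsMonHom (BaseChange.overIso e).hom := BaseChange.isMonHom_overIso _
  haveI : Mono (BaseChange.overIso e).hom := @IsIso.mono_of_iso _ _ _ _ _ (Iso.isIso_hom _)
  exact ⟨u ≫ (BaseChange.overIso e).hom, inferInstance, mono_comp _ _⟩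

theorem subAt_comp_iff {T S' : Scheme.{u}} (f : S' ⟶ S) (G : Over S) [GrpObj G] (k : T ⟶ S') (r : ℕ) :
    SubAt (Red.bc f G) k r ↔ SubAt G (k ≫ f) r :=
  ⟨subAt_of_iso (BaseChange.bcComp k f G).symm, subAt_of_iso (BaseChange.bcComp k f G)⟩

theorem isRk_comp_iff {T S' : Scheme.{u}} (f : S' ⟶ S) (G : Over S) [GrpObj G] (k : T ⟶ S') (r : ℕ) :
    IsRk (Red.bc f G) k r ↔ IsRk G (k ≫ f) r := by
  simp only [IsRk, subAt_comp_iff]

theorem subAt_mono_hom {G G' : Over S} [GrpObj G] [GrpObj G'] (j : G' ⟶ G) [IsMonHom j] [Mono j]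
    {T : Scheme.{u}} {k : T ⟶ S} {r : ℕ} (h : SubAt G' k r) : SubAt G k r := by
  obtain ⟨u, hu, hm⟩ := h
  haveI := hu
  haveI := hm
  exact ⟨u ≫ (Over.pullback k).map j, inferInstance, mono_comp _ _⟩

theorem subAt_of_mono {T : Scheme.{u}} {k : T ⟶ S} {G : Over S} [GrpObj G] {r r' : ℕ} (hle : r ≤ r')
    (h : SubAt G k r') : SubAt G k r := by
  obtain ⟨u, hu, hm⟩ := h
  haveI := hu
  haveI := hm
  let φ : (Fin r' → ℤ) →+ (Fin r → ℤ) :=
    { toFun := fun v => v ∘ Fin.castLE hle
      map_zero' := rfl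
      map_add' := fun _ _ => rfl }
  have hφ : Function.Surjective φ := fun w => by
    refine ⟨fun i => if h : (i : ℕ) < r then w ⟨i, h⟩ else 0, funext fun i => ?_⟩
    simp [φ]
  haveI : IsMonHom (Red.DSmap T φ) := Gm.isMonHom_DSmap _
  haveI := Loci.mono_DSmap_of_surjective T hφ
  exact ⟨Red.DSmap T φ ≫ u, inferInstance, mono_comp _ _⟩

theorem subAt_zero (G : Over S) [GrpObj G] {T : Scheme.{u}} (k : T ⟶ S) : SubAt G k 0 := by
  have hone : ∀ {X : Over T} (x : X ⟶ Red.DS T (Fin 0 → ℤ)), x = 1 := fun x => Gm.dsFn_ext fun m => by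
    rw [Subsingleton.elim m 0, Gm.dsFn_zero, Gm.dsFn_one]
  refine ⟨(1 : Red.DS T (Fin 0 → ℤ) ⟶ Red.bc k G),
    HomDS.isMonHom_of_points (1 : Red.DS T (Fin 0 → ℤ) ⟶ Red.bc k G) fun X a b => ?_,
    ⟨fun a b _ => (hone a).trans (hone b).symm⟩⟩
  rw [MonObj.comp_one, MonObj.comp_one, MonObj.comp_one, _root_.one_mul]

/-- A lift of a geometric point. -/
theorem exists_lift {W : Scheme.{u}} (w : W ⟶ S) [LocallyOfFiniteType w] {L : Type u} [Field L] [IsAlgClosed L]
    (k : Spec (CommRingCat.of L) ⟶ S) (h : ptOf k ∈ Set.range w) :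
    ∃ g : Spec (CommRingCat.of L) ⟶ W, g ≫ w = k := by
  let A : Over (Spec (CommRingCat.of L)) := Over.mk (pullback.snd w k)
  let B : Over (Spec (CommRingCat.of L)) := Over.mk (𝟙 _)
  haveI : LocallyOfFiniteType A.hom := inferInstanceAs (LocallyOfFiniteType (pullback.snd w k))
  let f : A ⟶ B := Over.homMk (pullback.snd w k) (Category.comp_id _)
  let y : GrpSch.geomPoint L L ⟶ B :=
    Over.homMk (Spec.map (CommRingCat.ofHom (algebraMap L L))) (Category.comp_id _)
  obtain ⟨x, hx⟩ := GrpSch.exists_geomPoint_lift f y fun s => by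
    obtain ⟨a, ha⟩ := h
    haveI : Subsingleton ↥(Spec (CommRingCat.of L)) := inferInstanceAs (Subsingleton (PrimeSpectrum L))
    obtain ⟨p, -, -⟩ := Scheme.Pullback.exists_preimage_pullback (f := w) (g := k) a (IsLocalRing.closedPoint L) ha
    exact ⟨p, Subsingleton.elim (α := ↥(Spec (CommRingCat.of L))) _ _⟩
  refine ⟨x.left ≫ pullback.fst w k, ?_⟩
  have h1 : x.left ≫ pullback.snd w k = Spec.map (CommRingCat.ofHom (algebraMap L L)) :=
    congrArg CommaMorphism.left hx
  rw [Category.assoc, pullback.condition, ← Category.assoc, h1,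
    show CommRingCat.ofHom (algebraMap L L) = 𝟙 _ from rfl, Spec.map_id, Category.id_comp]

section Smooth

variable (G : Over S) [GrpObj G] [Smooth G.hom] [IsAffineHom G.hom]

/-- The scheme of monomorphisms from the split torus of rank `r`. -/
noncomputable def locusSrc (r : ℕ) : Scheme.{u} :=
  (MonoHomLocus.exists_monoLocus G (Fin r → ℤ)).choose

/-- Its structure map. -/
noncomputable def locusMap (r : ℕ) : locusSrc G r ⟶ S :=
  (MonoHomLocus.exists_monoLocus G (Fin r → ℤ)).choose_spec.choose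

theorem locus_spec (r : ℕ) : Smooth (locusMap G r) ∧ SubAt G (locusMap G r) r ∧
    ∀ (L : Type u) [Field L] (k : Spec (CommRingCat.of L) ⟶ S), SubAt G k r → ptOf k ∈ Set.range (locusMap G r) :=
  ⟨(MonoHomLocus.exists_monoLocus G (Fin r → ℤ)).choose_spec.choose_spec.1,
    (MonoHomLocus.exists_monoLocus G (Fin r → ℤ)).choose_spec.choose_spec.2.1,
    fun L _ k ⟨u, hu, hm⟩ =>
      (MonoHomLocus.exists_monoLocus G (Fin r → ℤ)).choose_spec.choose_spec.2.2 L k u hu hm⟩

theorem subAt_pullback {T T' : Scheme.{u}} {k : T ⟶ S} {r : ℕ} (h : SubAt G k r) (g : T' ⟶ T) :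
    SubAt G (g ≫ k) r := by
  obtain ⟨u, hu, hm⟩ := h
  haveI := hu
  haveI := hm
  let d := BaseChange.overIso (DS.dsBC (S := T) (Fin r → ℤ) g).symm
  haveI : IsMonHom d.hom := BaseChange.isMonHom_overIso _
  haveI : Mono d.hom := @IsIso.mono_of_iso _ _ _ _ _ (Iso.isIso_hom _)
  exact (subAt_comp_iff k G g r).1 ⟨d.hom ≫ (Over.pullback g).map u, inferInstance, mono_comp _ _⟩

/-- **Subtori of given rank over an algebraically closed point depend on the underlying point only.** -/
theorem subAt_iff_mem {L : Type u} [Field L] [IsAlgClosed L] (k : Spec (CommRingCat.of L) ⟶ S) (r : ℕ) :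
    SubAt G k r ↔ ptOf k ∈ Set.range (locusMap G r) := by
  obtain ⟨hs, hU, hk⟩ := locus_spec G r
  refine ⟨hk L k, fun h => ?_⟩
  haveI := hs
  obtain ⟨g, hg⟩ := exists_lift (locusMap G r) k h
  exact hg ▸ subAt_pullback G hU g

theorem isOpen_range (r : ℕ) : IsOpen (Set.range (locusMap G r)) := by
  haveI := (locus_spec G r).1
  exact (locusMap G r).isOpenMap.isOpen_range

theorem ptOf_geomPt (s : S) : ptOf (Red.geomPt s) = s := S.fromSpecResidueField_apply s _

theorem subAt_iff_geom {L : Type u} [Field L] [IsAlgClosed L] (k : Spec (CommRingCat.of L) ⟶ S) (r : ℕ) :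
    SubAt G k r ↔ SubAt G (Red.geomPt (ptOf k)) r := by
  rw [subAt_iff_mem, subAt_iff_mem, ptOf_geomPt]

theorem isRk_iff_geom {L : Type u} [Field L] [IsAlgClosed L] (k : Spec (CommRingCat.of L) ⟶ S) (r : ℕ) :
    IsRk G k r ↔ IsRk G (Red.geomPt (ptOf k)) r := by
  simp only [IsRk, subAt_iff_geom G k]

theorem exists_bound {L : Type u} [Field L] (k : Spec (CommRingCat.of L) ⟶ S) :
    ∃ b, ∀ r, SubAt G k r → r ≤ b := by
  haveI : IsAffineHom (Red.bc k G).hom := inferInstanceAs (IsAffineHom (pullback.snd G.hom k))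
  haveI : LocallyOfFiniteType (Red.bc k G).hom := inferInstanceAs (LocallyOfFiniteType (pullback.snd G.hom k))
  obtain ⟨b, hb⟩ := TorusDim.exists_rank_bound (Red.bc k G)
  exact ⟨b, fun r ⟨u, hu, hm⟩ => hb r u hu hm⟩

theorem exists_isRk {L : Type u} [Field L] (k : Spec (CommRingCat.of L) ⟶ S) : ∃ r, IsRk G k r := by
  classical
  obtain ⟨b, hb⟩ := exists_bound G k
  refine ⟨Nat.findGreatest (SubAt G k) b, Nat.findGreatest_spec (Nat.zero_le b) (subAt_zero G k), fun n hn => ?_⟩
  exact Nat.le_findGreatest (hb n hn) hn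

end Smooth

section Conj

open Groth.Agent.H63.GrpConnected Groth.Agent.H63.GrpIdentity Groth.Agent.H63.GrpComponent Groth.Agent.H63.GrpIrred

/-- Maximal tori of a smooth affine group over an algebraically closed field are isomorphic. -/
theorem exists_iso_maximal {K : Type u} [Field K] [IsAlgClosed K] {G T₁ T₂ : Over (Spec (CommRingCat.of K))}
    [GrpObj G] [GrpObj T₁] [GrpObj T₂] [Smooth G.hom] [IsAffineHom G.hom] {i₁ : T₁ ⟶ G} {i₂ : T₂ ⟶ G}
    (h₁ : Red.IsMaximalTorus i₁) (h₂ : Red.IsMaximalTorus i₂) : Nonempty (T₁ ≅ T₂) := by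
  haveI := GrpSch.isSeparated_of_field G
  letI := idGrp G
  haveI := isMonHom_idHom G
  haveI : IsClosedImmersion (idHom G).left := isClosedImmersion_idIncl G
  haveI : Flat (idHom G).left := flat_idIncl G
  haveI : IsLocallyNoetherian G.left := LocallyOfFiniteType.isLocallyNoetherian G.hom
  haveI : IsOpenImmersion (idHom G).left := IsOpenImmersion.of_flat_of_mono _
  haveI : Smooth (idObj G).hom := by rw [← Over.w (idHom G)]; infer_instance
  haveI : IsAffineHom (idObj G).hom := by rw [← Over.w (idHom G)]; infer_instance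
  haveI : IsAffine (idObj G).left := isAffine_of_isAffineHom (idObj G).hom
  haveI : ConnectedSpace (idObj G).left := by
    have h : _root_.IsPreconnected (Set.range (idHom G).left) := by
      show _root_.IsPreconnected (Set.range (idIncl G))
      rw [range_idIncl, ← connectedComponent_unit]
      exact isPreconnected_connectedComponent
    haveI : PreconnectedSpace (idObj G).left := by
      refine ⟨?_⟩
      rw [← Set.image_univ] at h
      exact ((idHom G).left.isClosedEmbedding.isInducing.isPreconnected_image).mp h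
    exact { toNonempty := ⟨η[idObj G].left (IsLocalRing.closedPoint K)⟩ }
  have lift : ∀ {U : Over (Spec (CommRingCat.of K))} [GrpObj U] (i : U ⟶ G), Red.IsMaximalTorus i →
      ∃ i₀ : U ⟶ idObj G, AGF.IsMaxTorus i₀ := by
    intro U _ i hi
    haveI := hi.1
    haveI := hi.2.1
    obtain ⟨r, ⟨e⟩⟩ := H87.TorusIn.exists_split U hi.2.2.1
    haveI := H87.GmFibre.connectedSpace_ds K r
    let eo := Tori.BaseChange.overIso e
    haveI : IsIso eo.inv.left := inferInstanceAs (IsIso ((Over.forget _).map eo.inv))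
    haveI : ConnectedSpace U.left :=
      eo.inv.left.homeomorph.surjective.connectedSpace eo.inv.left.homeomorph.continuous
    obtain ⟨i₀, hi₀⟩ := Groth.Agent.H63.GrpIdentity.exists_lift G i fun t => by
      rw [← connectedComponent_unit]
      have hsub : Set.range i.left ⊆ connectedComponent (unitPt G) :=
        (isPreconnected_range i.left.continuous).subset_connectedComponent
          ⟨η[U].left (IsLocalRing.closedPoint K),
            congrArg (fun v : 𝟙_ (Over (Spec (CommRingCat.of K))) ⟶ G => v.left (IsLocalRing.closedPoint K))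
              (IsMonHom.one_hom (f := i))⟩
      exact hsub ⟨t, rfl⟩
    haveI : Mono (idHom G) := (Over.forget _).mono_of_mono_map (show Mono (idHom G).left from inferInstance)
    haveI : IsMonHom i₀ := SplitMax.isMonHom_of_comp i₀ i (idHom G) hi₀
    haveI : Mono (i₀ ≫ idHom G) := by rw [hi₀]; infer_instance
    haveI : Mono i₀ := mono_of_mono i₀ (idHom G)
    exact ⟨i₀, inferInstance, inferInstance, hi.2.2.1, fun T'' _ j _ _ f hT'' hf =>
      SmWeil.maximal_of_isMaximalTorus hi (j ≫ idHom G) f hT'' (by rw [← Category.assoc, hf, hi₀])⟩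
  obtain ⟨a, ha⟩ := lift i₁ h₁
  obtain ⟨b, hb⟩ := lift i₂ h₂
  obtain ⟨-, φ, -⟩ := H1.Classical.MaxTorusApply.maxTorus_conj ha hb
  exact ⟨φ⟩

end Conj

section Field

variable {L : Type u} [Field L] [IsAlgClosed L] (k : Spec (CommRingCat.of L) ⟶ S) (G : Over S) [GrpObj G]
  [Smooth G.hom] [IsAffineHom G.hom]

/-- A subtorus of greatest rank is maximal. -/
theorem isMaximalTorus_of_isRk {r : ℕ} (h : IsRk G k r) {T : Over (Spec (CommRingCat.of L))} [GrpObj T]
    (hT : Red.IsSplitTorusWith (Fin r → ℤ) T) (i : T ⟶ Red.bc k G) [IsMonHom i] [Mono i] :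
    Red.IsMaximalTorus i := by
  refine SmWeil.isMaximalTorus_of_maximal i (Basic.isTorus_of_isSplit hT) fun T' _ j _ _ f hT' hf => ?_
  obtain ⟨r', hr'⟩ := TorusIn.exists_split T' hT'
  obtain ⟨u', hu', hm'⟩ := SplitMax.exists_std hr' j
  have hle := h.2 r' ⟨u', hu', hm'⟩
  haveI : IsMonHom f := SplitMax.isMonHom_of_comp f i j hf
  haveI : Mono (f ≫ j) := by rw [hf]; infer_instance
  haveI : Mono f := mono_of_mono f j
  obtain ⟨v, hv, hvm⟩ := SplitMax.exists_std hT f
  haveI := hv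
  haveI := hvm
  obtain ⟨e'⟩ := hr'
  haveI : IsMonHom (BaseChange.overIso e').hom := BaseChange.isMonHom_overIso _
  haveI : Mono (BaseChange.overIso e').hom := @IsIso.mono_of_iso _ _ _ _ _ (Iso.isIso_hom _)
  haveI : Mono (v ≫ (BaseChange.overIso e').hom) := mono_comp _ _
  obtain rfl : r = r' := le_antisymm (Factor.rank_le (v ≫ (BaseChange.overIso e').hom) (IsLocalRing.closedPoint _)) hle
  exact SplitMax.isIso_of_split hT ⟨e'⟩ f

/-- The dimension of a maximal torus is the rank. -/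
theorem dim_of_isMaximalTorus {r : ℕ} (h : IsRk G k r) {T : Over (Spec (CommRingCat.of L))} [GrpObj T]
    {i : T ⟶ Red.bc k G} (hi : Red.IsMaximalTorus i) : topologicalKrullDim ↥T.left = (r : WithBot ℕ∞) := by
  obtain ⟨u, hu, hm⟩ := h.1
  haveI := hu
  haveI := hm
  haveI : Smooth (Red.bc k G).hom := inferInstanceAs (Smooth (pullback.snd G.hom k))
  haveI : IsAffineHom (Red.bc k G).hom := inferInstanceAs (IsAffineHom (pullback.snd G.hom k))
  obtain ⟨φ⟩ := exists_iso_maximal hi (isMaximalTorus_of_isRk k G h (Basic.isSplit_DS _ _) u)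
  refine ((IsHomeomorph.topologicalKrullDim_eq _ (Scheme.homeoOfIso ((Over.forget _).mapIso φ)).isHomeomorph) :
    topologicalKrullDim ↥T.left = _).trans ?_
  exact TorusDim.topologicalKrullDim_split (Basic.isSplit_DS _ _)

theorem rank_of_isMaximalTorus {r n : ℕ} (h : IsRk G k r) {T : Over (Spec (CommRingCat.of L))} [GrpObj T]
    {i : T ⟶ Red.bc k G} (hi : Red.IsMaximalTorus i) (hn : Red.IsSplitTorusWith (Fin n → ℤ) T) : n = r := by
  have h1 := (TorusDim.topologicalKrullDim_split hn).symm.trans (dim_of_isMaximalTorus k G h hi)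
  simpa using h1

end Field

theorem hasRedRank_iff (G : Over S) [GrpObj G] [Smooth G.hom] [IsAffineHom G.hom] (s : S) (x : WithBot ℕ∞) :
    SGA3x.HasRedRank G s x ↔ ∃ r : ℕ, x = (r : WithBot ℕ∞) ∧ IsRk G (Red.geomPt s) r := by
  obtain ⟨r, hr⟩ := exists_isRk G (Red.geomPt s)
  constructor
  · rintro ⟨T, gT, i, hi, hx⟩
    letI := gT
    exact ⟨r, hx.symm.trans (dim_of_isMaximalTorus _ G hr hi), hr⟩
  · rintro ⟨r', rfl, hr'⟩
    obtain ⟨u, hu, hm⟩ := hr'.1
    haveI := hu
    haveI := hm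
    exact ⟨_, inferInstance, u, isMaximalTorus_of_isRk _ G hr' (Basic.isSplit_DS _ _) u,
      TorusDim.topologicalKrullDim_split (Basic.isSplit_DS _ _)⟩

section Torus

variable {T : Over S} [GrpObj T]

/-- The rank of a split torus. -/
theorem isRk_of_isSplit {Y : Scheme.{u}} [Nonempty ↥Y] (k : Y ⟶ S) {r : ℕ}
    (h : Red.IsSplitTorusWith (Fin r → ℤ) (Red.bc k T)) : IsRk T k r := by
  obtain ⟨e⟩ := h
  haveI : IsMonHom (BaseChange.overIso e).inv := inferInstanceAs (IsMonHom (BaseChange.overIso e.symm).hom)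
  haveI : IsMonHom (BaseChange.overIso e).hom := BaseChange.isMonHom_overIso _
  haveI : Mono (BaseChange.overIso e).hom := @IsIso.mono_of_iso _ _ _ _ _ (Iso.isIso_hom _)
  refine ⟨⟨(BaseChange.overIso e).inv, inferInstance, @IsIso.mono_of_iso _ _ _ _ _ (Iso.isIso_inv _)⟩, ?_⟩
  rintro n ⟨u, hu, hm⟩
  haveI := hu
  haveI := hm
  haveI : Mono (u ≫ (BaseChange.overIso e).hom) := mono_comp _ _
  exact Factor.rank_le (u ≫ (BaseChange.overIso e).hom) (Classical.arbitrary ↥Y)

theorem isSplit_of_isRk (hT : Red.IsTorus T) {L : Type u} [Field L] [IsAlgClosed L]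
    (k : Spec (CommRingCat.of L) ⟶ S) {r : ℕ} (h : IsRk T k r) :
    Red.IsSplitTorusWith (Fin r → ℤ) (Red.bc k T) := by
  haveI : Nonempty ↥(Spec (CommRingCat.of L)) := ⟨IsLocalRing.closedPoint L⟩
  obtain ⟨n, hn⟩ := TorusIn.exists_split (Red.bc k T) (Basic.isTorus_bc hT k)
  obtain rfl := (isRk_of_isSplit k hn).unique h
  exact hn

/-- **Maximal tori are the subtori of greatest rank on each geometric fibre.** -/
theorem isMaximalTorus_iff {G : Over S} [GrpObj G] [Smooth G.hom] [IsAffineHom G.hom] (i : T ⟶ G) [IsMonHom i]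
    [Mono i] (hT : Red.IsTorus T) :
    Red.IsMaximalTorus i ↔ ∀ (s : S) (r : ℕ), IsRk T (Red.geomPt s) r → IsRk G (Red.geomPt s) r := by
  constructor
  · intro hi s r hr
    obtain ⟨r₀, hr₀⟩ := exists_isRk G (Red.geomPt s)
    have hfib : Red.IsMaximalTorus ((Over.pullback (Red.geomPt s)).map i) :=
      SmWeil.isMaximalTorus_of_maximal _ (Basic.isTorus_bc hT _) fun T' _ j _ _ f hT' hf => hi.2.2.2 s T' j f hT' hf
    obtain rfl := rank_of_isMaximalTorus _ G hr₀ hfib (isSplit_of_isRk hT _ hr)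
    exact hr₀
  · intro h
    refine ⟨inferInstance, inferInstance, hT, fun s T' _ j _ _ f hT' hf => ?_⟩
    haveI := Basic.isAffineHom_of_isTorus hT
    haveI := Basic.smooth_of_isTorus hT
    obtain ⟨r, hr⟩ := exists_isRk T (Red.geomPt s)
    exact SmWeil.maximal_of_isMaximalTorus
      (isMaximalTorus_of_isRk _ G (h s r hr) (isSplit_of_isRk hT _ hr) ((Over.pullback (Red.geomPt s)).map i))
      j f hT' hf

theorem isMaximalTorus_iff_all {G : Over S} [GrpObj G] [Smooth G.hom] [IsAffineHom G.hom] (i : T ⟶ G) [IsMonHom i]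
    [Mono i] (hT : Red.IsTorus T) :
    Red.IsMaximalTorus i ↔ ∀ (L : Type u) [Field L] [IsAlgClosed L] (k : Spec (CommRingCat.of L) ⟶ S) (r : ℕ),
      IsRk T k r → IsRk G k r := by
  haveI := Basic.isAffineHom_of_isTorus hT
  haveI := Basic.smooth_of_isTorus hT
  rw [isMaximalTorus_iff i hT]
  exact ⟨fun h L _ _ k r hr => (isRk_iff_geom G k r).2 (h _ r ((isRk_iff_geom T k r).1 hr)),
    fun h s r hr => h _ (Red.geomPt s) r hr⟩

end Torus

/-- A set whose preimage in an fpqc covering is open is open. -/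
theorem isOpen_of_preimage {S' : Scheme.{u}} (f : S' ⟶ S) [Flat f] (hc : ∀ V : S.Opens, IsAffineOpen V →
      ∃ W : S'.Opens, IsCompact (W : Set S') ∧ f.base '' (W : Set S') = (V : Set S))
    {Z : Set S} (h : IsOpen (f.base ⁻¹' Z)) : IsOpen Z := by
  rw [isOpen_iff_forall_mem_open]
  intro s hs
  obtain ⟨V, hV, hsV, -⟩ := exists_isAffineOpen_mem_and_subset (X := S) (x := s) (U := ⊤) trivial
  obtain ⟨W, hW, hWV⟩ := hc V hV
  have hWle : W ≤ f ⁻¹ᵁ V := fun x hx => hWV.le ⟨x, hx, rfl⟩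
  let g := f.resLE V W hWle
  haveI : Flat g := inferInstanceAs (Flat (S'.homOfLE hWle ≫ (f ∣_ V)))
  haveI : IsAffine (V : Scheme.{u}) := hV
  haveI : CompactSpace ↥(W : Scheme.{u}) := isCompact_iff_compactSpace.mp hW
  haveI : QuasiCompact g := (quasiCompact_iff_compactSpace g).2 inferInstance
  have hgV : ∀ x, V.ι (g x) = f.base (W.ι x) := fun x => by
    rw [← Scheme.Hom.comp_apply, Scheme.Hom.resLE_comp_ι]; rfl
  haveI : Surjective g := ⟨fun y => by
    obtain ⟨x, hx, hxy⟩ := hWV.ge y.2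
    exact ⟨⟨x, hx⟩, V.ι.isOpenEmbedding.injective ((hgV _).trans hxy)⟩⟩
  have h1 : IsOpen (V.ι ⁻¹' Z) := (Flat.isQuotientMap_of_surjective g).isOpen_preimage.1 (by
    have : g ⁻¹' (V.ι ⁻¹' Z) = W.ι ⁻¹' (f.base ⁻¹' Z) := Set.ext fun x => by simp [hgV]
    rw [this]
    exact h.preimage W.ι.continuous)
  exact ⟨V.ι '' (V.ι ⁻¹' Z), Set.image_preimage_subset _ _, V.ι.isOpenEmbedding.isOpenMap _ h1,
    ⟨⟨s, hsV⟩, hs, rfl⟩⟩

end Groth.Agent.Lib.ImgMT.RedRank
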