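import Groth.Agent.Lib.ImgMT.Lead
import Mathlib.RingTheory.Localization.AtPrime.Basic
import Mathlib.RingTheory.Localization.Away.Basic
import Mathlib.RingTheory.Localization.FractionRing
import Mathlib.Tactic.LinearCombination

/-!
# Integral translates of rational functions are constant on the special fibre
-/

set_option autoImplicit false
set_option linter.unusedSectionVars false
universe u v

namespace Groth.Agent.Lib.ImgMT

variable (V : Type u) [CommRing V] [IsDomain V] [ValuationRing V] (N : Type) [CommGroup N]

/-- The prime of the unit point of the special fibre. -/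
noncomputable abbrev unitPrime : Ideal (MonoidAlgebra V N) := (IsLocalRing.maximalIdeal V).comap (aug V (N := N))

instance isPrime_unitPrime : (unitPrime V N).IsPrime := Ideal.IsPrime.comap _

/-- The local ring at the unit point of the special fibre. -/
noncomputable abbrev Loc : Type u := Localization.AtPrime (unitPrime V N)

variable {V N}

theorem isUnit_aug (d : (unitPrime V N).primeCompl) : IsUnit (aug V (N := N) d) :=
  IsLocalRing.notMem_maximalIdeal.1 d.2

/-- Evaluation at the unit point. -/
noncomputable def evOne : Loc V N →+* V :=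
  IsLocalization.lift (M := (unitPrime V N).primeCompl) (g := (aug V (N := N)).toRingHom) isUnit_aug

@[simp] theorem evOne_alg (x : MonoidAlgebra V N) :
    evOne (algebraMap _ (Loc V N) x) = aug V x :=
  IsLocalization.lift_eq (M := (unitPrime V N).primeCompl) isUnit_aug x

theorem isLocalHom_evOne : IsLocalHom (evOne (V := V) (N := N)) := ⟨fun x hx => by
  obtain ⟨⟨n, d⟩, hnd⟩ := IsLocalization.surj (unitPrime V N).primeCompl x
  have h1 := congrArg evOne hnd
  rw [map_mul, evOne_alg, evOne_alg] at h1
  have h2 : IsUnit (aug V n) := h1 ▸ hx.mul (isUnit_aug d)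
  have h3 : IsUnit (algebraMap _ (Loc V N) n) :=
    IsLocalization.map_units (M := (unitPrime V N).primeCompl) (Loc V N)
      ⟨n, fun hn => IsLocalRing.notMem_maximalIdeal.2 h2 hn⟩
  exact isUnit_of_mul_isUnit_left (hnd ▸ h3)⟩

variable (K : Type u) [Field K] [Algebra V K] [IsFractionRing V K] [IsDomain (MonoidAlgebra K N)]
  [IsDomain (MonoidAlgebra (IsLocalRing.ResidueField V) N)]

theorem isUnit_gen (d : (unitPrime V N).primeCompl) :
    IsUnit (algebraMap (MonoidAlgebra K N) (FractionRing (MonoidAlgebra K N))
      (MonoidAlgebra.mapRingHom N (algebraMap V K) d)) := by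
  refine isUnit_iff_ne_zero.2 ((map_ne_zero_iff _ (IsFractionRing.injective _ _)).2 fun h => ?_)
  have h1 := congrArg (aug K) h
  rw [map_zero, aug_map] at h1
  exact ((isUnit_aug d).map (algebraMap V K)).ne_zero h1

/-- The map to the generic fibre. -/
noncomputable def toGen : Loc V N →+* FractionRing (MonoidAlgebra K N) :=
  IsLocalization.lift (M := (unitPrime V N).primeCompl)
    (g := (algebraMap (MonoidAlgebra K N) _).comp (MonoidAlgebra.mapRingHom N (algebraMap V K))) (isUnit_gen K)

@[simp] theorem toGen_alg (x : MonoidAlgebra V N) :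
    toGen K (algebraMap _ (Loc V N) x) =
      algebraMap (MonoidAlgebra K N) _ (MonoidAlgebra.mapRingHom N (algebraMap V K) x) :=
  IsLocalization.lift_eq (M := (unitPrime V N).primeCompl) (isUnit_gen K) x

theorem isUnit_spec (d : (unitPrime V N).primeCompl) :
    IsUnit (algebraMap (MonoidAlgebra (IsLocalRing.ResidueField V) N)
      (FractionRing (MonoidAlgebra (IsLocalRing.ResidueField V) N)) (redHom d)) := by
  refine isUnit_iff_ne_zero.2 ((map_ne_zero_iff _ (IsFractionRing.injective _ _)).2 fun h => ?_)
  have h1 := congrArg (aug (IsLocalRing.ResidueField V)) h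
  rw [redHom, aug_map, map_zero] at h1
  exact ((isUnit_aug d).map (IsLocalRing.residue V)).ne_zero h1

/-- The map to the special fibre. -/
noncomputable def toSpec : Loc V N →+* FractionRing (MonoidAlgebra (IsLocalRing.ResidueField V) N) :=
  IsLocalization.lift (M := (unitPrime V N).primeCompl)
    (g := (algebraMap (MonoidAlgebra (IsLocalRing.ResidueField V) N) _).comp redHom) isUnit_spec

@[simp] theorem toSpec_alg (x : MonoidAlgebra V N) :
    toSpec (algebraMap _ (Loc V N) x) =
      algebraMap (MonoidAlgebra (IsLocalRing.ResidueField V) N) _ (redHom x) :=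
  IsLocalization.lift_eq (M := (unitPrime V N).primeCompl) isUnit_spec x

variable [IsDomain (MonoidAlgebra V N)]

variable {K} (χ : N →* K)

/-- For a good exponent, integrality at the unit point forces the special value to be constant. -/
theorem exists_finite_bad (hinj : ∀ m, ValuationRing.valuation V K (χ m) = 1 → m = 1)
    {Q : MonoidAlgebra V N} (hQ : Q ≠ 0) {B : Type v} [CommRing B] (b : B →+* Localization.Away Q) (FB : Finset B) :
    ∃ bad : Set ℕ, bad.Finite ∧ ∀ (i : ℕ), i ∉ bad →
      ∀ (τ : Localization.Away Q →+* FractionRing (MonoidAlgebra K N)),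
        (∀ z, τ (algebraMap _ _ z) = algebraMap (MonoidAlgebra K N) _ (twist (V := V) χ i z)) →
        ∀ a : B →+* Loc V N, (toGen K).comp a = τ.comp b →
          ∀ x ∈ FB, toSpec (a x) = toSpec (algebraMap _ (Loc V N) (MonoidAlgebra.single (1 : N) (evOne (a x)))) := by
  classical
  choose sP P hP using fun x : B => IsLocalization.Away.surj Q (b x)
  let elts : Finset B := FB ∪ FB.image (· + 1)
  let badS : MonoidAlgebra V N → Set ℕ := fun Z =>
    {i : ℕ | ∃ m ∈ Z.coeff.support, ∃ m' ∈ Z.coeff.support, m ≠ m' ∧ wt χ Z i m = wt χ Z i m'}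
  refine ⟨⋃ x ∈ elts, badS (P x) ∪ badS (Q ^ sP x),
    elts.finite_toSet.biUnion fun x _ => (finite_bad χ hinj _).union (finite_bad χ hinj _),
    fun i hi τ hτ a hab => ?_⟩
  let k := IsLocalRing.ResidueField V
  let toE := algebraMap (MonoidAlgebra k N) (FractionRing (MonoidAlgebra k N))
  have htoE : Function.Injective toE := IsFractionRing.injective _ _
  have hone : ∀ x ∈ elts, ∃ p q : N, toSpec (a x) * toE (MonoidAlgebra.single q 1) =
      toE (MonoidAlgebra.single p (IsLocalRing.residue V (evOne (a x)))) := by
    intro x hx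
    obtain ⟨⟨n, d⟩, hnd⟩ := IsLocalization.surj (unitPrime V N).primeCompl (a x)
    have hbad : i ∉ badS (P x) ∧ i ∉ badS (Q ^ sP x) :=
      ⟨fun h => hi (Set.mem_iUnion₂.2 ⟨x, hx, Or.inl h⟩), fun h => hi (Set.mem_iUnion₂.2 ⟨x, hx, Or.inr h⟩)⟩
    have h2 := congrArg τ (hP x)
    rw [map_mul, map_pow, hτ, hτ, show τ (b x) = toGen K (a x) from (DFunLike.congr_fun hab x).symm, ← map_pow,
      ← map_pow] at h2
    have h3 := congrArg (toGen K) hnd
    rw [map_mul, toGen_alg, toGen_alg] at h3
    have h4 : MonoidAlgebra.mapRingHom N (algebraMap V K) n * twist χ i (Q ^ sP x) =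
        MonoidAlgebra.mapRingHom N (algebraMap V K) d * twist χ i (P x) :=
      IsFractionRing.injective (MonoidAlgebra K N) (FractionRing (MonoidAlgebra K N)) (by
        rw [map_mul, map_mul, ← h3, ← h2]
        ring)
    obtain ⟨z, p, q, hz, hpq⟩ := monomial_of_eq χ (pow_ne_zero _ hQ) i
      (fun m hm m' hm' h => by_contra fun hne => hbad.1 ⟨m, hm, m', hm', hne, h⟩)
      (fun m hm m' hm' h => by_contra fun hne => hbad.2 ⟨m, hm, m', hm', hne, h⟩) (isUnit_aug d) h4
    have hz' : evOne (a x) = z := by
      have h5 := congrArg evOne hnd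
      rw [map_mul, evOne_alg, evOne_alg, hz] at h5
      exact (isUnit_aug d).mul_right_cancel h5
    refine ⟨p, q, (isUnit_spec d).mul_left_cancel ?_⟩
    have h6 := congrArg toSpec hnd
    rw [map_mul, toSpec_alg, toSpec_alg] at h6
    rw [← map_mul (algebraMap (MonoidAlgebra k N) (FractionRing (MonoidAlgebra k N))) (redHom d.1), hz', ← hpq,
      map_mul, ← h6]
    ring
  intro x hx
  obtain ⟨p, q, hpq⟩ := hone x (Finset.mem_union_left _ hx)
  obtain ⟨p', q', hpq'⟩ := hone (x + 1) (Finset.mem_union_right _ (Finset.mem_image_of_mem _ hx))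
  rw [toSpec_alg, show redHom (MonoidAlgebra.single (1 : N) (evOne (a x))) =
    MonoidAlgebra.single (1 : N) (IsLocalRing.residue V (evOne (a x))) by simp [redHom]]
  let c : k := IsLocalRing.residue V (evOne (a x))
  simp only [map_add, map_one] at hpq'
  have h1 : MonoidAlgebra.single (q' * p) c + MonoidAlgebra.single (q' * q) (1 : k) =
      MonoidAlgebra.single (p' * q) (c + 1) := by
    apply htoE
    rw [show MonoidAlgebra.single (q' * p) c = MonoidAlgebra.single q' (1 : k) * MonoidAlgebra.single p c by
        rw [MonoidAlgebra.single_mul_single, _root_.one_mul],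
      show MonoidAlgebra.single (q' * q) (1 : k) = MonoidAlgebra.single q' (1 : k) * MonoidAlgebra.single q 1 by
        rw [MonoidAlgebra.single_mul_single, _root_.one_mul],
      show MonoidAlgebra.single (p' * q) (c + 1) = MonoidAlgebra.single p' (c + 1) * MonoidAlgebra.single q (1 : k) by
        rw [MonoidAlgebra.single_mul_single, _root_.mul_one],
      map_add, map_mul, map_mul, map_mul, ← hpq, ← hpq']
    ring
  have hsq : toE (MonoidAlgebra.single q 1) ≠ 0 := (map_ne_zero_iff _ htoE).2 fun h => one_ne_zero (α := k) (by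
    simpa using congrArg (fun z : MonoidAlgebra k N => z.coeff q) h)
  refine mul_right_cancel₀ hsq (hpq.trans ?_)
  show toE (MonoidAlgebra.single p c) = toE (MonoidAlgebra.single 1 c) * toE (MonoidAlgebra.single q 1)
  rw [← map_mul, MonoidAlgebra.single_mul_single, _root_.one_mul, _root_.mul_one]
  rcases eq_or_ne c 0 with hc | hc
  · simp [hc]
  · suffices p = q by rw [this]
    by_contra hpq0
    have hne : q' * p ≠ q' * q := fun h => hpq0 (mul_left_cancel h)
    have ha1 := congrArg (fun z : MonoidAlgebra k N => z.coeff (q' * p)) h1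
    have ha2 := congrArg (fun z : MonoidAlgebra k N => z.coeff (q' * q)) h1
    simp only [MonoidAlgebra.coeff_add, Finsupp.add_apply, MonoidAlgebra.coeff_single, Finsupp.single_apply] at ha1 ha2
    rw [if_pos trivial, if_neg (Ne.symm hne), add_zero] at ha1
    rw [if_neg hne, if_pos trivial, zero_add] at ha2
    by_cases h3 : p' * q = q' * p
    · rw [if_neg (fun h => hne (h3.symm.trans h))] at ha2
      exact one_ne_zero ha2
    · rw [if_neg h3] at ha1
      exact hc ha1

end Groth.Agent.Lib.ImgMT
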