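import Groth.Agent.Lib.ImgMT.ImageMT
import Groth.Agent.H87.HomGlobal
import Groth.Agent.H87.SplitMax
import Groth.Agent.Lib.Henselian.Sections
import Groth.Agent.Lib.ImgMT.Subtori

/-!
# Split tori of smooth affine groups over henselian local rings
-/

set_option autoImplicit false
set_option linter.unusedSectionVars false
universe u

open CategoryTheory MonoidalCategory CartesianMonoidalCategory MonObj GrpObj AlgebraicGeometry
open CategoryTheory.Limits
open Groth.Agent.Lib.RedPts Groth.Agent.Lib.Tori Groth.Agent.H87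

namespace Groth.Agent.Lib.ImgMT.SplitHens

set_option linter.style.haveILetI false

section Local

variable {S : Scheme.{u}}

local notation "B" => S

/-- **The image of a homomorphism of a split torus is a split torus.** -/
theorem exists_image_split (s₀ : S) (hs₀ : ∀ x : S, x ⤳ s₀) {G : Over S} [GrpObj G] [IsSeparated G.hom]
    [QuasiCompact G.hom] [LocallyOfFinitePresentation G.hom] {M : Type} [AddCommGroup M] [AddGroup.FG M]
    [IsAddTorsionFree M] (f : Red.DS S M ⟶ G) [IsMonHom f] :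
    ∃ (r : ℕ) (j : Red.DS S (Fin r → ℤ) ⟶ G)
      (f' : Red.DS S M ⟶ Red.DS S (Fin r → ℤ)),
      IsMonHom j ∧ Mono j ∧ IsMonHom f' ∧ IsCov f' ∧ f' ≫ j = f := by
  haveI : IsAffineHom (Red.DS B M).hom := DS.isAffineHom _ _
  obtain ⟨Q, gQ, j, hjm, f', hf'm, hjmono, -, hcov, hfac, hQ, -⟩ := exists_image_charts (𝟙 B)
    (fun W hW => ⟨W, hW.isCompact, Set.image_id _⟩) (fun _ => ⊤) (fun _ => trivial) (fun _ => M)
    (fun _ => ⟨BaseChange.bcCongr (Category.comp_id _) _ ≪≫ DS.dsBC M _⟩) f
  obtain ⟨V, hV, Λ, hΛ, ⟨e⟩⟩ := hQ s₀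
  have hVt : ∀ x, x ∈ V := fun x => (hs₀ x).mem_open V.2 hV
  let l := IsOpenImmersion.lift V.ι (𝟙 B) (by
    rw [Scheme.Opens.range_ι]; exact fun x _ => hVt x)
  haveI : AddGroup.FG Λ := (AddGroup.fg_iff_addSubgroup_fg Λ).mpr hΛ
  haveI : Module.Finite ℤ Λ := Module.Finite.iff_addGroup_fg.mpr inferInstance
  haveI : IsAddTorsionFree Λ := Function.Injective.isAddTorsionFree Λ.subtype Λ.subtype_injective
  haveI : Module.Free ℤ Λ := inferInstance
  let e₁ : Grp.mk Q ≅ Grp.mk (Red.DS B (Fin (Module.finrank ℤ Λ) → ℤ)) :=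
    (BaseChange.bcId Q).symm ≪≫ BaseChange.bcCongr (by rw [← Category.assoc, IsOpenImmersion.lift_fac, Category.id_comp]) Q ≪≫
      Charts.resChart e l ≪≫ DS.dsIso _ (Module.finBasis ℤ Λ).equivFun.toAddEquiv.symm
  let E := BaseChange.overIso e₁
  haveI : IsMonHom E.inv := inferInstanceAs (IsMonHom (BaseChange.overIso e₁.symm).hom)
  haveI : IsMonHom E.hom := BaseChange.isMonHom_overIso _
  haveI : Mono E.inv := @IsIso.mono_of_iso _ _ _ _ _ (Iso.isIso_inv _)
  haveI : Mono E.hom := @IsIso.mono_of_iso _ _ _ _ _ (Iso.isIso_hom _)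
  refine ⟨_, E.inv ≫ j, f' ≫ E.hom, inferInstance, mono_comp _ _, inferInstance, ?_,
    by rw [Category.assoc, Iso.hom_inv_id_assoc, hfac]⟩
  refine hcov.comp ?_
  haveI : IsIso E.hom.left := inferInstanceAs (IsIso ((Over.forget _).map E.hom))
  exact ⟨inferInstance, inferInstance, inferInstance⟩

/-- A monomorphism of split tori which is an isomorphism on the closed fibre is an isomorphism. -/
theorem isIso_of_closed {T : Scheme.{u}} (c : T ⟶ S) (t₀ : T) {r r' : ℕ} (g : Red.DS S (Fin r → ℤ) ⟶ Red.DS S (Fin r' → ℤ))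
    [IsMonHom g] [Mono g] (h : IsIso ((Over.pullback c).map g)) : IsIso g := by
  let a := BaseChange.overIso (DS.dsBC (S := B) (Fin r → ℤ) c)
  let b := BaseChange.overIso (DS.dsBC (S := B) (Fin r' → ℤ) c)
  haveI : IsMonHom a.inv := inferInstanceAs (IsMonHom (BaseChange.overIso (DS.dsBC (S := B) (Fin r → ℤ) c).symm).hom)
  haveI : IsMonHom b.inv := inferInstanceAs (IsMonHom (BaseChange.overIso (DS.dsBC (S := B) (Fin r' → ℤ) c).symm).hom)
  haveI : IsMonHom a.hom := BaseChange.isMonHom_overIso _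
  haveI : IsMonHom b.hom := BaseChange.isMonHom_overIso _
  haveI := h
  let v := a.inv ≫ (Over.pullback c).map g ≫ b.hom
  haveI : IsIso v := inferInstance
  haveI : IsMonHom v := inferInstance
  haveI : IsMonHom (inv v) := HomDS.isMonHom_of_points _ fun X p q => by
    rw [← cancel_mono v, MonObj.mul_comp _ _ v]
    simp [Category.assoc]
  have h1 := Factor.rank_le v t₀
  have h2 := Factor.rank_le (inv v) t₀
  obtain rfl : r = r' := le_antisymm h1 h2
  exact SplitMax.isIso_of_split (Basic.isSplit_DS _ _) (Basic.isSplit_DS _ _) g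

end Local

/-- The closed point of `Spec O`, as a morphism. -/
noncomputable abbrev cl (O : Type u) [CommRing O] [IsLocalRing O] :
    Spec (CommRingCat.of (IsLocalRing.ResidueField O)) ⟶ Spec (CommRingCat.of O) :=
  Spec.map (CommRingCat.ofHom (IsLocalRing.residue O))

section Hens

variable {O : Type u} [CommRing O] [HenselianLocalRing O]

/-- **Homomorphisms from tori lift from the closed fibre.** -/
theorem exists_hom_lift {H G : Over (Spec (CommRingCat.of O))} [GrpObj H] [GrpObj G] (hH : Red.IsTorus H)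
    [Smooth G.hom] [IsAffineHom G.hom] (u₀ : Red.bc (cl O) H ⟶ Red.bc (cl O) G) [IsMonHom u₀] :
    ∃ u : H ⟶ G, IsMonHom u ∧ (Over.pullback (cl O)).map u = u₀ := by
  obtain ⟨R, υ, ⟨hυ, hrep⟩, hs, -⟩ := HomGlobal.of_isTorus (G := G) hH
  let T : Over (Spec (CommRingCat.of O)) := Over.mk (cl O)
  let φ : H ⊗ T ⟶ G := Over.homMk (U := H ⊗ T) (u₀.left ≫ pullback.fst G.hom (cl O)) (by
    show (u₀.left ≫ pullback.fst G.hom (cl O)) ≫ G.hom = _
    rw [Category.assoc, pullback.condition, ← Category.assoc]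
    rw [show u₀.left ≫ pullback.snd G.hom (cl O) = pullback.snd H.hom (cl O) from Over.w u₀]
    exact pullback.condition.symm)
  have hφ : AutFam.IsHomFamily H G φ := by
    intro X g₁ g₂ t
    let Y : Over (Spec (CommRingCat.of (IsLocalRing.ResidueField O))) := Over.mk t.left
    let ε : (Over.map (cl O)).obj Y ≅ X := Over.isoMk (Iso.refl _) (by
      show 𝟙 _ ≫ X.hom = t.left ≫ cl O
      rw [Category.id_comp]; exact (Over.w t).symm)
    have key : ∀ g : X ⟶ H, lift g t ≫ φ = ε.inv ≫ BC.down (cl O) (BC.up (cl O) (ε.hom ≫ g) ≫ u₀) := fun g => by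
      apply Over.OverMorphism.ext
      show (lift g t).left ≫ u₀.left ≫ _ = 𝟙 _ ≫ ((BC.up (cl O) (ε.hom ≫ g)).left ≫ u₀.left) ≫ _
      rw [Category.id_comp, Category.assoc]
      refine congrArg (· ≫ _) (pullback.hom_ext ?_ ?_)
      · have h1 : (BC.up (cl O) (ε.hom ≫ g)).left ≫ pullback.fst H.hom (cl O) = (ε.hom ≫ g).left :=
          congrArg CommaMorphism.left (BC.down_up (f := cl O) (ε.hom ≫ g))
        refine Eq.trans ?_ h1.symm
        exact (congrArg CommaMorphism.left (lift_fst g t)).trans (Category.id_comp g.left).symm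
      · exact (congrArg CommaMorphism.left (lift_snd g t)).trans (Over.w (BC.up (cl O) (ε.hom ≫ g))).symm
    rw [key, key, key, ← comp_mul, comp_mul ε.hom, BC.up_mul, MonObj.mul_comp, BC.down_mul]
  obtain ⟨a, ha, -⟩ := hrep T φ hφ
  obtain ⟨s, hsec, hsc⟩ := Groth.Agent.Lib.Henselian.Sections.exists_section_of_smooth R.hom a.left (Over.w a)
  let σ : 𝟙_ (Over (Spec (CommRingCat.of O))) ⟶ R := Over.homMk s hsec
  let u : H ⟶ G := lift (𝟙 H) (toUnit H ≫ σ) ≫ υ
  have hu : ∀ {X : Over (Spec (CommRingCat.of O))} (x : X ⟶ H), x ≫ u = lift x (toUnit X ≫ σ) ≫ υ := fun {X} x => by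
    rw [← Category.assoc, comp_lift, Category.comp_id, ← Category.assoc, toUnit_unique (x ≫ toUnit H) (toUnit X)]
  haveI hum : IsMonHom u := HomDS.isMonHom_of_points u fun X p q => by
    rw [hu, hu, hu]; exact hυ X p q _
  refine ⟨u, hum, ?_⟩
  have hwa : a = toUnit T ≫ σ := by
    apply Over.OverMorphism.ext
    refine hsc.symm.trans ?_
    exact congrArg (· ≫ s) ((Category.comp_id _).symm.trans (Over.w (toUnit T)).symm)
  have h1 : φ = fst H T ≫ u := by
    rw [hu, ← ha, hwa, show (H ◁ (toUnit T ≫ σ)) = lift (fst H T) (snd H T ≫ toUnit T ≫ σ) from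
      CartesianMonoidalCategory.hom_ext _ _ (by simp) (by simp), ← Category.assoc (snd H T),
      toUnit_unique (snd H T ≫ toUnit T) (toUnit (H ⊗ T))]
  apply Over.OverMorphism.ext
  refine pullback.hom_ext ?_ ?_
  · refine (pullback.lift_fst _ _ _).trans ?_
    exact (congrArg CommaMorphism.left h1).symm
  · exact (Over.w ((Over.pullback (cl O)).map u)).trans (Over.w u₀).symm

end Hens

end Groth.Agent.Lib.ImgMT.SplitHens
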